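import Groth.Agent.AlgSpLib.RepGlue
import Groth.Agent.AlgSpLib.ImmersionDescent
import Groth.Agent.AlgSpLib.UnivClosed
import Groth.Agent.FtPoint.Basic
import Mathlib

/-!
Covers by charts, diagonals over the base, universal openness and injectivity of morphisms of algebraic spaces.
-/

set_option autoImplicit false
set_option backward.isDefEq.respectTransparency.types false

universe u

open CategoryTheory CategoryTheory.Limits AlgebraicGeometry Opposite AlgSp Topology

namespace Groth.Agent.AlgSpPts

open Groth.Agent.AlgSpLib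

variable {S : Scheme.{u}}

/-- An etale chart of an algebraic space is an fpqc covering. -/
theorem isFpqcCover_chart {Y : Sp S} (hY : IsAlgSpace Y) {V : Over S} (p : (yon S).obj V ⟶ Y)
    (hp : RepWith @Etale p) (hps : RepWith @Surjective p) :
    IsFpqcCover (fun _ : PUnit.{u + 1} => (yon S).obj V) (fun _ => p) :=
  isFpqcCover_of_isFppfCover S hY (fun _ => IsAlgSpace.yon_obj V)
    ⟨fun _ => ⟨locP_of_repWith hp fun _ _ _ k m hk hm => EtLocal.comp_etale k m hk
        (EtLocal.of_etale (P := @Flat) m hm),
      locP_of_repWith hp fun _ _ _ k m hk hm => EtLocal.comp_etale k m hk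
        (EtLocal.of_etale (P := @LocallyOfFinitePresentation) m hm)⟩,
      fun y => ⟨⟨⟩, surjective_map_of_repWith hps y⟩⟩

/-- The affine opens of a chart form an fpqc covering. -/
theorem exists_affine_cover {Y : Sp S} (hY : IsAlgSpace Y) :
    ∃ (ι : Type u) (V : ι → Over S) (p : ∀ i, (yon S).obj (V i) ⟶ Y),
      (∀ i, IsAffine (V i).left) ∧ IsFpqcCover (fun i => (yon S).obj (V i)) p := by
  obtain ⟨U, a, ha, has⟩ := hY.atlas
  let V : U.left.affineOpens → Over S := fun A => Over.mk (A.1.ι ≫ U.hom)
  let e : ∀ A, V A ⟶ U := fun A => Over.homMk A.1.ι rfl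
  have hp : ∀ A, RepWith @Etale ((yon S).map (e A) ≫ a) := fun A =>
    repWith_yon_comp (e A) (inferInstanceAs (Etale A.1.ι)) ha
  refine ⟨_, V, fun A => (yon S).map (e A) ≫ a, fun A => A.2,
    isFpqcCover_of_isFppfCover S hY (fun A => IsAlgSpace.yon_obj (V A)) ⟨fun A => ⟨?_, ?_⟩, fun y => ?_⟩⟩
  · exact locP_of_repWith (hp A) fun _ _ _ k m hk hm => EtLocal.comp_etale k m hk
      (EtLocal.of_etale (P := @Flat) m hm)
  · exact locP_of_repWith (hp A) fun _ _ _ k m hk hm => EtLocal.comp_etale k m hk
      (EtLocal.of_etale (P := @LocallyOfFinitePresentation) m hm)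
  · obtain ⟨t, rfl⟩ := surjective_ofPt has y
    obtain ⟨A, hA, htA, -⟩ := exists_isAffineOpen_mem_and_subset (X := U.left) (x := t) (U := ⊤) trivial
    refine ⟨⟨A, hA⟩, Points.ofPt (𝟙 _) (⟨t, htA⟩ : A.toScheme), ?_⟩
    rw [map_ofPt_id, ofPt_comp]
    rfl

/-- Properties of diagonals may be checked after base change to affine schemes. -/
theorem repWith_diagonal_iff_affine {P : MorphismProperty Scheme.{u}} [IsZariskiLocalAtTarget P]
    [P.DescendsAlong (@Surjective ⊓ @Flat ⊓ @QuasiCompact)] {X Y : Sp S} (hX : IsAlgSpace X) (hY : IsAlgSpace Y)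
    (f : X ⟶ Y) :
    RepWith P (pullback.diagonal f) ↔
      ∀ (Z : Over S), IsAffine Z.left → ∀ (g : (yon S).obj Z ⟶ Y) (P' : Sp S) (fst : P' ⟶ X)
        (snd : P' ⟶ (yon S).obj Z), IsPullback fst snd f g → RepWith P (pullback.diagonal snd) := by
  refine ⟨fun h Z _ g P' fst snd sq => repWith_diagonal_baseChange sq h, fun h => ?_⟩
  obtain ⟨ι, V, p, hV, hc⟩ := exists_affine_cover hY
  exact repWith_diagonal_of_fpqc hc hX (p := fun i => pullback.snd f (p i))
    (fun i => IsPullback.of_hasPullback f (p i))
    fun i => h _ (hV i) (p i) _ _ _ (IsPullback.of_hasPullback f (p i))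

theorem repWith_diagonal_of_chart {P : MorphismProperty Scheme.{u}} [IsZariskiLocalAtTarget P]
    [P.DescendsAlong (@Surjective ⊓ @Flat ⊓ @QuasiCompact)] {X Y : Sp S} (hX : IsAlgSpace X) (hY : IsAlgSpace Y)
    (f : X ⟶ Y) {V : Over S} (p : (yon S).obj V ⟶ Y) (hp : RepWith @Etale p) (hps : RepWith @Surjective p)
    {P' : Sp S} (fst : P' ⟶ X) (snd : P' ⟶ (yon S).obj V) (sq : IsPullback fst snd f p)
    (h : RepWith P (pullback.diagonal snd)) : RepWith P (pullback.diagonal f) :=
  repWith_diagonal_of_fpqc (isFpqcCover_chart hY p hp hps) hX (fun _ => sq) fun _ => h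

/-- The structure morphism to the base, as a morphism of sheaves. -/
noncomputable def toBase (F : Sp S) : F ⟶ (yon S).obj (Over.mk (𝟙 S)) :=
  (IsTerminal.isTerminalObj (yon S) _ Over.mkIdTerminal).from F

theorem toBase_eq {F : Sp S} (a b : F ⟶ (yon S).obj (Over.mk (𝟙 S))) : a = b :=
  (IsTerminal.isTerminalObj (yon S) _ Over.mkIdTerminal).hom_ext a b

/-- The diagonal over the base is the diagonal of the structure morphism. -/
theorem exists_iso_diag (F : Sp S) :
    ∃ e : pullback (toBase F) (toBase F) ≅ F ⨯ F, pullback.diagonal (toBase F) ≫ e.hom = Limits.diag F := by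
  refine ⟨⟨Limits.prod.lift (pullback.fst _ _) (pullback.snd _ _),
    pullback.lift Limits.prod.fst Limits.prod.snd (toBase_eq _ _), ?_, ?_⟩, ?_⟩
  · apply pullback.hom_ext
    · erw [Category.assoc, pullback.lift_fst, Limits.prod.lift_fst, Category.id_comp]
    · erw [Category.assoc, pullback.lift_snd, Limits.prod.lift_snd, Category.id_comp]
  · apply Limits.prod.hom_ext
    · erw [Category.assoc, Limits.prod.lift_fst, pullback.lift_fst, Category.id_comp]
    · erw [Category.assoc, Limits.prod.lift_snd, pullback.lift_snd, Category.id_comp]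
  · apply Limits.prod.hom_ext <;> simp

theorem repWith_diag_iff_toBase {P : MorphismProperty Scheme.{u}} [P.IsStableUnderBaseChange] (F : Sp S) :
    RepWith P (pullback.diagonal (toBase F)) ↔ RepWith P (Limits.diag F) := by
  have : P.RespectsIso := MorphismProperty.IsStableUnderBaseChange.respectsIso
  obtain ⟨e, he⟩ := exists_iso_diag F
  rw [← he]
  exact (MorphismProperty.cancel_right_of_respectsIso (RepWith (S := S) P) _ e.hom).symm

theorem repWith_lft_lqf_diagonal {X Y : Sp S} (hX : IsAlgSpace X) (hY : IsAlgSpace Y) (f : X ⟶ Y) :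
    RepWith ((@LocallyQuasiFinite : MorphismProperty Scheme.{u}) ⊓ @LocallyOfFiniteType)
      (pullback.diagonal f) :=
  (locP_iff_repWith (isAlgSpace_pullback f f hX hX hY) (representable_diagonal hX f)).1
    (AlgStLib.locP_diagonal (P := (@LocallyQuasiFinite : MorphismProperty Scheme.{u}) ⊓ @LocallyOfFiniteType)
      (fun _ _ _ k m h => AlgStLib.lqf_cancel k m h) hX hY)

theorem repWith_mono_diagonal {X Y : Sp S} (hX : IsAlgSpace X) (f : X ⟶ Y) :
    RepWith (MorphismProperty.monomorphisms Scheme.{u}) (pullback.diagonal f) := by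
  refine repWith_of_rep (representable_diagonal hX f) fun U V g fst snd sq => ?_
  have : Mono ((yon S).map snd) := MorphismProperty.of_isPullback (P := MorphismProperty.monomorphisms (Sp S)) sq
    (MorphismProperty.monomorphisms.infer_property _)
  have : Mono snd := (yon S).mono_of_mono_map this
  exact (inferInstance : Mono ((Over.forget S).map snd))

/-- Universal openness is tested on affine schemes over the target. -/
theorem isUnivOpenMor_iff_affine {X Y : Sp S} (f : X ⟶ Y) :
    IsUnivOpenMor f ↔
      ∀ (Z : Over S), IsAffine Z.left → ∀ (g : (yon S).obj Z ⟶ Y) (P : Sp S) (fst : P ⟶ X)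
        (snd : P ⟶ (yon S).obj Z), IsPullback fst snd f g → IsOpenMap (Points.map snd) := by
  refine ⟨fun h Z _ g P fst snd sq => h (IsAlgSpace.yon_obj Z) g fst snd sq, fun h Z Z' hZ g fst snd sq C hC => ?_⟩
  refine Points.isOpen_iff.2 fun T ψ => ?_
  refine (TopologicalSpace.IsOpenCover.isOpen_iff_coe_preimage (U := fun A : T.left.affineOpens => A.1)
    (iSup_affineOpens_eq_top T.left)).2 fun A => ?_
  let W : Over S := Over.mk (A.1.ι ≫ T.hom)
  let j : W ⟶ T := Over.homMk A.1.ι
  have : IsAffine W.left := A.2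
  let k := (yon S).map j ≫ ψ
  have hc := h W A.2 (k ≫ g) _ _ _ ((IsPullback.of_hasPullback snd k).paste_horiz sq)
    _ (hC.preimage (Points.continuous_map (pullback.fst snd k)))
  rw [← preimage_image_eq] at hc
  have hc' := hc.preimage (Points.continuous_ofPt (𝟙 ((yon S).obj W)))
  refine (?_ : IsOpen ((fun w : W.left => Points.ofPt ψ (j.left w)) ⁻¹' (Points.map snd '' C)))
  convert hc' using 1
  ext w
  show Points.ofPt ψ (j.left w) ∈ Points.map snd '' C ↔ Points.map k (Points.ofPt (𝟙 _) w) ∈ Points.map snd '' C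
  rw [map_ofPt_id, ofPt_comp]

/-- Two maps from the spectrum of a field which agree after some extension agree. -/
theorem eq_of_comp_eq {X : Sp S} (hX : IsAlgSpace X) {K : Type u} [Field K] {str : Spec (CommRingCat.of K) ⟶ S}
    {T : Over S} [Nonempty ↥T.left] (c : T ⟶ Over.mk str) (a b : (yon S).obj (Over.mk str) ⟶ X)
    (h : (yon S).map c ≫ a = (yon S).map c ≫ b) : a = b := by
  obtain ⟨W, snd, fst, sq⟩ := hX.diag (Limits.prod.lift a b)
  have : Mono ((yon S).map snd) := MorphismProperty.of_isPullback (P := MorphismProperty.monomorphisms (Sp S)) sq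
    (show Mono (Limits.diag X) from inferInstance)
  have : Mono snd := (yon S).mono_of_mono_map this
  have : Mono snd.left := (inferInstance : Mono ((Over.forget S).map snd))
  obtain ⟨d, -, hd⟩ := exists_lift sq ((yon S).map c ≫ a) c (by
    apply Limits.prod.hom_ext
    · simp only [Category.assoc, Limits.prod.lift_fst, Category.comp_id]
    · simp only [Category.assoc, Limits.prod.lift_snd, Category.comp_id]; exact h)
  let sn : W.left ⟶ Spec (CommRingCat.of K) := snd.left
  have hs : Surjective snd.left := ⟨fun y => ⟨d.left (Classical.arbitrary _),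
    @Subsingleton.elim ↥(Spec (CommRingCat.of K)) inferInstance _ _⟩⟩
  have hqc : QuasiCompact snd.left := by
    refine ⟨fun U _ _ => ?_⟩
    have : Subsingleton ↥W.left := ⟨fun x y => snd.left.injective
      (@Subsingleton.elim ↥(Spec (CommRingCat.of K)) inferInstance _ _)⟩
    exact (Set.toFinite _).isCompact
  have : Flat snd.left := inferInstanceAs (Flat sn)
  have : IsIso snd.left := Flat.isIso_of_surjective_of_mono snd.left
  have : IsIso ((Over.forget S).map snd) := this
  have : IsIso snd := isIso_of_reflects_iso snd (Over.forget S)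
  have e₁ := congrArg (· ≫ Limits.prod.fst) sq.w
  have e₂ := congrArg (· ≫ Limits.prod.snd) sq.w
  simp only [Category.assoc, Limits.prod.lift_fst, Limits.prod.lift_snd, Category.comp_id] at e₁ e₂
  exact (cancel_epi ((yon S).map snd)).1 (e₁.symm.trans e₂)

/-- A point of a base change along a field valued point. -/
theorem injective_of_isUnivInjectiveMor {X Y : Sp S} (hX : IsAlgSpace X) {f : X ⟶ Y} (hf : IsUnivInjectiveMor f)
    (K : Type u) [Field K] (str : Spec (CommRingCat.of K) ⟶ S) :
    Function.Injective (fun a : (yon S).obj (Over.mk str) ⟶ X => a ≫ f) := by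
  intro a b e
  let y : (yon S).obj (Over.mk str) ⟶ Y := a ≫ f
  have sq := IsPullback.of_hasPullback f y
  let sa := sq.lift a (𝟙 _) (Category.id_comp y).symm
  let sb := sq.lift b (𝟙 _) ((show b ≫ f = a ≫ f from e.symm).trans (Category.id_comp y).symm)
  have hinj := hf (IsAlgSpace.yon_obj _) y _ _ sq
  let p := FieldPt.mk (F := pullback f y) K str ((J S).uliftYonedaEquiv sa)
  let q := FieldPt.mk (F := pullback f y) K str ((J S).uliftYonedaEquiv sb)
  have hp : p.toHom = sa := Equiv.symm_apply_apply _ _
  have hq : q.toHom = sb := Equiv.symm_apply_apply _ _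
  have hpq : Points.mk p = Points.mk q := by
    apply hinj
    rw [← Points.ofPt_toHom p (IsLocalRing.closedPoint p.K), ← Points.ofPt_toHom q (IsLocalRing.closedPoint q.K),
      Points.map_ofPt, Points.map_ofPt, hp, hq, sq.lift_snd, sq.lift_snd]
  rw [Points.mk_eq_mk_iff, rel_iff_toHom] at hpq
  obtain ⟨Ω, hΩ, w, c, d, h⟩ := hpq
  rw [hp, hq] at h
  have hcd : c = d := (yon S).map_injective (by
    have h' := congrArg (· ≫ pullback.snd f y) h
    simp only [Category.assoc, sa, sb, sq.lift_snd] at h'
    rw [Category.comp_id, Category.comp_id] at h'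
    exact h')
  subst hcd
  have : Nonempty ↥(Over.mk w).left := inferInstanceAs (Nonempty ↥(Spec (CommRingCat.of Ω)))
  refine eq_of_comp_eq hX (T := Over.mk w) c a b ?_
  have h' := congrArg (· ≫ pullback.fst f y) h
  simp only [Category.assoc, sa, sb, sq.lift_fst] at h'
  exact h'

theorem surjective_diagonal_of_injective {X Y : Sp S} {f : X ⟶ Y}
    (h : ∀ (K : Type u) [Field K] (str : Spec (CommRingCat.of K) ⟶ S),
      Function.Injective (fun a : (yon S).obj (Over.mk str) ⟶ X => a ≫ f)) :
    IsSurjectiveMor (pullback.diagonal f) := by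
  intro z
  obtain ⟨p, hp⟩ := exists_ofPt z
  have e : p.toHom ≫ pullback.fst f f = p.toHom ≫ pullback.snd f f :=
    h p.K p.str (by simp [pullback.condition])
  refine ⟨Points.ofPt (p.toHom ≫ pullback.fst f f) (IsLocalRing.closedPoint p.K), ?_⟩
  rw [Points.map_ofPt]
  refine Eq.trans ?_ (hp (IsLocalRing.closedPoint p.K))
  congr 1
  apply pullback.hom_ext
  · simp
  · simp [e]

theorem injective_map_of_surjective_diagonal {X Y : Sp S} {f : X ⟶ Y}
    (h : IsSurjectiveMor (pullback.diagonal f)) : Function.Injective (Points.map f) := by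
  intro x₁ x₂ e
  obtain ⟨z, hz₁, hz₂⟩ := exists_point_of_isPullback (IsPullback.of_hasPullback f f) x₁ x₂ e
  obtain ⟨w, rfl⟩ := h z
  rw [← Points.map_comp, pullback.diagonal_fst, Points.map_id] at hz₁
  rw [← Points.map_comp, pullback.diagonal_snd, Points.map_id] at hz₂
  exact hz₁.symm.trans hz₂

theorem surjective_diagonal_baseChange {X Y X' Y' : Sp S} {f : X ⟶ Y} {g : Y' ⟶ Y} {fst : X' ⟶ X}
    {f' : X' ⟶ Y'} (sq : IsPullback fst f' f g) (h : IsSurjectiveMor (pullback.diagonal f)) :
    IsSurjectiveMor (pullback.diagonal f') :=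
  surjective_snd (diagonal_baseChange sq (IsPullback.of_hasPullback f' f') (pullback.diagonal_fst _)
    (pullback.diagonal_snd _)
    (pullback.lift (pullback.fst f' f' ≫ fst) (pullback.snd f' f' ≫ fst)
      (by rw [Category.assoc, Category.assoc, sq.w, reassoc_of% (pullback.condition (f := f') (g := f'))]))
    (pullback.lift_fst _ _ _) (pullback.lift_snd _ _ _)) h

theorem isUnivInjectiveMor_of_surjective_diagonal {X Y : Sp S} {f : X ⟶ Y}
    (h : IsSurjectiveMor (pullback.diagonal f)) : IsUnivInjectiveMor f :=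
  fun _ _ _ _ _ _ sq => injective_map_of_surjective_diagonal (surjective_diagonal_baseChange sq h)

end Groth.Agent.AlgSpPts
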