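import Groth.Agent.AlgSpPts.Decent

/-!
Noetherian topology on the points of a locally Noetherian algebraic space.
-/

set_option autoImplicit false
set_option backward.isDefEq.respectTransparency.types false

universe u

open CategoryTheory CategoryTheory.Limits AlgebraicGeometry Opposite AlgSp Topology TopologicalSpace

namespace Groth.Agent.AlgSpPts

open Groth.Agent.AlgSpLib

variable {S : Scheme.{u}}

/-- Every etale chart of a locally Noetherian algebraic space is locally Noetherian. -/
theorem isLocallyNoetherian_of_chart {X : Sp S} (hN : IsLocNoethSp X) {U : Over S}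
    {a : (yon S).obj U ⟶ X} (ha : RepWith @Etale a) : IsLocallyNoetherian U.left := by
  obtain ⟨U₀, b, hb, hbs, hU₀⟩ := hN
  obtain ⟨W, p, q, sq⟩ := exists_isPullback hb.1 a
  have : Etale q.left := prop_snd sq hb
  have : Surjective q.left := prop_snd sq hbs
  have : Etale p.left := prop_snd sq.flip ha
  have : IsLocallyNoetherian U₀.left := hU₀
  have : IsLocallyNoetherian W.left := LocallyOfFiniteType.isLocallyNoetherian p.left
  exact AlgStLib.isLocallyNoetherian_of_fppf q.left

theorem noetherianSpace_points {X : Sp S} (hN : IsLocNoethSp X) (hq : IsQuasiCompactSp X) :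
    NoetherianSpace (Points X) := by
  obtain ⟨U, a, ha, has, hU⟩ := hq
  have := isLocallyNoetherian_of_chart hN ha
  have : CompactSpace ↥U.left := hU
  have : IsNoetherian U.left := ⟨⟩
  exact noetherianSpace_of_surjective (Points.ofPt a) (Points.continuous_ofPt a) (surjective_ofPt has)

theorem exists_noetherianSpace_nhd {X : Sp S} (hX : IsAlgSpace X) (hN : IsLocNoethSp X) (x : Points X) :
    ∃ W : Set (Points X), IsOpen W ∧ x ∈ W ∧ NoetherianSpace ↥W := by
  obtain ⟨U, a, ha, has⟩ := hX.atlas
  have := isLocallyNoetherian_of_chart hN ha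
  obtain ⟨u, rfl⟩ := surjective_ofPt has x
  obtain ⟨A, hA, huA, -⟩ := exists_isAffineOpen_mem_and_subset (X := U.left) (x := u) (U := ⊤) trivial
  have : CompactSpace ↥A.toScheme := isCompact_iff_compactSpace.1 hA.isCompact
  have : IsLocallyNoetherian A.toScheme := isLocallyNoetherian_of_isOpenImmersion A.ι
  have : IsNoetherian A.toScheme := ⟨⟩
  have hNA : NoetherianSpace ↥(A : Set ↥U.left) := inferInstanceAs (NoetherianSpace ↥A.toScheme)
  refine ⟨Points.ofPt a '' (A : Set ↥U.left), isOpenMap_ofPt_of_etale ha _ A.2, ⟨u, huA, rfl⟩, ?_⟩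
  exact noetherianSpace_of_surjective (Set.MapsTo.restrict (Points.ofPt a) _ _ (Set.mapsTo_image _ _))
    ((Points.continuous_ofPt a).restrict _) (Set.surjective_mapsTo_image_restrict _ _)

/-- A reduced locally Noetherian algebraic space with a single point is regular. -/
theorem regular_of_subsingleton {Z : Sp S} (hZ : IsAlgSpace Z) (hr : EtaleLocally (fun U => IsReduced U) Z)
    (hN : IsLocNoethSp Z) [Subsingleton (Points Z)] :
    EtaleLocally (fun U => IsLocallyNoetherian U ∧ ∀ u : ↥U, IsRegularLocalRing ↥(U.presheaf.stalk u)) Z := by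
  obtain ⟨U, a, ha, has, hU⟩ := hr
  have hn := isLocallyNoetherian_of_chart hN ha
  have : IsReduced U.left := hU
  refine ⟨U, a, ha, has, hn, fun u => ?_⟩
  have hd : ringKrullDim ↥(U.left.presheaf.stalk u) = 0 := by
    rw [ringKrullDim_stalk_eq_coheight, Order.coheight_eq_zero.2 (isMax_iff_forall_not_lt.2 fun u' hu' =>
      hu'.ne (eq_of_specializes_of_ofPt_eq hZ hN ha u u' (Subsingleton.elim _ _) hu'.le))]
    rfl
  have : Ring.KrullDimLE 0 ↥(U.left.presheaf.stalk u) := (Ring.krullDimLE_iff).2 hd.le
  have hf : IsField ↥(U.left.presheaf.stalk u) := Ring.KrullDimLE.isField_of_isReduced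
  let := hf.toField
  exact (isRegularLocalRing_iff _).2 (by rw [hd]; simp [IsLocalRing.maximalIdeal_eq_bot])

end Groth.Agent.AlgSpPts
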