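import Groth.Agent.AlgSpPts.Basic
import Groth.Agent.AlgStLib.SpMorCalc

/-!
Quasi-compactness of morphisms of algebraic spaces over a quasi-separated base.
-/

set_option autoImplicit false
set_option backward.isDefEq.respectTransparency.types false

universe u

open CategoryTheory CategoryTheory.Limits AlgebraicGeometry Opposite AlgSp Topology

namespace Groth.Agent.AlgSpPts

open Groth.Agent.AlgSpLib

variable {S : Scheme.{u}}

theorem isPullback_prod_toBase (F G : Sp S) :
    IsPullback (Limits.prod.fst : F ⨯ G ⟶ F) Limits.prod.snd (toBase F) (toBase G) :=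
  IsPullback.of_isLimit' ⟨toBase_eq _ _⟩
    (PullbackCone.IsLimit.mk (toBase_eq _ _) (fun s => Limits.prod.lift s.fst s.snd)
      (fun s => Limits.prod.lift_fst _ _) (fun s => Limits.prod.lift_snd _ _)
      (fun s l h₁ h₂ => Limits.prod.hom_ext (by rw [Limits.prod.lift_fst]; exact h₁)
        (by rw [Limits.prod.lift_snd]; exact h₂)))

/-- A fibre product is a base change of the diagonal of the target. -/
theorem isPullback_diag_of_isPullback {F G Y P : Sp S} {a : F ⟶ Y} {b : G ⟶ Y} {fst : P ⟶ F} {snd : P ⟶ G}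
    (sq : IsPullback fst snd a b) :
    IsPullback (fst ≫ a) (Limits.prod.lift fst snd) (Limits.diag Y) (Limits.prod.map a b) := by
  refine IsPullback.of_isLimit' ⟨?_⟩ ?_
  · rw [Limits.prod.lift_map, Limits.prod.comp_diag, sq.w]
  refine PullbackCone.IsLimit.mk _ (fun s => sq.lift (s.snd ≫ Limits.prod.fst) (s.snd ≫ Limits.prod.snd) ?_)
    (fun s => ?_) (fun s => ?_) (fun s l h₁ h₂ => ?_)
  · have h₁ := congrArg (· ≫ Limits.prod.fst) s.condition
    have h₂ := congrArg (· ≫ Limits.prod.snd) s.condition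
    simp only [Category.assoc, Limits.prod.lift_fst, Limits.prod.lift_snd, Limits.prod.map_fst,
      Limits.prod.map_snd, Category.comp_id] at h₁ h₂
    rw [Category.assoc, Category.assoc, ← h₁, ← h₂]
  · have h₁ := congrArg (· ≫ Limits.prod.fst) s.condition
    simp only [Category.assoc, Limits.prod.lift_fst, Limits.prod.map_fst, Category.comp_id] at h₁
    rw [← Category.assoc, sq.lift_fst, Category.assoc, ← h₁]
  · apply Limits.prod.hom_ext
    · refine (Category.assoc _ _ _).trans ?_
      exact (congrArg _ (Limits.prod.lift_fst _ _)).trans (sq.lift_fst _ _ _)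
    · refine (Category.assoc _ _ _).trans ?_
      exact (congrArg _ (Limits.prod.lift_snd _ _)).trans (sq.lift_snd _ _ _)
  · apply sq.hom_ext
    · rw [sq.lift_fst, ← h₂, Category.assoc, Limits.prod.lift_fst]
    · rw [sq.lift_snd, ← h₂, Category.assoc, Limits.prod.lift_snd]

theorem isQuasiCompactSp_yon (W : Over S) (h : CompactSpace ↥W.left) : IsQuasiCompactSp ((yon S).obj W) :=
  ⟨W, 𝟙 _, repWith_id _ _, repWith_id _ _, h⟩

theorem repWith_qc_toBase_yon [QuasiSeparatedSpace ↥S] (U : Over S) [CompactSpace ↥U.left] :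
    RepWith @QuasiCompact (toBase ((yon S).obj U)) := by
  rw [toBase_eq (toBase _) ((yon S).map (Over.homMk U.hom (Category.comp_id _) : U ⟶ Over.mk (𝟙 S)))]
  exact (repWith_yon_map_iff _ _).2 (quasiCompact_of_compactSpace U.hom)

/-- A map from a quasi-compact space to a quasi-separated one over a quasi-separated base is quasi-compact. -/
theorem isQuasiCompactMor_of_qcqs [QuasiSeparatedSpace ↥S] {X Y : Sp S} (hX : IsAlgSpace X) (hY : IsAlgSpace Y)
    (f : X ⟶ Y) (hXc : IsQuasiCompactSp X) (hYs : IsQuasiSeparatedSp Y) : IsQuasiCompactMor f := by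
  intro Z Z' hZ hZc g fst snd sq
  obtain ⟨U, a, hU, ha, has⟩ := (isQuasiCompactSp_iff_affine hX).1 hXc
  obtain ⟨V, b, hV, hb, hbs⟩ := (isQuasiCompactSp_iff_affine hZ).1 hZc
  obtain ⟨W, p, q, sqW⟩ := exists_isPullback (hY.representable_from_yon (a ≫ f)) (b ≫ g)
  have h₁ : RepWith @QuasiCompact (Limits.prod.lift ((yon S).map p) ((yon S).map q)) :=
    repWith_baseChange (isPullback_diag_of_isPullback sqW) hYs
  have h₂ := repWith_comp h₁ (repWith_baseChange (isPullback_prod_toBase ((yon S).obj U) ((yon S).obj V))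
    (repWith_qc_toBase_yon U))
  rw [Limits.prod.lift_snd, repWith_yon_map_iff] at h₂
  have : CompactSpace ↥W.left := QuasiCompact.compactSpace_of_compactSpace q.left
  exact ⟨W, _, exists_chart_of_isPullback sq sqW ha hb, exists_chart_of_isPullback sq sqW has hbs, this⟩

/-- A map out of a quasi-separated space is quasi-separated. -/
theorem isQuasiSeparatedMor_of_sp {X Y : Sp S} (f : X ⟶ Y) (h : IsQuasiSeparatedSp X) : IsQuasiSeparatedMor f := by
  have : Mono (Limits.prod.lift (pullback.fst f f) (pullback.snd f f)) :=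
    ⟨fun u v e => pullback.hom_ext
      (by have h := congrArg (· ≫ Limits.prod.fst) e
          simp only [Category.assoc, Limits.prod.lift_fst] at h
          exact h)
      (by have h := congrArg (· ≫ Limits.prod.snd) e
          simp only [Category.assoc, Limits.prod.lift_snd] at h
          exact h)⟩
  refine repWith_of_comp_mono (P := @QuasiCompact) (pullback.diagonal f)
    (Limits.prod.lift (pullback.fst f f) (pullback.snd f f)) ?_
  rw [Limits.prod.comp_lift, pullback.diagonal_fst, pullback.diagonal_snd]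
  exact h

theorem qcqs_of_isPullback [QuasiSeparatedSpace ↥S] {X Y Z P : Sp S} (hX : IsAlgSpace X) (hY : IsAlgSpace Y)
    (hZ : IsAlgSpace Z) {f : X ⟶ Y} {g : Z ⟶ Y} {fst : P ⟶ X} {snd : P ⟶ Z} (sq : IsPullback fst snd f g)
    (hXc : IsQuasiCompactSp X) (hXs : IsQuasiSeparatedSp X) (hYs : IsQuasiSeparatedSp Y)
    (hZc : IsQuasiCompactSp Z) (hZs : IsQuasiSeparatedSp Z) : IsQuasiCompactSp P ∧ IsQuasiSeparatedSp P := by
  refine ⟨isQuasiCompactMor_of_qcqs hX hY f hXc hYs hZ hZc g fst snd sq, ?_⟩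
  have h₁ : IsQuasiSeparatedMor snd := repWith_diagonal_baseChange sq (isQuasiSeparatedMor_of_sp f hXs)
  have h₂ : IsQuasiSeparatedMor (toBase Z) := (repWith_diag_iff_toBase Z).2 hZs
  have h₃ := AlgStLib.isQuasiSeparatedMor_comp h₁ h₂
  rw [toBase_eq (snd ≫ toBase Z) (toBase P)] at h₃
  exact (repWith_diag_iff_toBase P).1 h₃

/-- Preimages of compact opens under a quasi-compact morphism are compact. -/
theorem isCompact_preimage {X Y : Sp S} (hY : IsAlgSpace Y) {f : X ⟶ Y} (hf : IsQuasiCompactMor f)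
    {V : Set (Points Y)} (hV : IsOpen V) (hVc : IsCompact V) : IsCompact (Points.map f ⁻¹' V) := by
  classical
  obtain ⟨U, a, ha, has⟩ := hY.atlas
  let O : U.left.Opens := ⟨Points.ofPt a ⁻¹' V, hV.preimage (Points.continuous_ofPt a)⟩
  obtain ⟨s, hs⟩ := hVc.elim_finite_subcover
    (fun A : {A : U.left.affineOpens // A.1 ≤ O} => Points.ofPt a '' (A.1.1 : Set ↥U.left))
    (fun A => isOpenMap_ofPt_of_etale ha _ A.1.1.isOpen) (by
      intro y hy
      obtain ⟨t, rfl⟩ := surjective_ofPt has y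
      obtain ⟨A, hA, htA, hAO⟩ := exists_isAffineOpen_mem_and_subset (X := U.left) (x := t) (U := O) hy
      exact Set.mem_iUnion.2 ⟨⟨⟨A, hA⟩, hAO⟩, t, htA, rfl⟩)
  let W : s → Over S := fun A => Over.mk (A.1.1.1.ι ≫ U.hom)
  let b : ∀ A : s, (yon S).obj (W A) ⟶ Y := fun A => (yon S).map (Over.homMk A.1.1.1.ι rfl : W A ⟶ U) ≫ a
  have hb : ∀ (A : s) (w : ↥(W A).left), Points.ofPt (b A) w = Points.ofPt a (A.1.1.1.ι w) := fun A w =>
    ofPt_comp _ _ _
  have hc : ∀ A : s, CompactSpace (Points (pullback f (b A))) := fun A => by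
    have : IsAffine (W A).left := A.1.1.2
    exact compactSpace_points_of_isQuasiCompactSp (hf (IsAlgSpace.yon_obj (W A))
      (isQuasiCompactSp_yon _ inferInstance) (b A) _ _ (IsPullback.of_hasPullback f (b A)))
  convert isCompact_iUnion fun A : s => isCompact_range (Points.continuous_map (pullback.fst f (b A))) using 1
  ext x
  constructor
  · intro hx
    obtain ⟨A, hA, t, htA, ht⟩ := Set.mem_iUnion₂.1 (hs hx)
    obtain ⟨z, hz, -⟩ := exists_point_of_isPullback (IsPullback.of_hasPullback f (b ⟨A, hA⟩)) x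
      (Points.ofPt (𝟙 _) (⟨t, htA⟩ : A.1.1.toScheme)) (by rw [map_ofPt_id, hb]; exact ht.symm)
    exact Set.mem_iUnion.2 ⟨⟨A, hA⟩, z, hz⟩
  · intro hx
    obtain ⟨A, z, rfl⟩ := Set.mem_iUnion.1 hx
    obtain ⟨w, hw⟩ := exists_ofScheme (Points.map (pullback.snd f (b A)) z)
    show Points.map f (Points.map (pullback.fst f (b A)) z) ∈ V
    rw [← Points.map_comp, pullback.condition, Points.map_comp, ← hw, map_ofPt_id, hb]
    exact A.1.2 (show A.1.1.1.ι w ∈ A.1.1.1 from w.2)

theorem repWith_isAffineHom_of_isAffineMor {X Y : Sp S} {f : X ⟶ Y} (hf : IsAffineMor f) :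
    RepWith @IsAffineHom f := by
  refine repWith_of_affine_targets fun Z hZ g => ?_
  obtain ⟨W, i, fst, sq, hW⟩ := hf hZ g
  exact ⟨W, i, fst, sq, inferInstanceAs (IsAffineHom i.left)⟩

theorem isUnivOpenMor_of_chart {X Y : Sp S} (hX : IsAlgSpace X) (hY : IsAlgSpace Y) (f : X ⟶ Y) {V : Over S}
    (p : (yon S).obj V ⟶ Y) (hp : RepWith @Etale p) (hps : RepWith @Surjective p) {P : Sp S} {fst : P ⟶ X}
    {snd : P ⟶ (yon S).obj V} (sq : IsPullback fst snd f p) (h : IsUnivOpenMor snd) : IsUnivOpenMor f :=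
  (isLocalOnBase_univSp descendsOnPoints_isOpenMor (fun _ : PUnit.{u + 1} => (yon S).obj V) (fun _ => p) hY
    (fun _ => IsAlgSpace.yon_obj V) (isFpqcCover_chart hY p hp hps) f hX (fun _ => P) (fun _ => snd) (fun _ => fst)
    (fun _ => isAlgSpace_of_isPullback sq hX (IsAlgSpace.yon_obj V) hY) (fun _ => sq)).2 fun _ => h

end Groth.Agent.AlgSpPts
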