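import Groth.Agent.AlgSpPts.Basic
import Mathlib.FieldTheory.IsAlgClosed.AlgebraicClosure

/-!
Finite type points of algebraic spaces, and surjectivity on geometric points.
-/

set_option autoImplicit false
set_option backward.isDefEq.respectTransparency.types false

universe u

open CategoryTheory CategoryTheory.Limits AlgebraicGeometry Opposite AlgSp Topology

namespace Groth.Agent.AlgSpPts

open Groth.Agent.AlgSpLib

variable {S : Scheme.{u}}

/-- Finite type points. -/
def IsFtPt {X : Sp S} (x : Points X) : Prop :=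
  ∃ (k : Type u) (_ : Field k) (str : Spec (CommRingCat.of k) ⟶ S) (ξ : (yon S).obj (Over.mk str) ⟶ X),
    LocP @LocallyOfFiniteType ξ ∧ Points.ofPt ξ (IsLocalRing.closedPoint k) = x

theorem locP_lft_of_etale {X : Sp S} {U : Over S} {a : (yon S).obj U ⟶ X} (ha : RepWith @Etale a) :
    LocP @LocallyOfFiniteType a :=
  locP_of_repWith ha fun _ _ _ k m hk hm =>
    EtLocal.comp_etale k m hk (EtLocal.of_etale (P := @LocallyOfFiniteType) m hm)

theorem isFtPt_ofPt {X : Sp S} (hX : IsAlgSpace X) {U : Over S} {a : (yon S).obj U ⟶ X} (ha : RepWith @Etale a)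
    (u : ↥U.left) (hu : LocallyOfFiniteType (U.left.fromSpecResidueField u)) : IsFtPt (Points.ofPt a u) := by
  let str : Spec (CommRingCat.of (U.left.residueField u)) ⟶ S := U.left.fromSpecResidueField u ≫ U.hom
  let i : Over.mk str ⟶ U := Over.homMk (U.left.fromSpecResidueField u) rfl
  refine ⟨U.left.residueField u, inferInstance, str, (yon S).map i ≫ a,
    locP_comp (IsAlgSpace.yon_obj _) (IsAlgSpace.yon_obj _) hX ((locP_yon_map_iff i).2 hu) (locP_lft_of_etale ha), ?_⟩
  rw [ofPt_comp]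
  exact congrArg _ (U.left.fromSpecResidueField_apply u _)

theorem exists_closed_of_isFtPt {X : Sp S} (hX : IsAlgSpace X) {x : Points X} (hx : IsFtPt x) :
    ∃ (U : Over S) (φ : (yon S).obj U ⟶ X) (u : ↥U.left), RepWith @Etale φ ∧
      IsClosed ({u} : Set ↥U.left) ∧ Points.ofPt φ u = x := by
  obtain ⟨k, hk, str, ξ, hξ, rfl⟩ := hx
  obtain ⟨U, a, ha, has⟩ := hX.atlas
  obtain ⟨W, p, q, sq⟩ := exists_isPullback (hX.representable_from_yon a) ξ
  have hq : Surjective q.left := prop_snd sq has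
  have hp : LocallyOfFiniteType p.left :=
    (locP_yon_map_iff p).1 (locP_baseChange (IsAlgSpace.yon_obj _) hX (IsAlgSpace.yon_obj _) sq.flip hξ)
  obtain ⟨w₀, -⟩ := q.left.surjective (IsLocalRing.closedPoint k)
  obtain ⟨w, -, hw⟩ := FtPoint.exists_mem_of_isLocallyClosed (S := W.left) (Z := Set.univ) isClosed_univ.isLocallyClosed
    ⟨w₀, trivial⟩
  have : LocallyOfFiniteType (W.left.fromSpecResidueField w) := hw
  obtain ⟨O, hO, hwO, hc⟩ := FtPoint.exists_affine_isClosed (K := W.left.residueField w)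
    (W.left.fromSpecResidueField w ≫ p.left)
  let U' : Over S := Over.mk (O.ι ≫ U.hom)
  let j : U' ⟶ U := Over.homMk O.ι rfl
  refine ⟨U', (yon S).map j ≫ a, ⟨_, hwO⟩, repWith_yon_comp j (inferInstanceAs (Etale O.ι)) ha, hc, ?_⟩
  rw [ofPt_comp]
  show Points.ofPt a (p.left ((W.left.fromSpecResidueField w) _)) = _
  rw [Scheme.fromSpecResidueField_apply, ← ofPt_comp, sq.w, ofPt_comp]
  exact congrArg _ (@Subsingleton.elim ↥(Spec (CommRingCat.of k)) inferInstance _ _)

theorem isFtPt_iff {X : Sp S} (hX : IsAlgSpace X) (x : Points X) :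
    IsFtPt x ↔ ∃ (U : Over S) (φ : (yon S).obj U ⟶ X) (u : ↥U.left), RepWith @Etale φ ∧
      IsClosed ({u} : Set ↥U.left) ∧ Points.ofPt φ u = x := by
  refine ⟨exists_closed_of_isFtPt hX, ?_⟩
  rintro ⟨U, φ, u, hφ, hu, rfl⟩
  refine isFtPt_ofPt hX hφ u (FtPoint.lft_of_isClosed (U := ⊤) trivial ?_)
  convert hu.preimage (continuous_subtype_val (p := fun t => t ∈ (⊤ : U.left.Opens))) using 1
  ext z
  simp [Subtype.ext_iff]

theorem exists_isFtPt_preimage {X Y : Sp S} (hX : IsAlgSpace X) (hY : IsAlgSpace Y) (f : X ⟶ Y)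
    (hs : IsSurjectiveMor f) {y : Points Y} (hy : IsFtPt y) : ∃ x, Points.map f x = y ∧ IsFtPt x := by
  obtain ⟨U, φ, u, hφ, hu, rfl⟩ := exists_closed_of_isFtPt hY hy
  obtain ⟨x, hx⟩ := hs (Points.ofPt φ u)
  obtain ⟨V, b, hb, hbs⟩ := hX.atlas
  obtain ⟨v, rfl⟩ := surjective_ofPt hbs x
  obtain ⟨W, p, q, sq⟩ := exists_isPullback hφ.1 (b ≫ f)
  obtain ⟨z, hz, -⟩ := exists_point_of_isPullback sq (Points.ofPt (𝟙 _) u) (Points.ofPt (𝟙 _) v)
    (by rw [map_ofPt_id, map_ofPt_id, ← hx, Points.map_ofPt])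
  obtain ⟨w, rfl⟩ := exists_ofScheme z
  rw [map_ofPt_id] at hz
  have hw : p.left w = u := by
    rw [← Category.comp_id ((yon S).map p), ofPt_comp] at hz
    exact (Points.schemeHomeo U).injective hz
  obtain ⟨w', hw', hft⟩ := FtPoint.exists_mem_of_isLocallyClosed (S := W.left) (Z := p.left ⁻¹' {u})
    (hu.preimage p.left.continuous).isLocallyClosed ⟨w, hw⟩
  refine ⟨Points.ofPt ((yon S).map q ≫ b) w', ?_,
    isFtPt_ofPt hX (repWith_yon_comp q (prop_snd sq hφ) hb) w' hft⟩
  rw [Points.map_ofPt, Category.assoc, ← sq.w, ofPt_comp, show p.left w' = u from hw']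

theorem exists_isFtPt_mem {X : Sp S} (hX : IsAlgSpace X) {T : Set (Points X)} (hT : IsLocallyClosed T)
    (hne : T.Nonempty) : ∃ x ∈ T, IsFtPt x := by
  obtain ⟨U, a, ha, has⟩ := hX.atlas
  obtain ⟨x, hx⟩ := hne
  obtain ⟨u, rfl⟩ := surjective_ofPt has x
  obtain ⟨t, ht, hft⟩ := FtPoint.exists_mem_of_isLocallyClosed (S := U.left) (Z := Points.ofPt a ⁻¹' T)
    (hT.preimage (Points.continuous_ofPt a)) ⟨u, hx⟩
  exact ⟨_, ht, isFtPt_ofPt hX ha t hft⟩

theorem subset_closure_isFtPt {X : Sp S} (hX : IsAlgSpace X) {T : Set (Points X)} (hT : IsClosed T) :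
    T ⊆ closure {x | x ∈ T ∧ IsFtPt x} := fun x hx => by
  refine mem_closure_iff.2 fun O hO hxO => ?_
  obtain ⟨z, hz, hft⟩ := exists_isFtPt_mem hX (hO.isLocallyClosed.inter hT.isLocallyClosed) ⟨x, hxO, hx⟩
  exact ⟨z, hz.1, hz.2, hft⟩

/-- A finite type point of a scheme over an algebraically closed field is rational. -/
theorem exists_section {k : Type u} [Field k] [IsAlgClosed k] {V : Scheme.{u}}
    (h : V ⟶ Spec (CommRingCat.of k)) [LocallyOfFiniteType h] [hne : Nonempty ↥V] :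
    ∃ σ : Spec (CommRingCat.of k) ⟶ V, σ ≫ h = 𝟙 _ := by
  obtain ⟨v, -, hv⟩ := FtPoint.exists_mem_of_isLocallyClosed (S := V) (Z := Set.univ) isClosed_univ.isLocallyClosed
    ⟨Classical.arbitrary _, trivial⟩
  have : LocallyOfFiniteType (V.fromSpecResidueField v) := hv
  obtain ⟨φ, hφ⟩ := Spec.map_surjective (V.fromSpecResidueField v ≫ h)
  have hft : φ.hom.FiniteType := by
    rw [← HasRingHomProperty.Spec_iff (P := @LocallyOfFiniteType), hφ]
    infer_instance
  let : Algebra k (V.residueField v) := φ.hom.toAlgebra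
  have : Algebra.FiniteType k (V.residueField v) := hft
  have : Module.Finite k (V.residueField v) := finite_of_finite_type_of_isJacobsonRing _ _
  have hb : Function.Bijective φ.hom :=
    IsAlgClosed.algebraMap_bijective_of_isIntegral (k := k) (K := V.residueField v)
  let E := RingEquiv.ofBijective φ.hom hb
  refine ⟨Spec.map (CommRingCat.ofHom E.symm.toRingHom) ≫ V.fromSpecResidueField v, ?_⟩
  rw [Category.assoc, ← hφ, ← Spec.map_comp, ← Spec.map_id]
  congr 1
  ext t
  exact E.symm_apply_apply t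

theorem isSurjectiveMor_iff_geometric {X Y : Sp S} (hX : IsAlgSpace X) (hY : IsAlgSpace Y) {f : X ⟶ Y}
    (hf : LocP @LocallyOfFiniteType f) :
    IsSurjectiveMor f ↔
      ∀ (k : Type u) [Field k] [IsAlgClosed k] (str : Spec (CommRingCat.of k) ⟶ S)
        (y : (yon S).obj (Over.mk str) ⟶ Y), ∃ x : (yon S).obj (Over.mk str) ⟶ X, x ≫ f = y := by
  refine ⟨fun hs k _ _ str y => ?_, fun h y => ?_⟩
  · have sq := IsPullback.of_hasPullback f y
    have hP := isAlgSpace_of_isPullback sq hX (IsAlgSpace.yon_obj _) hY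
    obtain ⟨V, b, hb, hbs⟩ := hP.atlas
    obtain ⟨h', hh'⟩ := (yon S).map_surjective (b ≫ pullback.snd f y)
    have : LocallyOfFiniteType h'.left := (locP_yon_map_iff h').1 (hh' ▸
      locP_comp (IsAlgSpace.yon_obj _) hP (IsAlgSpace.yon_obj _) (locP_lft_of_etale hb)
        (locP_baseChange hX hY (IsAlgSpace.yon_obj _) sq hf))
    have : Nonempty ↥V.left := by
      obtain ⟨x, hx⟩ := hs (Points.ofPt y (IsLocalRing.closedPoint k))
      obtain ⟨z, -, -⟩ := exists_point_of_isPullback sq x (Points.ofPt (𝟙 _) (IsLocalRing.closedPoint k))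
        (by rw [hx, map_ofPt_id])
      exact ⟨(surjective_ofPt hbs z).choose⟩
    obtain ⟨σ, hσ⟩ := exists_section (V := V.left) (h'.left : V.left ⟶ Spec (CommRingCat.of k))
    let s : Over.mk str ⟶ V := Over.homMk σ (by rw [← Over.w h']; exact (reassoc_of% hσ) _)
    refine ⟨(yon S).map s ≫ b ≫ pullback.fst f y, ?_⟩
    have e : s ≫ h' = 𝟙 _ := Over.OverMorphism.ext hσ
    rw [Category.assoc, Category.assoc, pullback.condition, ← Category.assoc b, ← hh', ← Category.assoc,
      ← Functor.map_comp, e, CategoryTheory.Functor.map_id, Category.id_comp]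
  · obtain ⟨p, hp⟩ := exists_ofPt y
    let k := AlgebraicClosure p.K
    let e : Spec (CommRingCat.of k) ⟶ Spec (CommRingCat.of p.K) :=
      Spec.map (CommRingCat.ofHom (algebraMap p.K k))
    let c : Over.mk (e ≫ p.str) ⟶ p.pt := Over.homMk e rfl
    obtain ⟨x, hx⟩ := h k (e ≫ p.str) ((yon S).map c ≫ p.toHom)
    refine ⟨Points.ofPt x (IsLocalRing.closedPoint k), ?_⟩
    rw [Points.map_ofPt, hx, ofPt_comp]
    exact hp _

end Groth.Agent.AlgSpPts
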