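import Groth.Agent.AlgSpPts.Descents
import Groth.Agent.AlgSpPts.FtPts

/-!
Small facts on algebraic spaces.
-/

set_option autoImplicit false
set_option backward.isDefEq.respectTransparency.types false

universe u

open CategoryTheory CategoryTheory.Limits AlgebraicGeometry Opposite AlgSp Topology

namespace Groth.Agent.AlgSpPts

open Groth.Agent.AlgSpLib

variable {S : Scheme.{u}}

theorem jacobson_of_lft {X Y : Sp S} (hX : IsAlgSpace X) (hY : IsAlgSpace Y)
    (hJ : EtaleLocally (fun U => JacobsonSpace ↥U) X) {f : Y ⟶ X} (hf : LocP @LocallyOfFiniteType f) :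
    EtaleLocally (fun U => JacobsonSpace ↥U) Y := by
  obtain ⟨U, a, ha, has, hU⟩ := hJ
  obtain ⟨V, b, hb, hbs⟩ := hY.atlas
  obtain ⟨W, p, q, sq⟩ := exists_isPullback ha.1 (b ≫ f)
  have : LocallyOfFiniteType p.left := hf ((yon S).map q ≫ b) a p
    (repWith_yon_comp q (prop_snd sq ha) hb) ha (by rw [Category.assoc, sq.w])
  exact ⟨W, (yon S).map q ≫ b, repWith_yon_comp q (prop_snd sq ha) hb,
    repWith_yon_comp q (prop_snd sq has) hbs, LocallyOfFiniteType.jacobsonSpace p.left⟩

theorem isQuasiCompactMor_of_affine {X Y : Sp S} (hY : IsAlgSpace Y) (f : X ⟶ Y)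
    (h : ∀ (Z : Over S), IsAffine Z.left → ∀ (g : (yon S).obj Z ⟶ Y) (P : Sp S) (fst : P ⟶ X)
      (snd : P ⟶ (yon S).obj Z), IsPullback fst snd f g → IsQuasiCompactSp P) : IsQuasiCompactMor f := by
  intro Z P hZ hZc g fst snd sq
  obtain ⟨V, b, hV, hb, hbs⟩ := (isQuasiCompactSp_iff_affine hZ).1 hZc
  have sq' := IsPullback.of_hasPullback f (b ≫ g)
  obtain ⟨W, c, hc, hcs, hW⟩ := h V hV (b ≫ g) _ _ _ sq'
  let m : pullback f (b ≫ g) ⟶ P := sq.lift (pullback.fst f (b ≫ g)) (pullback.snd f (b ≫ g) ≫ b)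
    (by rw [pullback.condition, Category.assoc])
  have sqm : IsPullback m (pullback.snd f (b ≫ g)) snd b :=
    IsPullback.of_right (by rw [IsPullback.lift_fst]; exact sq') (IsPullback.lift_snd _ _ _ _) sq
  exact ⟨W, c ≫ m, repWith_comp hc (repWith_baseChange sqm.flip hb),
    repWith_comp hcs (repWith_baseChange sqm.flip hbs), hW⟩

theorem isIso_of_repWith_isomorphisms {F G : Sp S} {f : F ⟶ G}
    (hf : RepWith (MorphismProperty.isomorphisms Scheme.{u}) f) : IsIso f := by
  have hm : Mono f := mono_of_repWith hf fun _ _ k hk => by have : IsIso k := hk; infer_instance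
  have key : ∀ (T : Over S) (g : (yon S).obj T ⟶ G), ∃ l, l ≫ f = g := fun T g => by
    obtain ⟨V, snd, fst, sq⟩ := hf.1 g
    have : IsIso snd.left := hf.2 g fst snd sq
    have : IsIso ((Over.forget S).map snd) := this
    have : IsIso snd := isIso_of_reflects_iso snd (Over.forget S)
    exact ⟨(yon S).map (inv snd) ≫ fst, by
      rw [Category.assoc, sq.w, ← Category.assoc, ← Functor.map_comp, IsIso.inv_hom_id,
        CategoryTheory.Functor.map_id, Category.id_comp]⟩
  have : IsIso ((sheafToPresheaf _ _).map f) := by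
    have : ∀ T, IsIso (((sheafToPresheaf _ _).map f).app T) := fun T => by
      rw [isIso_iff_bijective]
      refine ⟨fun x y h => ?_, fun y => ?_⟩
      · have e := (cancel_mono f).1 (show (J S).uliftYonedaEquiv.{u + 1}.symm x ≫ f =
            (J S).uliftYonedaEquiv.{u + 1}.symm y ≫ f from (J S).uliftYonedaEquiv.{u + 1}.injective (by
          rw [GrothendieckTopology.uliftYonedaEquiv_comp, GrothendieckTopology.uliftYonedaEquiv_comp,
            Equiv.apply_symm_apply, Equiv.apply_symm_apply]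
          exact h))
        exact (J S).uliftYonedaEquiv.{u + 1}.symm.injective e
      · obtain ⟨l, hl⟩ := key T.unop ((J S).uliftYonedaEquiv.{u + 1}.symm y)
        refine ⟨(J S).uliftYonedaEquiv.{u + 1} l, ?_⟩
        have := congrArg (J S).uliftYonedaEquiv.{u + 1} hl
        rwa [GrothendieckTopology.uliftYonedaEquiv_comp, Equiv.apply_symm_apply] at this
    exact NatIso.isIso_of_isIso_app _
  exact isIso_of_reflects_iso f (sheafToPresheaf _ _)

theorem mono_of_chart {X Y : Sp S} (hX : IsAlgSpace X) (hY : IsAlgSpace Y) (f : X ⟶ Y) {V : Over S}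
    (p : (yon S).obj V ⟶ Y) (hp : RepWith @Etale p) (hps : RepWith @Surjective p) {P : Sp S} (fst : P ⟶ X)
    (snd : P ⟶ (yon S).obj V) (sq : IsPullback fst snd f p) [Mono snd] : Mono f := by
  have h : RepWith (MorphismProperty.isomorphisms Scheme.{u}) (pullback.diagonal f) :=
    repWith_diagonal_of_chart hX hY f p hp hps fst snd sq (repWith_diagonal_of_mono snd)
  have : IsIso (pullback.diagonal f) := isIso_of_repWith_isomorphisms h
  exact (pullback.isIso_diagonal_iff f).1 this

theorem etaleLocally_iff_forall {X : Sp S} (hX : IsAlgSpace X) (P : Scheme.{u} → Prop)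
    (hP : ∀ (V : Scheme.{u}) (𝒰 : Scheme.Cover.{u} (Scheme.precoverage @Etale) V), P V ↔ ∀ i, P (𝒰.X i)) :
    EtaleLocally P X ↔ ∀ (U : Over S) (a : (yon S).obj U ⟶ X), RepWith @Etale a → P U.left := by
  refine ⟨?_, fun h => ?_⟩
  · rintro ⟨U₀, a₀, ha₀, has₀, h₀⟩ U a ha
    obtain ⟨R, p, q, sq⟩ := exists_isPullback ha₀.1 a
    have : Etale q.left := prop_snd sq ha₀
    have : Surjective q.left := prop_snd sq has₀
    have : Etale p.left := prop_snd sq.flip ha
    let 𝒱 : Scheme.Cover.{u} (Scheme.precoverage @Etale) U₀.left :=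
      { I₀ := ULift.{u} Bool
        X := fun i => bif i.down then U₀.left else R.left
        f := fun ⟨i⟩ => match i with | true => 𝟙 _ | false => p.left
        mem₀ := by
          rw [Scheme.ofArrows_mem_precoverage_iff]
          exact ⟨fun x => ⟨⟨true⟩, x, rfl⟩, fun ⟨i⟩ => match i with
            | true => inferInstanceAs (Etale (𝟙 U₀.left))
            | false => ‹Etale p.left›⟩ }
    have hR : P R.left := (hP _ 𝒱).1 h₀ ⟨false⟩
    let 𝒰 : Scheme.Cover.{u} (Scheme.precoverage @Etale) U.left :=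
      { I₀ := PUnit.{u + 1}
        X := fun _ => R.left
        f := fun _ => q.left
        mem₀ := by
          rw [Scheme.ofArrows_mem_precoverage_iff]
          exact ⟨fun x => ⟨⟨⟩, q.left.surjective x⟩, fun _ => ‹Etale q.left›⟩ }
    exact (hP _ 𝒰).2 fun _ => hR
  · obtain ⟨U, a, ha, has⟩ := hX.atlas
    exact ⟨U, a, ha, has, h U a ha⟩

/-- Points given by monomorphisms from fields lift along representable morphisms. -/
theorem exists_monoPoint_of_representable {X Y : Sp S} {f : X ⟶ Y} (hf : Representable f) {x : Points X}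
    {q : FieldPt Y} (hq : Points.mk q = Points.map f x) [Mono q.toHom] :
    ∃ p : FieldPt X, Points.mk p = x ∧ Mono p.toHom := by
  obtain ⟨W, snd, fst, sq⟩ := hf q.toHom
  have hk : Points.ofPt q.toHom (IsLocalRing.closedPoint q.K) = Points.map f x := by
    rw [← hq]; exact Points.ofPt_toHom q _
  obtain ⟨z, hz, -⟩ := exists_point_of_isPullback sq x (Points.ofPt (𝟙 _) (IsLocalRing.closedPoint q.K))
    (by rw [map_ofPt_id, hk])
  obtain ⟨w, rfl⟩ := exists_ofScheme z
  rw [map_ofPt_id] at hz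
  have : Mono fst := ⟨fun a b e => sq.hom_ext e ((cancel_mono q.toHom).1 (by
    rw [Category.assoc, Category.assoc, ← sq.w, ← Category.assoc, ← Category.assoc, e]))⟩
  let str : Spec (CommRingCat.of (W.left.residueField w)) ⟶ S := W.left.fromSpecResidueField w ≫ W.hom
  let i : Over.mk str ⟶ W := Over.homMk (W.left.fromSpecResidueField w) rfl
  have : Mono i := Over.mono_of_mono_left i
  let g : (yon S).obj (Over.mk str) ⟶ X := (yon S).map i ≫ fst
  let p : FieldPt X := ⟨W.left.residueField w, str, (J S).uliftYonedaEquiv.{u + 1} g⟩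
  have hp : p.toHom = g := Equiv.symm_apply_apply _ _
  have : Mono ((yon S).map i) := ⟨fun {Z} a b e => hom_ext_yon fun T t => by
    obtain ⟨k, hk⟩ := (yon S).map_surjective (t ≫ a)
    obtain ⟨k', hk'⟩ := (yon S).map_surjective (t ≫ b)
    have : k ≫ i = k' ≫ i := (yon S).map_injective (by
      rw [Functor.map_comp, Functor.map_comp, hk, hk', Category.assoc, e, Category.assoc])
    rw [← hk, ← hk', (cancel_mono i).1 this]⟩
  refine ⟨p, ?_, by rw [hp]; exact mono_comp _ _⟩
  rw [← Points.ofPt_toHom p (IsLocalRing.closedPoint p.K), hp, ofPt_comp, ← hz]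
  exact congrArg _ (W.left.fromSpecResidueField_apply w _)

/-- Fibre products over a sheaf with representable diagonal. -/
theorem isAlgSpace_of_isPullback_diag {X Y Z P : Sp S} {fst : P ⟶ X} {snd : P ⟶ Y} {f : X ⟶ Z} {g : Y ⟶ Z}
    (sq : IsPullback fst snd f g) (hX : IsAlgSpace X) (hY : IsAlgSpace Y) (hZ : Representable (Limits.diag Z)) :
    IsAlgSpace P where
  diag := by
    refine (repWith_diag_of_pairwise (P := (⊤ : MorphismProperty Scheme.{u})) P (fun U V a b => ?_)
      (fun _ _ _ _ _ _ _ _ => trivial)).1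
    obtain ⟨W₁, p₁, q₁, sq₁⟩ := exists_isPullback (hX.representable_from_yon (a ≫ fst)) (b ≫ fst)
    obtain ⟨W₂, p₂, q₂, sq₂⟩ := exists_isPullback (hY.representable_from_yon (a ≫ snd)) (b ≫ snd)
    let W := pullback (prod.lift p₁ q₁) (prod.lift p₂ q₂)
    let w₁ : W ⟶ W₁ := pullback.fst _ _
    let w₂ : W ⟶ W₂ := pullback.snd _ _
    have cw : w₁ ≫ prod.lift p₁ q₁ = w₂ ≫ prod.lift p₂ q₂ := pullback.condition
    have ep : w₁ ≫ p₁ = w₂ ≫ p₂ := by
      have h := congrArg (· ≫ prod.fst) cw
      simp only [Category.assoc, Limits.prod.lift_fst] at h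
      exact h
    have eq : w₁ ≫ q₁ = w₂ ≫ q₂ := by
      have h := congrArg (· ≫ prod.snd) cw
      simp only [Category.assoc, Limits.prod.lift_snd] at h
      exact h
    have w : (yon S).map (w₁ ≫ p₁) ≫ a = (yon S).map (w₁ ≫ q₁) ≫ b := by
      apply sq.hom_ext
      · simp only [Functor.map_comp, Category.assoc, sq₁.w]
      · rw [ep, eq]
        simp only [Functor.map_comp, Category.assoc, sq₂.w]
    refine ⟨W, w₁ ≫ p₁, w₁ ≫ q₁, ⟨⟨w⟩, ⟨PullbackCone.IsLimit.mk w (fun s => ?_) (fun s => ?_)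
      (fun s => ?_) (fun s m hm₁ hm₂ => ?_)⟩⟩⟩
    · exact (yon_isPullback (IsPullback.of_hasPullback (prod.lift p₁ q₁) (prod.lift p₂ q₂))).lift
        (sq₁.lift s.fst s.snd (by rw [← Category.assoc, s.condition, Category.assoc]))
        (sq₂.lift s.fst s.snd (by rw [← Category.assoc, s.condition, Category.assoc])) (by
          apply (cancel_mono (prodComparison (yon S) U V)).1
          apply Limits.prod.hom_ext
          · simp only [Category.assoc, prodComparison_fst, ← Functor.map_comp, Limits.prod.lift_fst]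
            rw [sq₁.lift_fst, sq₂.lift_fst]
          · simp only [Category.assoc, prodComparison_snd, ← Functor.map_comp, Limits.prod.lift_snd]
            rw [sq₁.lift_snd, sq₂.lift_snd])
    · simp only [Functor.map_comp, w₁]
      rw [IsPullback.lift_fst_assoc, sq₁.lift_fst]
    · simp only [Functor.map_comp, w₁]
      rw [IsPullback.lift_fst_assoc, sq₁.lift_snd]
    · apply (yon_isPullback (IsPullback.of_hasPullback (prod.lift p₁ q₁) (prod.lift p₂ q₂))).hom_ext
      · rw [IsPullback.lift_fst]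
        apply sq₁.hom_ext
        · rw [Category.assoc, ← Functor.map_comp, sq₁.lift_fst]; exact hm₁
        · rw [Category.assoc, ← Functor.map_comp, sq₁.lift_snd]; exact hm₂
      · rw [IsPullback.lift_snd]
        apply sq₂.hom_ext
        · rw [Category.assoc, ← Functor.map_comp, sq₂.lift_fst, ← ep]; exact hm₁
        · rw [Category.assoc, ← Functor.map_comp, sq₂.lift_snd, ← eq]; exact hm₂
  atlas := by
    obtain ⟨U, a, ha, has⟩ := hX.atlas
    obtain ⟨V, b, hb, hbs⟩ := hY.atlas
    obtain ⟨W, p, q, sqW⟩ := exists_isPullback (Functor.relativelyRepresentable.of_diag hZ (a ≫ f)) (b ≫ g)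
    exact ⟨W, _, exists_chart_of_isPullback sq sqW ha hb, exists_chart_of_isPullback sq sqW has hbs⟩

/-- One surjective etale chart detects etale morphisms. -/
theorem isEtaleMor_of_chart {X Y : Sp S} (hX : IsAlgSpace X) (hY : IsAlgSpace Y) (f : X ⟶ Y) {U V : Over S}
    {a : (yon S).obj U ⟶ X} (ha : RepWith @Etale a) (has : RepWith @Surjective a) {b : (yon S).obj V ⟶ Y}
    (hb : RepWith @Etale b) (h : U ⟶ V) (hh : Etale h.left) (w : a ≫ f = (yon S).map h ≫ b) : IsEtaleMor f := by
  intro U' φ hφ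
  obtain ⟨W, p, q, sq⟩ := exists_isPullback ha.1 φ
  have hp : Etale p.left := prop_snd sq.flip hφ
  have hc : RepWith @Etale ((yon S).map q ≫ φ ≫ f) := by
    rw [← Category.assoc, ← sq.w, Category.assoc, w, ← Category.assoc, ← Functor.map_comp]
    exact repWith_yon_comp (p ≫ h) (inferInstanceAs (Etale (p.left ≫ h.left))) hb
  refine repWith_of_exists fun T g => ?_
  obtain ⟨P, snd, fst, sqP⟩ := (hY.representable_from_yon (φ ≫ f)) g
  obtain ⟨M, m, fstM, sqM⟩ := (hY.representable_from_yon ((yon S).map q ≫ φ ≫ f)) g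
  obtain ⟨k, hk, hk'⟩ := exists_lift sqP (fstM ≫ (yon S).map q) m (by rw [Category.assoc, sqM.w])
  have hm : Etale m.left := hc.2 g fstM m sqM
  have sqk : IsPullback fstM ((yon S).map k) ((yon S).map q) fst :=
    IsPullback.of_bot (by rw [← Functor.map_comp, hk']; exact sqM) hk.symm sqP
  have hq : Etale q.left := prop_snd sq ha
  have hqs : Surjective q.left := prop_snd sq has
  have hke : Etale k.left := ((repWith_yon_map_iff _ q).2 hq).2 fst fstM k sqk
  have hks : Surjective k.left := ((repWith_yon_map_iff _ q).2 hqs).2 fst fstM k sqk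
  exact ⟨P, fst, snd, sqP, EtLocal.desc k.left snd.left hke hks
    (show Etale (k.left ≫ snd.left) by rw [← Over.comp_left, hk']; exact hm)⟩

theorem isZarCover_iff {X : Sp S} {ι : Type u} {Xi : ι → Sp S} {j : ∀ i, Xi i ⟶ X}
    (hj : ∀ i, RepWith @IsOpenImmersion (j i)) :
    IsZarCover Xi j ↔ ∀ (T : Over S) (g : (yon S).obj T ⟶ X) (t : ↥T.left),
      ∃ (i : ι) (P : Over S) (fst : (yon S).obj P ⟶ Xi i) (snd : P ⟶ T),
        IsPullback fst ((yon S).map snd) (j i) g ∧ t ∈ Set.range snd.left := by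
  refine ⟨fun h T g t => ?_, fun h => ⟨hj, fun x => ?_⟩⟩
  · obtain ⟨i, y, hy⟩ := h.2 (Points.ofPt g t)
    obtain ⟨P, snd, fst, sq⟩ := (hj i).1 g
    obtain ⟨z, -, hz⟩ := exists_point_of_isPullback sq y (Points.ofPt (𝟙 _) t) (by rw [map_ofPt_id, hy])
    obtain ⟨v, rfl⟩ := exists_ofScheme z
    refine ⟨i, P, fst, snd, sq, v, ?_⟩
    rw [map_ofPt_id, ← Category.comp_id ((yon S).map snd), ofPt_comp] at hz
    exact (Points.schemeHomeo T).injective hz
  · obtain ⟨q, hq⟩ := exists_ofPt x
    obtain ⟨i, P, fst, snd, sq, v, hv⟩ := h q.pt q.toHom (IsLocalRing.closedPoint q.K)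
    refine ⟨i, Points.ofPt fst v, ?_⟩
    rw [Points.map_ofPt, sq.w, ofPt_comp, hv]
    exact hq _

end Groth.Agent.AlgSpPts
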