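import Groth.Agent.AlgSpPts.Qc
import Mathlib.Topology.Spectral.ConstructibleTopology
import Mathlib.AlgebraicGeometry.Morphisms.QuasiFinite
import Groth.Agent.Weighting.Local

/-!
Sobriety of the space of points of a (locally) quasi-separated algebraic space.
-/

set_option autoImplicit false
set_option backward.isDefEq.respectTransparency.types false

universe u

open CategoryTheory CategoryTheory.Limits AlgebraicGeometry Opposite AlgSp Topology

namespace Groth.Agent.AlgSpPts

open Groth.Agent.AlgSpLib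

variable {S : Scheme.{u}} {X : Sp S}

/-- An affine etale chart whose self fibre product is quasi-compact over it. -/
structure GoodChart (X : Sp S) where
  U : Over S
  a : (yon S).obj U ⟶ X
  R : Over S
  p : R ⟶ U
  q : R ⟶ U
  affine : IsAffine U.left
  etale : RepWith @Etale a
  sq : IsPullback ((yon S).map p) ((yon S).map q) a a
  qc : CompactSpace ↥R.left

attribute [instance] GoodChart.affine GoodChart.qc

namespace GoodChart

variable (G : GoodChart X)

theorem preimage_image (T : Set ↥G.U.left) :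
    Points.ofPt G.a ⁻¹' (Points.ofPt G.a '' T) = G.q.left '' (G.p.left ⁻¹' T) :=
  preimage_image_ofPt G.sq T

theorem finite_preimage (x : Points X) : (Points.ofPt G.a ⁻¹' {x}).Finite := by
  by_cases hx : (Points.ofPt G.a ⁻¹' {x}).Nonempty
  · obtain ⟨u, rfl⟩ := hx
    have : Etale G.p.left := prop_snd G.sq.flip G.etale
    have : QuasiCompact G.p.left := quasiCompact_of_compactSpace _
    have h := G.preimage_image {u}
    rw [Set.image_singleton] at h
    rw [h]
    exact (G.p.left.finite_preimage_singleton u).image _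
  · rw [Set.not_nonempty_iff_eq_empty.1 hx]
    exact Set.finite_empty

theorem isCompact_preimage_image {Q : Set ↥G.U.left} (hQ : IsOpen Q) (hQc : IsCompact Q) :
    IsCompact (Points.ofPt G.a ⁻¹' (Points.ofPt G.a '' Q)) := by
  have : QuasiCompact G.p.left := quasiCompact_of_compactSpace _
  rw [G.preimage_image]
  exact (G.p.left.isSpectralMap.2 hQ hQc).image G.q.left.continuous

theorem isOpen_image {Q : Set ↥G.U.left} (hQ : IsOpen Q) : IsOpen (Points.ofPt G.a '' Q) :=
  isOpenMap_ofPt_of_etale G.etale _ hQ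

theorem isOpen_range : IsOpen (Set.range (Points.ofPt G.a)) := (isOpenMap_ofPt_of_etale G.etale).isOpen_range

end GoodChart

/-- Every point has a good chart around it. -/
def HasGoodCharts (X : Sp S) : Prop := ∀ x : Points X, ∃ G : GoodChart X, x ∈ Set.range (Points.ofPt G.a)

theorem t0Space_of_goodCharts (h : HasGoodCharts X) : T0Space (Points X) := by
  refine ⟨fun x y hxy => ?_⟩
  obtain ⟨G, u₀, hu₀⟩ := h x
  have hgen : ∀ {x y : Points X}, Inseparable x y → ∀ u, Points.ofPt G.a u = x →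
      ∃ v, Points.ofPt G.a v = y ∧ v ⤳ u := by
    intro x y hxy u hu
    have : u ∈ closure (⋃ v ∈ Points.ofPt G.a ⁻¹' {y}, {v}) := by
      rw [Set.biUnion_of_singleton]
      refine mem_closure_iff.2 fun O hO huO => ?_
      obtain ⟨v, hvO, hv⟩ := (hxy.mem_open_iff (G.isOpen_image hO)).1 ⟨u, huO, hu⟩
      exact ⟨v, hvO, hv⟩
    rw [(G.finite_preimage y).closure_biUnion] at this
    obtain ⟨v, hv, hvu⟩ := Set.mem_iUnion₂.1 this
    exact ⟨v, hv, specializes_iff_mem_closure.2 hvu⟩
  obtain ⟨u, hu, hmax⟩ := (G.finite_preimage x).exists_maximal ⟨u₀, hu₀⟩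
  obtain ⟨v, hv, hvu⟩ := hgen hxy u hu
  obtain ⟨w, hw, hwv⟩ := hgen hxy.symm v hv
  have e : u ⤳ w := hmax hw (show w ⤳ u from hwv.trans hvu)
  have : v = u := (hvu.antisymm (e.trans hwv)).eq
  rw [← hu, ← hv, this]

theorem quasiSober_of_goodCharts (h : HasGoodCharts X) : QuasiSober (Points X) := by
  refine ⟨fun {Z} hirr hZ => ?_⟩
  obtain ⟨z₀, hz₀⟩ := hirr.nonempty
  obtain ⟨G, u₀, hu₀⟩ := h z₀
  let a := Points.ofPt G.a
  let ι := {Q : Set ↥G.U.left // IsOpen Q ∧ IsCompact Q ∧ (Z ∩ a '' Q).Nonempty}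
  let t : ι → Set (WithConstructibleTopology ↥G.U.left) := fun Q => {w | w.ofTopology ∈ a ⁻¹' (a '' Q.1) ∩ a ⁻¹' Z}
  have hfine : ∀ O : Set ↥G.U.left, IsOpen O → IsOpen[constructibleTopology ↥G.U.left] O := fun O hO => by
    obtain ⟨s, hs, rfl⟩ := PrespectralSpace.isTopologicalBasis.open_eq_sUnion hO
    exact @isOpen_sUnion _ (constructibleTopology ↥G.U.left) _ fun K hK =>
      (hs hK).2.isOpen_constructibleTopology_of_isOpen (hs hK).1
  have htc : ∀ Q, IsClosed (t Q) := fun Q => by
    rw [WithConstructibleTopology.isClosed_iff]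
    show IsClosed[constructibleTopology ↥G.U.left] (a ⁻¹' (a '' Q.1) ∩ a ⁻¹' Z)
    refine (@isOpen_compl_iff _ _ (constructibleTopology ↥G.U.left)).1 ?_
    show IsOpen[constructibleTopology ↥G.U.left] (a ⁻¹' (a '' Q.1) ∩ a ⁻¹' Z)ᶜ
    rw [Set.compl_inter]
    refine @IsOpen.union _ _ _ (constructibleTopology ↥G.U.left) ?_
      (hfine _ (hZ.preimage (Points.continuous_ofPt G.a)).isOpen_compl)
    refine IsCompact.isOpen_constructibleTopology_of_isClosed ?_
      ((G.isOpen_image Q.2.1).preimage (Points.continuous_ofPt G.a)).isClosed_compl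
    rw [compl_compl]
    exact G.isCompact_preimage_image Q.2.1 Q.2.2.1
  have hfin : ∀ s : Finset ι, (Z ∩ (Set.range a ∩ ⋂ Q ∈ s, a '' Q.1)).Nonempty := fun s => by
    classical
    induction s using Finset.induction_on with
    | empty => exact ⟨z₀, hz₀, ⟨u₀, hu₀⟩, by simp⟩
    | @insert Q s _ ih =>
      have ho : IsOpen (Set.range a ∩ ⋂ Q ∈ s, a '' Q.1) :=
        G.isOpen_range.inter (isOpen_biInter_finset fun Q _ => G.isOpen_image Q.2.1)
      obtain ⟨x, hxZ, hxQ, hxr, hxs⟩ := hirr.2 _ _ (G.isOpen_image Q.2.1) ho Q.2.2.2 ih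
      refine ⟨x, hxZ, hxr, Set.mem_iInter₂.2 fun Q' hQ' => ?_⟩
      rcases Finset.mem_insert.1 hQ' with rfl | hQ'
      · exact hxQ
      · exact Set.mem_iInter₂.1 hxs Q' hQ'
  obtain ⟨w, -, hw⟩ := isCompact_univ.inter_iInter_nonempty t htc fun s => by
    obtain ⟨x, hxZ, ⟨u, rfl⟩, hxs⟩ := hfin s
    exact ⟨WithTopology.toTopology _ u, trivial, Set.mem_iInter₂.2 fun Q hQ => ⟨Set.mem_iInter₂.1 hxs Q hQ, hxZ⟩⟩
  have hsub : ∀ O : Set (Points X), IsOpen O → (Z ∩ O).Nonempty → a w.ofTopology ∈ O ∧ a w.ofTopology ∈ Z := by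
    intro O hO hOZ
    obtain ⟨_, hxZ, hxO, v, rfl⟩ := hirr.2 _ _ hO G.isOpen_range hOZ ⟨z₀, hz₀, u₀, hu₀⟩
    obtain ⟨K, ⟨hKo, hKc⟩, hvK, hKO⟩ := PrespectralSpace.isTopologicalBasis.exists_subset_of_mem_open
      (show v ∈ a ⁻¹' O from hxO) (hO.preimage (Points.continuous_ofPt G.a))
    obtain ⟨⟨v', hv', hv'e⟩, hZw⟩ := Set.mem_iInter.1 hw ⟨K, hKo, hKc, a v, hxZ, v, hvK, rfl⟩
    exact ⟨hv'e ▸ hKO hv', hZw⟩
  refine ⟨a w.ofTopology, isGenericPoint_iff_forall_closed hZ (hsub _ isOpen_univ ⟨z₀, hz₀, trivial⟩).2 |>.2 ?_⟩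
  intro C hC hwC x hx
  by_contra hxC
  exact (hsub _ hC.isOpen_compl ⟨x, hx, hxC⟩).1 hwC

theorem exists_goodChart (hX : IsAlgSpace X) {U : Over S} {a : (yon S).obj U ⟶ X} [IsAffine U.left]
    (ha : RepWith @Etale a) (hd : IsQuasiSeparatedSp X) (hc : CompactSpace ↥(pullback U.hom U.hom)) :
    ∃ G : GoodChart X, Points.ofPt G.a '' Set.univ = Points.ofPt a '' Set.univ := by
  obtain ⟨R, p, q, sq⟩ := exists_isPullback (hX.representable_from_yon a) a
  let W : Over S := Over.mk (pullback.fst U.hom U.hom ≫ U.hom)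
  let p₁ : W ⟶ U := Over.homMk (pullback.fst U.hom U.hom) rfl
  let p₂ : W ⟶ U := Over.homMk (pullback.snd U.hom U.hom) pullback.condition.symm
  let l : R ⟶ W := Over.homMk (pullback.lift p.left q.left ((Over.w p).trans (Over.w q).symm))
    (by show _ ≫ _ ≫ _ = _; rw [pullback.lift_fst_assoc]; exact Over.w p)
  have hl₁ : l ≫ p₁ = p := Over.OverMorphism.ext (pullback.lift_fst _ _ _)
  have hl₂ : l ≫ p₂ = q := Over.OverMorphism.ext (pullback.lift_snd _ _ _)
  have : Mono (Limits.prod.lift ((yon S).map p₁) ((yon S).map p₂)) := by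
    refine ⟨fun {Z} u v e => hom_ext_yon fun T t => ?_⟩
    obtain ⟨k, hk⟩ := (yon S).map_surjective (t ≫ u)
    obtain ⟨k', hk'⟩ := (yon S).map_surjective (t ≫ v)
    have e₁ := congrArg (fun z => t ≫ z ≫ Limits.prod.fst) e
    have e₂ := congrArg (fun z => t ≫ z ≫ Limits.prod.snd) e
    simp only [Category.assoc, Limits.prod.lift_fst, Limits.prod.lift_snd] at e₁ e₂
    rw [← Category.assoc, ← Category.assoc, ← hk, ← hk', ← Functor.map_comp, ← Functor.map_comp] at e₁ e₂
    have h₁ := congrArg (·.left) ((yon S).map_injective e₁)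
    have h₂ := congrArg (·.left) ((yon S).map_injective e₂)
    rw [← hk, ← hk', show k = k' from Over.OverMorphism.ext (pullback.hom_ext h₁ h₂)]
  have h := repWith_baseChange (isPullback_diag_of_isPullback sq) hd
  have hl : RepWith @QuasiCompact ((yon S).map l) := by
    refine repWith_of_comp_mono (P := @QuasiCompact) _ (Limits.prod.lift ((yon S).map p₁) ((yon S).map p₂)) ?_
    rw [Limits.prod.comp_lift, ← Functor.map_comp, ← Functor.map_comp, hl₁, hl₂]
    exact h
  have : QuasiCompact l.left := (repWith_yon_map_iff _ _).1 hl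
  have : CompactSpace ↥W.left := hc
  exact ⟨⟨U, a, R, p, q, ‹_›, ha, sq, QuasiCompact.compactSpace_of_compactSpace l.left⟩, rfl⟩

/-- Good charts around every point of a quasi-separated algebraic space. -/
theorem hasGoodCharts_of_qs (hX : IsAlgSpace X) (hd : IsQuasiSeparatedSp X) : HasGoodCharts X := fun x => by
  obtain ⟨U, a, ha, has⟩ := hX.atlas
  obtain ⟨u, rfl⟩ := surjective_ofPt has x
  obtain ⟨S₀, hS₀, huS, -⟩ := exists_isAffineOpen_mem_and_subset (X := S) (x := U.hom u) (U := ⊤) trivial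
  obtain ⟨A, hA, huA, hAS⟩ := exists_isAffineOpen_mem_and_subset (X := U.left) (x := u) (U := U.hom ⁻¹ᵁ S₀) huS
  let V : Over S := openOver U A
  have : IsAffine V.left := hA
  have : IsAffine S₀.toScheme := hS₀
  let f₀ : V.left ⟶ S₀.toScheme := IsOpenImmersion.lift S₀.ι V.hom (by
    rw [Scheme.Opens.range_ι]; rintro _ ⟨v, rfl⟩; exact hAS v.2)
  have hf : f₀ ≫ S₀.ι = V.hom := IsOpenImmersion.lift_fac _ _ _
  have hc : CompactSpace ↥(pullback V.hom V.hom) := by
    let g : pullback f₀ f₀ ⟶ pullback V.hom V.hom :=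
      pullback.lift (pullback.fst _ _) (pullback.snd _ _) (by rw [← hf, pullback.condition_assoc])
    let e : pullback V.hom V.hom ⟶ pullback f₀ f₀ :=
      pullback.lift (pullback.fst _ _) (pullback.snd _ _) ((cancel_mono S₀.ι).1 (by
        rw [Category.assoc, Category.assoc, hf, pullback.condition]))
    have hge : e ≫ g = 𝟙 _ := by
      apply pullback.hom_ext
      · simp only [g, e, Category.assoc, pullback.lift_fst, pullback.lift_snd, Category.id_comp]
      · simp only [g, e, Category.assoc, pullback.lift_fst, pullback.lift_snd, Category.id_comp]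
    have hsurj : Function.Surjective g := fun z => ⟨e z, by
      show (e ≫ g) z = z
      rw [hge]; rfl⟩
    exact hsurj.compactSpace g.continuous
  obtain ⟨G, hG⟩ := exists_goodChart hX
    (repWith_yon_comp (openOverι U A) (inferInstanceAs (Etale A.ι)) ha) hd hc
  refine ⟨G, ?_⟩
  rw [← Set.image_univ, hG, Set.image_univ]
  exact ⟨⟨u, huA⟩, ofPt_comp _ _ _⟩

theorem hasGoodCharts_of_zarCover {ι : Type u} {Xi : ι → Sp S} {j : ∀ i, Xi i ⟶ X}
    (hc : IsZarCover Xi j) (h : ∀ i, IsAlgSpace (Xi i) ∧ IsQuasiSeparatedSp (Xi i)) : HasGoodCharts X := fun x => by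
  obtain ⟨i, y, rfl⟩ := hc.2 x
  obtain ⟨G, u, rfl⟩ := hasGoodCharts_of_qs (h i).1 (h i).2 y
  have : Mono (j i) := mono_of_repWith (hc.1 i) fun _ _ k hk => by
    have : IsOpenImmersion k := hk
    infer_instance
  refine ⟨⟨G.U, G.a ≫ j i, G.R, G.p, G.q, G.affine, repWith_comp G.etale (repWith_mono (fun _ _ k hk => by
    have : IsOpenImmersion k := hk
    exact inferInstanceAs (Etale k)) (hc.1 i)), ?_, G.qc⟩, u, (Points.map_ofPt _ _ _).symm⟩
  exact ⟨⟨by rw [← Category.assoc, G.sq.w, Category.assoc]⟩, ⟨PullbackCone.IsLimit.mk _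
    (fun s => G.sq.lift s.fst s.snd ((cancel_mono (j i)).1 (by simpa using s.condition)))
    (fun s => G.sq.lift_fst _ _ _) (fun s => G.sq.lift_snd _ _ _)
    fun s m h₁ h₂ => G.sq.hom_ext (h₁.trans (G.sq.lift_fst _ _ _).symm) (h₂.trans (G.sq.lift_snd _ _ _).symm)⟩⟩

/-- A quasi-compact and quasi-separated algebraic space over a quasi-separated base has a spectral space of points. -/
theorem spectralSpace_points [QuasiSeparatedSpace ↥S] (hX : IsAlgSpace X) (hqc : IsQuasiCompactSp X)
    (hqs : IsQuasiSeparatedSp X) : SpectralSpace (Points X) := by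
  obtain ⟨U, a, hU, ha, has⟩ := (isQuasiCompactSp_iff_affine hX).1 hqc
  have := hU
  have hS : QuasiCompact U.hom := quasiCompact_of_compactSpace U.hom
  have hc : CompactSpace ↥(pullback U.hom U.hom) :=
    QuasiCompact.compactSpace_of_compactSpace (pullback.fst U.hom U.hom)
  obtain ⟨G, hG⟩ := exists_goodChart hX ha hqs hc
  have hs : Function.Surjective (Points.ofPt G.a) := by
    rw [← Set.range_eq_univ, ← Set.image_univ, hG, Set.image_univ, (surjective_ofPt has).range_eq]
  have hgood : HasGoodCharts X := fun x => ⟨G, hs x⟩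
  have ht : T0Space (Points X) := t0Space_of_goodCharts hgood
  have hsob : QuasiSober (Points X) := quasiSober_of_goodCharts hgood
  have hcpt : CompactSpace (Points X) := hs.compactSpace (Points.continuous_ofPt G.a)
  have hqsep : QuasiSeparatedSpace (Points X) := ⟨fun V W hV hVc hW hWc => by
    have hpre : ∀ T : Set (Points X), IsOpen T → IsCompact T → IsCompact (Points.ofPt G.a ⁻¹' T) := by
      intro T hT hTc
      obtain ⟨s, hs', hseq⟩ := PrespectralSpace.isTopologicalBasis.open_eq_sUnion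
        (hT.preimage (Points.continuous_ofPt G.a))
      obtain ⟨b, hb⟩ := hTc.elim_finite_subcover (fun K : s => Points.ofPt G.a '' K.1)
        (fun K => G.isOpen_image (hs' K.2).1) (fun x hx => by
          obtain ⟨u, rfl⟩ := hs x
          obtain ⟨K, hK, huK⟩ := Set.mem_sUnion.1 (hseq ▸ (show u ∈ Points.ofPt G.a ⁻¹' T from hx))
          exact Set.mem_iUnion.2 ⟨⟨K, hK⟩, u, huK, rfl⟩)
      have e : Points.ofPt G.a ⁻¹' T = ⋃ K ∈ b, Points.ofPt G.a ⁻¹' (Points.ofPt G.a '' K.1) := by
        refine subset_antisymm (fun u hu => ?_) (Set.iUnion₂_subset fun K _ => ?_)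
        · obtain ⟨K, hK, hu'⟩ := Set.mem_iUnion₂.1 (hb hu)
          exact Set.mem_iUnion₂.2 ⟨K, hK, hu'⟩
        · rintro u ⟨v, hv, e⟩
          show Points.ofPt G.a u ∈ T
          rw [← e]
          show v ∈ Points.ofPt G.a ⁻¹' T
          rw [hseq]
          exact Set.mem_sUnion.2 ⟨K.1, K.2, hv⟩
      rw [e]
      exact b.isCompact_biUnion fun K _ => G.isCompact_preimage_image (hs' K.2).1 (hs' K.2).2
    rw [← Set.image_preimage_eq (V ∩ W) hs, Set.preimage_inter]
    exact (QuasiSeparatedSpace.inter_isCompact _ _ (hV.preimage (Points.continuous_ofPt G.a)) (hpre V hV hVc)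
      (hW.preimage (Points.continuous_ofPt G.a)) (hpre W hW hWc)).image (Points.continuous_ofPt G.a)⟩
  have hpre : PrespectralSpace (Points X) := PrespectralSpace.of_isTopologicalBasis
    (PrespectralSpace.isTopologicalBasis.isQuotientMap
      ((isOpenMap_ofPt_of_etale G.etale).isQuotientMap (Points.continuous_ofPt G.a) hs)
      (isOpenMap_ofPt_of_etale G.etale))
    fun s hs' => by
      obtain ⟨K, hK, he⟩ := hs'
      exact he ▸ hK.2.image (Points.continuous_ofPt G.a)
  exact { }

end Groth.Agent.AlgSpPts
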