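import Groth.Agent.AlgSpPts.Codim0
import Groth.Agent.AlgSpPts.Sober
import Groth.Agent.AlgSpPts.Misc

/-!
Generic points of components; factorisation through open subspaces.
-/

set_option autoImplicit false
set_option backward.isDefEq.respectTransparency.types false

universe u

open CategoryTheory CategoryTheory.Limits AlgebraicGeometry Opposite AlgSp Topology

namespace Groth.Agent.AlgSpPts

open Groth.Agent.AlgSpLib

variable {S : Scheme.{u}} {X : Sp S}

theorem dim0_of_hasAt (hX : IsAlgSpace X) {x : Points X}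
    (hx : HasAt (fun U u => ringKrullDim ↥(U.presheaf.stalk u) = 0) X x) {U : Over S}
    {a : (yon S).obj U ⟶ X} (ha : RepWith @Etale a) {u : ↥U.left} (hu : Points.ofPt a u = x) :
    ringKrullDim ↥(U.left.presheaf.stalk u) = 0 := by
  obtain ⟨U₀, a₀, u₀, ha₀, rfl, h₀⟩ := hx
  obtain ⟨R, p, q, sq⟩ := exists_isPullback (hX.representable_from_yon a₀) a
  have : Etale p.left := prop_snd sq.flip ha
  have : Etale q.left := prop_snd sq ha₀
  obtain ⟨r, hr, hr'⟩ := (ofPt_eq_iff sq u₀ u).1 hu.symm
  rw [← hr'] at *
  rw [← hr, ← dim0_iff_etale p.left r] at h₀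
  exact (dim0_iff_etale q.left r).1 h₀

theorem hasAt_dim0_iff_generic (hX : IsAlgSpace X) (hgood : HasGoodCharts X) (x : Points X) :
    HasAt (fun U u => ringKrullDim ↥(U.presheaf.stalk u) = 0) X x ↔
      ∃ Z ∈ irreducibleComponents (Points X), IsGenericPoint x Z := by
  have := t0Space_of_goodCharts hgood
  have := quasiSober_of_goodCharts hgood
  obtain ⟨G, u, rfl⟩ := hgood x
  constructor
  · intro hx
    refine ⟨irreducibleComponent (Points.ofPt G.a u), irreducibleComponent_mem_irreducibleComponents _, ?_⟩
    have hη := isIrreducible_irreducibleComponent.isGenericPoint_genericPoint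
      (isClosed_irreducibleComponent (x := Points.ofPt G.a u))
    convert hη
    generalize hy : (isIrreducible_irreducibleComponent (x := Points.ofPt G.a u)).genericPoint = y at hη
    have hyu : y ⤳ Points.ofPt G.a u := hη.specializes mem_irreducibleComponent
    have : u ∈ closure (⋃ v ∈ Points.ofPt G.a ⁻¹' {y}, {v}) := by
      rw [Set.biUnion_of_singleton]
      refine mem_closure_iff.2 fun O hO huO => ?_
      obtain ⟨v, hvO, hv⟩ := hyu.mem_open (G.isOpen_image hO) ⟨u, huO, rfl⟩
      exact ⟨v, hvO, hv⟩
    rw [(G.finite_preimage y).closure_biUnion] at this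
    obtain ⟨v, hv, hvu⟩ := Set.mem_iUnion₂.1 this
    have e : v = u := (dim0_iff u).1 (dim0_of_hasAt hX hx G.etale rfl) v (specializes_iff_mem_closure.2 hvu)
    exact e ▸ hv
  · rintro ⟨Z, hZ, hgen⟩
    obtain ⟨m, hm, hmax⟩ := (G.finite_preimage (Points.ofPt G.a u)).exists_maximal ⟨u, rfl⟩
    refine ⟨G.U, G.a, m, G.etale, hm, (dim0_iff m).2 fun y hy => ?_⟩
    have hy' : Points.ofPt G.a y ⤳ Points.ofPt G.a u := by
      rw [← (show Points.ofPt G.a m = Points.ofPt G.a u from hm)]
      exact hy.map (Points.continuous_ofPt G.a)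
    have hsub : Z ⊆ closure {Points.ofPt G.a y} := by
      rw [← hgen.def]
      exact closure_minimal (by simpa using hy'.mem_closure) isClosed_closure
    have e : closure {Points.ofPt G.a y} = Z := (hZ.2 isIrreducible_singleton.closure hsub).antisymm hsub
    have e' : Points.ofPt G.a y = Points.ofPt G.a u := (show IsGenericPoint _ Z from e).eq hgen
    exact (hy.antisymm (hmax e' (show m ≤ y from hy))).eq

theorem factor_open_iff {X X' Y : Sp S} {j : X' ⟶ X} (hj : RepWith @IsOpenImmersion j) (f : Y ⟶ X) :
    (∃ g, g ≫ j = f) ↔ Set.range (Points.map f) ⊆ Set.range (Points.map j) := by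
  refine ⟨?_, fun h => ?_⟩
  · rintro ⟨g, rfl⟩ _ ⟨y, rfl⟩
    exact ⟨Points.map g y, (Points.map_comp _ _ _).symm⟩
  · have sq := IsPullback.of_hasPullback j f
    have ho := repWith_baseChange sq hj
    have hs : RepWith @Surjective (pullback.snd j f) := repWith_surjective_of_map ho.1 fun y => by
      obtain ⟨x, hx⟩ := h ⟨y, rfl⟩
      obtain ⟨z, -, hz⟩ := exists_point_of_isPullback sq x y hx
      exact ⟨z, hz⟩
    have : IsIso (pullback.snd j f) := isIso_of_repWith_isomorphisms (repWith_mono (fun _ _ k hk => by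
      have : IsOpenImmersion k := hk.1
      have : Surjective k := hk.2
      have : Epi k.base := (TopCat.epi_iff_surjective _).2 k.surjective
      exact (show IsIso k from IsOpenImmersion.isIso k)) (repWith_inf ho hs))
    exact ⟨inv (pullback.snd j f) ≫ pullback.fst j f, by
      rw [Category.assoc, pullback.condition, IsIso.inv_hom_id_assoc]⟩

end Groth.Agent.AlgSpPts
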