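import Groth.Agent.AlgSpPts.Qc
import Groth.Prelude.Def_Flat

/-!
Topological properties of representable morphisms of algebraic spaces.
-/

set_option autoImplicit false
set_option backward.isDefEq.respectTransparency.types false

universe u

open CategoryTheory CategoryTheory.Limits AlgebraicGeometry Opposite AlgSp Topology

namespace Groth.Agent.AlgSpPts

open Groth.Agent.AlgSpLib

variable {S : Scheme.{u}} (Q : ∀ {α β : Type u} [TopologicalSpace α] [TopologicalSpace β] (_ : α → β), Prop)
  (Qs : MorphismProperty (Sp S))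

/-- A universal topological property of a representable morphism holds universally on points. -/
theorem univSp_of_repWith {P : MorphismProperty Scheme.{u}}
    (hQs : DescendsOnPoints Qs)
    (hPQ : ∀ ⦃W T : Over S⦄ (i : W ⟶ T) (P' : Sp S) (e : P' ≅ (yon S).obj W), P i.left →
      Qs (e.hom ≫ (yon S).map i))
    {X Y : Sp S} (hX : IsAlgSpace X) (hY : IsAlgSpace Y) {f : X ⟶ Y} (hf : RepWith P f) : UnivSp Qs f := by
  intro Z Z' hZ g fst snd sq
  obtain ⟨ι, V, p, -, hc⟩ := exists_affine_cover hZ
  refine hQs p hc snd (𝟙 Z) hZ (isAlgSpace_of_isPullback sq hX hZ hY) fun W ψ _ => ?_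
  have sq' := (IsPullback.of_hasPullback snd ψ).paste_horiz sq
  obtain ⟨V', i, a, sq₀⟩ := hf.1 (ψ ≫ g)
  let e := sq'.isoIsPullback _ _ sq₀
  have he : e.hom ≫ (yon S).map i = pullback.snd snd ψ := IsPullback.isoIsPullback_hom_snd _ _ _ _
  rw [← he]
  exact hPQ i _ e (hf.2 _ a i sq₀)

theorem isPullback_over {W U V T : Over S} {fst : W ⟶ U} {snd : W ⟶ V} {f : U ⟶ T} {g : V ⟶ T}
    (h : IsPullback fst.left snd.left f.left g.left) : IsPullback fst snd f g :=
  IsPullback.of_map (Over.forget S) (Over.OverMorphism.ext h.w) h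

/-- Conversely, a representable morphism universally having a property on points has it universally. -/
theorem repWith_of_univSp (hQQ : ∀ ⦃W T : Over S⦄ (i : W ⟶ T), Qs ((yon S).map i) → Q (⇑i.left))
    [(topologically Q).RespectsIso]
    {X Y : Sp S} {f : X ⟶ Y} (hf : Representable f) (h : UnivSp Qs f) :
    RepWith (topologically Q).universally f := by
  refine repWith_of_rep hf fun T W g fst i sq => ?_
  intro X' Y' i₁ i₂ f' sqs
  let T' : Over S := Over.mk (i₂ ≫ T.hom)
  let W' : Over S := Over.mk (f' ≫ i₂ ≫ T.hom)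
  let a : W' ⟶ W := Over.homMk i₁ (by
    show i₁ ≫ W.hom = f' ≫ i₂ ≫ T.hom
    rw [← Over.w i, reassoc_of% sqs.w])
  let b : T' ⟶ T := Over.homMk i₂ rfl
  let c : W' ⟶ T' := Over.homMk f' rfl
  have s₁ : IsPullback a c i b := isPullback_over sqs.flip
  exact hQQ c (h (IsAlgSpace.yon_obj T') ((yon S).map b ≫ g) _ _ ((yon_isPullback s₁).paste_horiz sq))

theorem points_map_conj {W T : Over S} (i : W ⟶ T) :
    Points.map ((yon S).map i) = ⇑(Points.schemeHomeo T) ∘ ⇑i.left ∘ ⇑(Points.schemeHomeo W).symm := by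
  funext x
  obtain ⟨w, rfl⟩ := (Points.schemeHomeo W).surjective x
  simp [Points.map_yon_map_apply]

theorem isHomeomorph_map_iso {F G : Sp S} (e : F ≅ G) : IsHomeomorph (Points.map e.hom) :=
  isHomeomorph_iff_exists_inverse.2 ⟨Points.continuous_map _, Points.map e.inv,
    fun x => by rw [← Points.map_comp, e.hom_inv_id, Points.map_id],
    fun x => by rw [← Points.map_comp, e.inv_hom_id, Points.map_id], Points.continuous_map _⟩

theorem left_eq_conj {W T : Over S} (i : W ⟶ T) :
    ⇑i.left = ⇑(Points.schemeHomeo T).symm ∘ Points.map ((yon S).map i) ∘ ⇑(Points.schemeHomeo W) := by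
  funext w
  simp [Points.map_yon_map_apply]

theorem map_comp_fun {F G H : Sp S} (a : F ⟶ G) (b : G ⟶ H) :
    Points.map (a ≫ b) = Points.map b ∘ Points.map a :=
  funext fun x => Points.map_comp a b x

theorem repWith_univOpen_iff {X Y : Sp S} (hX : IsAlgSpace X) (hY : IsAlgSpace Y) {f : X ⟶ Y}
    (hf : Representable f) : RepWith @UniversallyOpen f ↔ IsUnivOpenMor f := by
  constructor
  · refine univSp_of_repWith (IsOpenMor (S := S)) descendsOnPoints_isOpenMor (fun W T i P' e hi => ?_) hX hY
    have : UniversallyOpen i.left := hi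
    show IsOpenMap (Points.map _)
    rw [map_comp_fun, points_map_conj]
    exact ((Points.schemeHomeo T).isOpenMap.comp (i.left.isOpenMap.comp
      (Points.schemeHomeo W).symm.isOpenMap)).comp (isHomeomorph_map_iso e).isOpenMap
  · intro h
    have : (topologically @IsOpenMap : MorphismProperty Scheme.{u}).RespectsIso :=
      topologically_respectsIso _ (fun e => e.isOpenMap) fun _ _ hf hg => hg.comp hf
    refine repWith_mono (fun _ _ k hk => UniversallyOpen.mk hk)
      (repWith_of_univSp @IsOpenMap (IsOpenMor (S := S)) (fun W T i hi => ?_) hf h)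
    rw [left_eq_conj]
    exact (Points.schemeHomeo T).symm.isOpenMap.comp (IsOpenMap.comp hi (Points.schemeHomeo W).isOpenMap)

theorem repWith_univHomeo_iff {X Y : Sp S} (hX : IsAlgSpace X) (hY : IsAlgSpace Y) {f : X ⟶ Y}
    (hf : Representable f) : RepWith FlatMor.IsUnivHomeo f ↔ IsUnivHomeoMor f := by
  constructor
  · refine univSp_of_repWith (fun _ _ f => IsHomeomorph (Points.map f)) descendsOnPoints_isHomeomorph
      (fun W T i P' e hi => ?_) hX hY
    have h₁ : IsHomeomorph ⇑i.left := hi _ _ _ IsPullback.of_id_snd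
    show IsHomeomorph (Points.map _)
    rw [map_comp_fun, points_map_conj]
    exact ((Points.schemeHomeo T).isHomeomorph.comp (h₁.comp
      (Points.schemeHomeo W).symm.isHomeomorph)).comp (isHomeomorph_map_iso e)
  · intro h
    have : (topologically (fun f => IsHomeomorph f) : MorphismProperty Scheme.{u}).RespectsIso :=
      topologically_respectsIso _ (fun e => e.isHomeomorph) fun _ _ hf hg => hg.comp hf
    refine repWith_of_univSp (fun f => IsHomeomorph f) (fun _ _ f => IsHomeomorph (Points.map f))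
      (fun W T i hi => ?_) hf h
    rw [left_eq_conj]
    exact (Points.schemeHomeo T).symm.isHomeomorph.comp (IsHomeomorph.comp hi (Points.schemeHomeo W).isHomeomorph)

theorem isQuasiCompactMor_iff {X Y : Sp S} (hX : IsAlgSpace X) (hY : IsAlgSpace Y) {f : X ⟶ Y}
    (hf : Representable f) : RepWith @QuasiCompact f ↔ IsQuasiCompactMor f := by
  constructor
  · intro h Z Z' hZ hZc g fst snd sq
    obtain ⟨V, b, hV, hb, hbs⟩ := (isQuasiCompactSp_iff_affine hZ).1 hZc
    obtain ⟨W, i, a, sqW⟩ := h.1 (b ≫ g)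
    have : QuasiCompact i.left := h.2 _ a i sqW
    have : CompactSpace ↥W.left := QuasiCompact.compactSpace_of_compactSpace i.left
    refine isQuasiCompactSp_of_surjective (isAlgSpace_of_isPullback sq hX hZ hY)
      (sq.lift a ((yon S).map i ≫ b) (by rw [sqW.w, Category.assoc])) (fun z => ?_) (isQuasiCompactSp_yon W this)
    obtain ⟨v, hv⟩ := surjective_ofPt hbs (Points.map snd z)
    have sq' : IsPullback (sq.lift a ((yon S).map i ≫ b) (by rw [sqW.w, Category.assoc])) ((yon S).map i) snd b :=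
      IsPullback.of_right (by rw [sq.lift_fst]; exact sqW) (sq.lift_snd _ _ _) sq
    obtain ⟨w, hw, -⟩ := exists_point_of_isPullback sq' z (Points.ofPt (𝟙 _) v) (by rw [map_ofPt_id, hv])
    exact ⟨w, hw⟩
  · intro h
    refine repWith_of_affine_targets fun Z hZ g => ?_
    have : IsAffine Z.left := hZ
    obtain ⟨W, i, a, sqW⟩ := hf g
    have := compactSpace_points_of_isQuasiCompactSp (h (IsAlgSpace.yon_obj Z) (isQuasiCompactSp_yon _ inferInstance) g a _ sqW)
    have : CompactSpace ↥W.left := (Points.schemeHomeo W).symm.compactSpace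
    exact ⟨W, i, a, sqW, quasiCompact_of_compactSpace i.left⟩

end Groth.Agent.AlgSpPts

namespace Groth.Agent.AlgSpPts

open Groth.Agent.AlgSpLib

variable {S : Scheme.{u}}

theorem isSubmersiveMor_of_flat_qc {X Y : Sp S} (hX : IsAlgSpace X) (hY : IsAlgSpace Y) {f : X ⟶ Y}
    (hfl : LocP @Flat f) (hqc : IsQuasiCompactMor f) (hs : IsSurjectiveMor f) : IsSubmersiveMor f := by
  refine (isQuotientMap_iff _).2 ⟨isCoinducing_iff.2 fun O =>
    ⟨fun hO => ?_, fun hO => hO.preimage (Points.continuous_map _)⟩, hs⟩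
  obtain ⟨V, b, hb, hbs⟩ := hY.atlas
  rw [← (isQuotientMap_ofPt hb hbs).isCoinducing.isOpen_preimage]
  refine (TopologicalSpace.IsOpenCover.isOpen_iff_coe_preimage (U := fun A : V.left.affineOpens => A.1)
    (iSup_affineOpens_eq_top V.left)).2 fun A => ?_
  let T : Over S := Over.mk (A.1.ι ≫ V.hom)
  let j : T ⟶ V := Over.homMk A.1.ι rfl
  have hTe : RepWith @Etale ((yon S).map j ≫ b) := repWith_yon_comp j (inferInstanceAs (Etale A.1.ι)) hb
  have : IsAffine T.left := A.2
  have sq := IsPullback.of_hasPullback f ((yon S).map j ≫ b)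
  have hP := isAlgSpace_of_isPullback sq hX (IsAlgSpace.yon_obj T) hY
  obtain ⟨W, c, hW, hc, hcs⟩ := (isQuasiCompactSp_iff_affine hP).1
    (hqc (IsAlgSpace.yon_obj T) (isQuasiCompactSp_yon T inferInstance) _ _ _ sq)
  obtain ⟨q, hq⟩ := (yon S).map_surjective (c ≫ pullback.snd f ((yon S).map j ≫ b))
  have : Flat q.left := (locP_yon_map_iff q).1 (hq ▸ locP_comp (IsAlgSpace.yon_obj _) hP (IsAlgSpace.yon_obj _)
    (locP_of_repWith hc fun _ _ _ k m hk hm => EtLocal.comp_etale k m hk (EtLocal.of_etale (P := @Flat) m hm))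
    (locP_baseChange hX hY (IsAlgSpace.yon_obj _) sq hfl))
  have : Surjective q.left := ⟨fun t => by
    obtain ⟨x, hx⟩ := hs (Points.ofPt ((yon S).map j ≫ b) t)
    obtain ⟨z, -, hz⟩ := exists_point_of_isPullback sq x (Points.ofPt (𝟙 _) t) (by rw [hx, map_ofPt_id])
    obtain ⟨w, rfl⟩ := surjective_ofPt hcs z
    refine ⟨w, (Points.schemeHomeo T).injective ?_⟩
    rw [Points.map_ofPt, ← hq, ← Category.comp_id ((yon S).map q), ofPt_comp] at hz
    exact hz⟩
  have : QuasiCompact q.left := inferInstance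
  refine (?_ : IsOpen (X := ↥T.left) ((fun t => Points.ofPt b (j.left t)) ⁻¹' O))
  rw [← (Flat.isQuotientMap_of_surjective q.left).isCoinducing.isOpen_preimage]
  convert hO.preimage (Points.continuous_ofPt (c ≫ pullback.fst f ((yon S).map j ≫ b))) using 1
  ext w
  show Points.ofPt b (j.left (q.left w)) ∈ O ↔ Points.map f _ ∈ O
  rw [Points.map_ofPt, Category.assoc, pullback.condition, ← Category.assoc c, ← hq, ofPt_comp, ofPt_comp]

theorem flat_qc_surjective_submersive {X Y : Sp S} (hX : IsAlgSpace X) (hY : IsAlgSpace Y) {f : X ⟶ Y}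
    (hfl : LocP @Flat f) (hqc : IsQuasiCompactMor f) (hs : IsSurjectiveMor f) :
    IsSubmersiveMor f ∧ IsUnivSubmersiveMor f :=
  ⟨isSubmersiveMor_of_flat_qc hX hY hfl hqc hs, fun Z _ hZ g fst snd sq =>
    isSubmersiveMor_of_flat_qc (isAlgSpace_of_isPullback sq hX hZ hY) hZ (locP_baseChange hX hY hZ sq hfl)
      (fun _ _ hW hWc k a b sP => hqc hW hWc (k ≫ g) (a ≫ fst) b (sP.paste_horiz sq))
      (surjective_snd sq hs)⟩

end Groth.Agent.AlgSpPts
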