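import Groth.Agent.AlgSpPts.Sober
import Mathlib.Topology.Constructible

/-!
Constructible subsets of the space of points of a quasi-separated algebraic space.
-/

set_option autoImplicit false
set_option backward.isDefEq.respectTransparency.types false

universe u

open CategoryTheory CategoryTheory.Limits AlgebraicGeometry Opposite AlgSp Topology

namespace Groth.Agent.AlgSpPts

open Groth.Agent.AlgSpLib

variable {S : Scheme.{u}} {X : Sp S}

theorem isCompact_ofPt_preimage [QuasiSeparatedSpace ↥S] (hX : IsAlgSpace X) (hqs : IsQuasiSeparatedSp X)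
    {U : Over S} [CompactSpace ↥U.left] (a : (yon S).obj U ⟶ X) {K : Set (Points X)} (hK : IsOpen K)
    (hKc : IsCompact K) : IsCompact (Points.ofPt a ⁻¹' K) := by
  have h := isCompact_preimage hX
    (isQuasiCompactMor_of_qcqs (IsAlgSpace.yon_obj U) hX a (isQuasiCompactSp_yon U inferInstance) hqs) hK hKc
  have e : Points.map a ⁻¹' K = Points.ofPt (𝟙 _) '' (Points.ofPt a ⁻¹' K) := by
    ext z
    obtain ⟨t, rfl⟩ := exists_ofScheme z
    have hi : Function.Injective (Points.ofPt (𝟙 ((yon S).obj U))) := (Points.schemeHomeo U).injective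
    rw [Set.mem_preimage, map_ofPt_id, hi.mem_set_image]
    rfl
  rw [e] at h
  exact (Points.schemeHomeo U).isInducing.isCompact_iff.2 h

theorem isTopologicalBasis_compactOpen (hX : IsAlgSpace X) : PrespectralSpace (Points X) := by
  obtain ⟨U, a, ha, has⟩ := hX.atlas
  refine PrespectralSpace.of_isTopologicalBasis
    (PrespectralSpace.isTopologicalBasis.isQuotientMap
      (isQuotientMap_ofPt ha has) (isOpenMap_ofPt_of_etale ha)) fun s hs => ?_
  obtain ⟨K, hK, he⟩ := hs
  exact he ▸ hK.2.image (Points.continuous_ofPt a)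

theorem quasiSeparatedSpace_points [QuasiSeparatedSpace ↥S] (hX : IsAlgSpace X) (hqs : IsQuasiSeparatedSp X) :
    QuasiSeparatedSpace (Points X) := ⟨fun V W hV hVc hW hWc => by
  obtain ⟨U, a, ha, has⟩ := hX.atlas
  let O : U.left.Opens := ⟨Points.ofPt a ⁻¹' V, hV.preimage (Points.continuous_ofPt a)⟩
  obtain ⟨b, hb⟩ := hVc.elim_finite_subcover
    (fun A : {A : U.left.affineOpens // A.1 ≤ O} => Points.ofPt a '' (A.1.1 : Set ↥U.left))
    (fun A => isOpenMap_ofPt_of_etale ha _ A.1.1.isOpen) (fun y hy => by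
      obtain ⟨t, rfl⟩ := surjective_ofPt has y
      obtain ⟨A, hA, htA, hAO⟩ := exists_isAffineOpen_mem_and_subset (X := U.left) (x := t) (U := O) hy
      exact Set.mem_iUnion.2 ⟨⟨⟨A, hA⟩, hAO⟩, t, htA, rfl⟩)
  have e : V ∩ W = ⋃ A ∈ b, Points.ofPt ((yon S).map (openOverι U A.1.1) ≫ a) ''
      (Points.ofPt ((yon S).map (openOverι U A.1.1) ≫ a) ⁻¹' W) := by
    refine subset_antisymm (fun y hy => ?_) (Set.iUnion₂_subset fun A _ => ?_)
    · obtain ⟨A, hA, t, htA, rfl⟩ := Set.mem_iUnion₂.1 (hb hy.1)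
      refine Set.mem_iUnion₂.2 ⟨A, hA, ⟨t, htA⟩, ?_, ofPt_comp _ _ _⟩
      rw [Set.mem_preimage, ofPt_comp]
      exact hy.2
    · rintro _ ⟨w, hw, rfl⟩
      refine ⟨?_, hw⟩
      rw [ofPt_comp]
      exact A.2 (show w.1 ∈ A.1.1 from w.2)
  rw [e]
  refine b.isCompact_biUnion fun A _ => ?_
  have : IsAffine (openOver U A.1.1).left := A.1.2
  exact (isCompact_ofPt_preimage hX hqs _ hW hWc).image (Points.continuous_ofPt _)⟩

theorem isLocallyConstructible_preimage_ofPt [QuasiSeparatedSpace ↥S] (hX : IsAlgSpace X)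
    (hqs : IsQuasiSeparatedSp X) {E : Set (Points X)} (hE : IsLocallyConstructible E) {U : Over S}
    {a : (yon S).obj U ⟶ X} (ha : RepWith @Etale a) : IsLocallyConstructible (Points.ofPt a ⁻¹' E) := by
  have := quasiSeparatedSpace_points hX hqs
  have := isTopologicalBasis_compactOpen hX
  refine IsLocallyConstructible.of_isOpenCover (U := fun A : U.left.affineOpens => A.1) ?_ fun A => ?_
  · exact top_unique fun z _ => by
      obtain ⟨B, hB, hzB, -⟩ := exists_isAffineOpen_mem_and_subset (X := U.left) (x := z) (U := ⊤) trivial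
      exact TopologicalSpace.Opens.mem_iSup.2 ⟨⟨B, hB⟩, hzB⟩
  · let b := (yon S).map (openOverι U A.1) ≫ a
    have hb : RepWith @Etale b := repWith_yon_comp _ (inferInstanceAs (Etale A.1.ι)) ha
    have : IsAffine (openOver U A.1).left := A.2
    have hK : IsCompact (Set.range (Points.ofPt b)) := isCompact_range (Points.continuous_ofPt b)
    have hKo : IsOpen (Set.range (Points.ofPt b)) := (isOpenMap_ofPt_of_etale hb).isOpen_range
    have h := (hE.inter_of_isOpen_isCompact hKo hK).preimage (Points.continuous_ofPt b) (fun s hs hsr Q hQc hQ => by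
      have : Points.ofPt b ⁻¹' s ∩ Q = Points.ofPt b ⁻¹' (s ∩ Points.ofPt b '' Q) ∩ Q := by
        ext q
        exact ⟨fun h => ⟨⟨h.1, q, h.2, rfl⟩, h.2⟩, fun h => ⟨h.1.1, h.2⟩⟩
      rw [this]
      have hbQ := isOpenMap_ofPt_of_etale hb _ hQ
      exact QuasiSeparatedSpace.inter_isCompact _ _ ((hs.inter hbQ).preimage (Points.continuous_ofPt b))
        (isCompact_ofPt_preimage hX hqs b (hs.inter hbQ) (hsr (hQc.image (Points.continuous_ofPt b)) hbQ)) hQ hQc)
    have e : Points.ofPt b ⁻¹' (E ∩ Set.range (Points.ofPt b)) =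
        (Subtype.val ⁻¹' (Points.ofPt a ⁻¹' E) : Set ↥(A.1 : Set ↥U.left)) := by
      ext t
      show (_ ∈ E ∧ _) ↔ Points.ofPt a t.1 ∈ E
      rw [show Points.ofPt b t = Points.ofPt a t.1 from ofPt_comp _ _ _]
      exact and_iff_left ⟨t, ofPt_comp _ _ _⟩
    exact (e ▸ h : IsConstructible _).isLocallyConstructible

theorem isLocallyConstructible_of_charts [QuasiSeparatedSpace ↥S] (hX : IsAlgSpace X)
    (hqs : IsQuasiSeparatedSp X) {E : Set (Points X)}
    (hE : ∀ (U : Over S) (a : (yon S).obj U ⟶ X), RepWith @Etale a →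
      IsLocallyConstructible (Points.ofPt a ⁻¹' E)) : IsLocallyConstructible E := by
  classical
  have := quasiSeparatedSpace_points hX hqs
  have := isTopologicalBasis_compactOpen hX
  have hgood := hasGoodCharts_of_qs hX hqs
  have := t0Space_of_goodCharts hgood
  intro x
  obtain ⟨G, hxG⟩ := hgood x
  let π := Points.ofPt G.a
  let R := Set.range π
  have hRo : IsOpen R := G.isOpen_range
  have hRc : IsCompact R := isCompact_range (Points.continuous_ofPt G.a)
  have hT : @CompactSpace _ (constructibleTopology ↥G.U.left) :=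
    @Function.Surjective.compactSpace (WithConstructibleTopology ↥G.U.left) _ _ (constructibleTopology ↥G.U.left) _
      (WithTopology.continuous_ofTopology (constructibleTopology ↥G.U.left)) inferInstance (WithTopology.ofTopology_surjective _)
  have hclopen : ∀ F : Set ↥G.U.left, IsConstructible F → IsClosed[constructibleTopology ↥G.U.left] F ∧ IsOpen[constructibleTopology ↥G.U.left] F := by
    intro F hF
    induction hF using IsConstructible.empty_union_induction with
    | open_retrocompact K hKo hKr =>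
      have hKc : IsCompact K := hKr.isCompact
      exact ⟨(@isOpen_compl_iff _ _ (constructibleTopology ↥G.U.left)).1 (IsCompact.isOpen_constructibleTopology_of_isClosed
        (by rwa [compl_compl]) hKo.isClosed_compl), hKc.isOpen_constructibleTopology_of_isOpen hKo⟩
    | union s hs t ht hs' ht' =>
      exact ⟨@IsClosed.union _ _ _ (constructibleTopology ↥G.U.left) hs'.1 ht'.1, @IsOpen.union _ _ _ (constructibleTopology ↥G.U.left) hs'.2 ht'.2⟩
    | compl s hs hs' => exact ⟨(@isClosed_compl_iff _ (constructibleTopology ↥G.U.left) s).2 hs'.2, (@isOpen_compl_iff _ s (constructibleTopology ↥G.U.left)).2 hs'.1⟩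
  have hpre : ∀ K : Set (Points X), IsOpen K → IsCompact K → IsConstructible (π ⁻¹' K) := fun K hK hKc =>
    (isCompact_ofPt_preimage hX hqs G.a hK hKc).isConstructible (hK.preimage (Points.continuous_ofPt G.a))
  let F := π ⁻¹' E
  have hF : IsClosed[constructibleTopology ↥G.U.left] F ∧ IsOpen[constructibleTopology ↥G.U.left] F := hclopen _ (hE G.U G.a G.etale).isConstructible
  -- the constructible subsets of the chart image
  let 𝒞 := {C : Set (Points X) | IsConstructible C ∧ IsConstructible (π ⁻¹' C)}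
  have hsep : ∀ u ∈ F, ∀ v ∈ Fᶜ, ∃ C ∈ 𝒞, π u ∈ C ∧ π v ∉ C := by
    intro u hu v hv
    have hne : π u ≠ π v := fun e => hv (show π v ∈ E from e ▸ hu)
    obtain ⟨K, ⟨hKo, hKc⟩, hK⟩ : ∃ K : Set (Points X), (IsOpen K ∧ IsCompact K) ∧ ¬(π u ∈ K ↔ π v ∈ K) := by
      by_contra h
      simp only [not_exists, not_and, not_not] at h
      exact hne ((PrespectralSpace.isTopologicalBasis.inseparable_iff).2 fun K hK => h K hK).eq
    rcases Classical.em (π u ∈ K) with huK | huK
    · exact ⟨K, ⟨hKc.isConstructible hKo, hpre K hKo hKc⟩, huK, fun hvK => hK (iff_of_true huK hvK)⟩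
    · exact ⟨Kᶜ, ⟨(hKc.isConstructible hKo).compl, (hpre K hKo hKc).compl⟩, huK,
        fun hvK => hK (iff_of_false huK hvK)⟩
  choose C hC hCu hCv using hsep
  have hD : ∀ u (hu : u ∈ F), ∃ D ∈ 𝒞, π u ∈ D ∧ π ⁻¹' D ⊆ F := by
    intro u hu
    have hFc : @IsCompact _ (constructibleTopology ↥G.U.left) Fᶜ := @IsClosed.isCompact _ (constructibleTopology ↥G.U.left) _ hT ((@isClosed_compl_iff _ (constructibleTopology ↥G.U.left) _).2 hF.2)
    obtain ⟨s, hs⟩ := @IsCompact.elim_finite_subcover _ (constructibleTopology ↥G.U.left) _ _ hFc (fun v : ↥(Fᶜ) => π ⁻¹' (C u hu v.1 v.2)ᶜ)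
      (fun v => (hclopen _ (hC u hu v.1 v.2).2.compl).2)
      fun v hv => Set.mem_iUnion.2 ⟨⟨v, hv⟩, hCv u hu v hv⟩
    refine ⟨⋂ v ∈ (s : Set ↥(Fᶜ)), C u hu v.1 v.2, ⟨IsConstructible.biInter s.finite_toSet
      (fun v _ => (hC u hu v.1 v.2).1), ?_⟩, Set.mem_iInter₂.2 fun v _ => hCu u hu v.1 v.2, ?_⟩
    · rw [Set.preimage_iInter₂]
      exact IsConstructible.biInter s.finite_toSet fun v _ => (hC u hu v.1 v.2).2
    · intro w hw
      by_contra hwF
      obtain ⟨v, hv, hwv⟩ := Set.mem_iUnion₂.1 (hs hwF)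
      exact hwv (Set.mem_iInter₂.1 hw v hv)
  choose D hD hDu hDF using hD
  obtain ⟨s, hs⟩ := @IsCompact.elim_finite_subcover _ (constructibleTopology ↥G.U.left) _ _ (@IsClosed.isCompact _ (constructibleTopology ↥G.U.left) _ hT hF.1)
    (fun u : ↥F => π ⁻¹' D u.1 u.2) (fun u => (hclopen _ (hD u.1 u.2).2).2)
    fun u hu => Set.mem_iUnion.2 ⟨⟨u, hu⟩, hDu u hu⟩
  have hER : E ∩ R = R ∩ ⋃ u ∈ (s : Set ↥F), D u.1 u.2 := by
    refine subset_antisymm ?_ ?_
    · rintro _ ⟨he, w, rfl⟩
      obtain ⟨u, hu, hw⟩ := Set.mem_iUnion₂.1 (hs he)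
      exact ⟨⟨w, rfl⟩, Set.mem_iUnion₂.2 ⟨u, hu, hw⟩⟩
    · rintro _ ⟨⟨w, rfl⟩, hw⟩
      obtain ⟨u, -, hw⟩ := Set.mem_iUnion₂.1 hw
      exact ⟨hDF u.1 u.2 hw, w, rfl⟩
  have hc : IsConstructible (E ∩ R) :=
    hER ▸ (hRc.isConstructible hRo).inter (IsConstructible.biUnion s.finite_toSet fun u _ => (hD u.1 u.2).1)
  refine ⟨R, hRo.mem_nhds hxG, hRo, ?_⟩
  rw [← Subtype.preimage_coe_inter_self]
  exact hc.preimage_of_isOpenEmbedding hRo.isOpenEmbedding_subtypeVal

end Groth.Agent.AlgSpPts
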