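import Groth.Agent.AlgSpPts.RepTop
import Groth.Agent.AlgStLib.SpMorCalc

/-!
Cancellation and descent of universally closed, separated and quasi-compact morphisms of algebraic spaces.
-/

set_option autoImplicit false
set_option backward.isDefEq.respectTransparency.types false

universe u

open CategoryTheory CategoryTheory.Limits AlgebraicGeometry Opposite AlgSp Topology

namespace Groth.Agent.AlgSpPts

open Groth.Agent.AlgSpLib

variable {S : Scheme.{u}}

theorem isQuasiCompactMor_baseChange {X Y X' Y' : Sp S} {f : X ⟶ Y} {g : Y' ⟶ Y} {fst : X' ⟶ X} {f' : X' ⟶ Y'}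
    (sq : IsPullback fst f' f g) (h : IsQuasiCompactMor f) : IsQuasiCompactMor f' :=
  fun _ _ hW hWc k a b sP => h hW hWc (k ≫ g) (a ≫ fst) b (sP.paste_horiz sq)

theorem isUnivClosedMor_of_closedImmersion {X Y : Sp S} (hX : IsAlgSpace X) (hY : IsAlgSpace Y) {f : X ⟶ Y}
    (hf : RepWith @IsClosedImmersion f) : IsUnivClosedMor f := by
  refine univSp_of_repWith (IsClosedMor (S := S)) descendsOnPoints_isClosedMor (fun W T i P' e hi => ?_) hX hY hf
  have : IsClosedImmersion i.left := hi
  show IsClosedMap (Points.map _)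
  rw [map_comp_fun, points_map_conj]
  exact ((Points.schemeHomeo T).isClosedMap.comp (i.left.isClosedEmbedding.isClosedMap.comp
    (Points.schemeHomeo W).symm.isClosedMap)).comp (isHomeomorph_map_iso e).isClosedMap

theorem isPullback_graph {X Y B : Sp S} {f : X ⟶ Y} {p : X ⟶ B} {q : Y ⟶ B} (comm : f ≫ q = p) :
    IsPullback f (pullback.lift (𝟙 X) f (by rw [comm, Category.id_comp]) : X ⟶ pullback p q) (pullback.diagonal q)
      (pullback.lift (pullback.fst p q ≫ f) (pullback.snd p q) (by rw [Category.assoc, comm, pullback.condition])) := by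
  refine IsPullback.of_isLimit' ⟨?_⟩ (PullbackCone.IsLimit.mk _ (fun s => s.snd ≫ pullback.fst p q)
    (fun s => ?_) (fun s => ?_) (fun s l h₁ h₂ => ?_))
  · apply pullback.hom_ext <;> simp only [Category.assoc, pullback.lift_fst, pullback.lift_snd,
      pullback.lift_fst_assoc, pullback.diagonal_fst, pullback.diagonal_snd, Category.comp_id, Category.id_comp]
  · have h := congrArg (· ≫ pullback.fst q q) s.condition
    simp only [Category.assoc, pullback.diagonal_fst, pullback.lift_fst, Category.comp_id] at h
    exact (Category.assoc _ _ _).trans h.symm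
  · have h₁ := congrArg (· ≫ pullback.fst q q) s.condition
    have h₂ := congrArg (· ≫ pullback.snd q q) s.condition
    simp only [Category.assoc, pullback.diagonal_fst, pullback.diagonal_snd, pullback.lift_fst, pullback.lift_snd,
      Category.comp_id] at h₁ h₂
    apply pullback.hom_ext
    · simp only [Category.assoc]; erw [pullback.lift_fst, Category.comp_id]
    · simp only [Category.assoc]; erw [pullback.lift_snd]
      rw [← h₁]; exact h₂
  · rw [← h₂]
    exact ((Category.assoc _ _ _).trans ((congrArg _ (pullback.lift_fst _ _ _)).trans (Category.comp_id l))).symm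

theorem cancel_separated {X Y B : Sp S} (hX : IsAlgSpace X) (hY : IsAlgSpace Y) (hB : IsAlgSpace B) {f : X ⟶ Y}
    {p : X ⟶ B} {q : Y ⟶ B} (comm : f ≫ q = p) (hq : IsSeparatedMor q) :
    (IsUnivClosedMor p → IsUnivClosedMor f ∧ IsClosed (Set.range (Points.map f))) ∧
      (IsProperMor p → IsProperMor f) := by
  let Γ : X ⟶ pullback p q := pullback.lift (𝟙 X) f (by rw [comm, Category.id_comp])
  have hP : IsAlgSpace (pullback p q) := isAlgSpace_pullback p q hX hY hB
  have hΓ : RepWith @IsClosedImmersion Γ := repWith_baseChange (isPullback_graph comm) hq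
  have ef : Γ ≫ pullback.snd p q = f := pullback.lift_snd _ _ _
  have hUC : IsUnivClosedMor p → IsUnivClosedMor f := fun h => by
    rw [← ef]
    exact AlgStLib.univSp_comp (fun _ _ _ a b => AlgStLib.isClosedMor_comp a b) hP hY
      (isUnivClosedMor_of_closedImmersion hX hP hΓ) (univSp_baseChange h (IsPullback.of_hasPullback p q))
  refine ⟨fun h => ⟨hUC h, ?_⟩, fun h => ?_⟩
  · exact (hUC h hY (𝟙 Y) (𝟙 X) f (IsPullback.of_horiz_isIso ⟨by simp⟩)).isClosed_range
  have hs := IsPullback.of_hasPullback p q
  have hΓs : IsSeparatedMor Γ := (isSeparatedMor_iff_repWith hΓ.1).2 (repWith_mono (fun _ _ k hk => by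
    have : IsClosedImmersion k := hk
    infer_instance) hΓ)
  have hΓl : LocP @LocallyOfFiniteType Γ := locP_of_repWith hΓ fun _ _ _ k m hk hm => by
    have : IsClosedImmersion m := hm
    exact EtLocal.comp_etale k m hk (show LocallyOfFiniteType m by infer_instance)
  refine ⟨?_, ⟨?_, ?_⟩, hUC h.2.2⟩ <;> rw [← ef]
  · exact AlgStLib.isSeparatedMor_comp hΓs (repWith_diagonal_baseChange hs h.1)
  · exact locP_comp hX hP hY hΓl (locP_baseChange hX hB hY hs h.2.1.1)
  · exact AlgStLib.isQuasiCompactMor_comp hP hY ((isQuasiCompactMor_iff hX hP hΓ.1).1 (repWith_mono (fun _ _ k hk => by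
      have : IsClosedImmersion k := hk
      infer_instance) hΓ)) (isQuasiCompactMor_baseChange hs h.2.1.2)

theorem univClosed_of_comp_surjective {X Y Z : Sp S} (hY : IsAlgSpace Y) (hZ : IsAlgSpace Z) {f : X ⟶ Y}
    {a : Y ⟶ Z} (hs : IsSurjectiveMor f) (h : IsUnivClosedMor (f ≫ a)) : IsUnivClosedMor a := by
  intro T T' hT g fst snd sq C hC
  have sf := IsPullback.of_hasPullback f fst
  have hsf : Function.Surjective (Points.map (pullback.snd f fst)) := surjective_snd sf hs
  have hc := h hT g (pullback.fst f fst) (pullback.snd f fst ≫ snd) (sf.paste_vert sq) _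
    (hC.preimage (Points.continuous_map (pullback.snd f fst)))
  convert hc using 1
  rw [map_comp_fun, Set.image_comp, Set.image_preimage_eq _ hsf]

theorem qc_of_comp_surjective {X Y Z : Sp S} (hY : IsAlgSpace Y) (hZ : IsAlgSpace Z) {f : X ⟶ Y}
    {a : Y ⟶ Z} (hs : IsSurjectiveMor f) (h : IsQuasiCompactMor (f ≫ a)) : IsQuasiCompactMor a := by
  intro T T' hT hTc g fst snd sq
  have sf := IsPullback.of_hasPullback f fst
  exact isQuasiCompactSp_of_surjective (isAlgSpace_of_isPullback sq hY hT hZ) (pullback.snd f fst)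
    (surjective_snd sf hs) (h hT hTc g (pullback.fst f fst) (pullback.snd f fst ≫ snd) (sf.paste_vert sq))

theorem isUnivClosedMor_map_self {X Y B : Sp S} (hX : IsAlgSpace X) (hY : IsAlgSpace Y) (hB : IsAlgSpace B)
    {f : X ⟶ Y} {p : X ⟶ B} {q : Y ⟶ B} (comm : f ≫ q = p) (hc : IsUnivClosedMor f) :
    IsUnivClosedMor (pullback.lift (pullback.fst p p ≫ f) (pullback.snd p p ≫ f)
      (by rw [Category.assoc, Category.assoc, comm, pullback.condition]) : pullback p p ⟶ pullback q q) := by
  let m₁ : pullback p p ⟶ pullback q p := pullback.lift (pullback.fst p p ≫ f) (pullback.snd p p)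
    (by rw [Category.assoc, comm, pullback.condition])
  let m₂ : pullback q p ⟶ pullback q q := pullback.lift (pullback.fst q p) (pullback.snd q p ≫ f)
    (by rw [Category.assoc, comm, pullback.condition])
  have h₁ : IsPullback (pullback.fst p p) m₁ f (pullback.fst q p) :=
    IsPullback.of_bot (by rw [comm, pullback.lift_snd]; exact IsPullback.of_hasPullback p p)
      (by rw [pullback.lift_fst]) (IsPullback.of_hasPullback q p)
  have h₂ : IsPullback (pullback.snd q p) m₂ f (pullback.snd q q) :=
    IsPullback.of_bot (by rw [comm, pullback.lift_fst]; exact (IsPullback.of_hasPullback q p).flip)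
      (by rw [pullback.lift_snd]) (IsPullback.of_hasPullback q q).flip
  have e : m₁ ≫ m₂ = pullback.lift (pullback.fst p p ≫ f) (pullback.snd p p ≫ f)
      (by rw [Category.assoc, Category.assoc, comm, pullback.condition]) := by
    apply pullback.hom_ext
    · simp only [Category.assoc, m₁, m₂]; erw [pullback.lift_fst, pullback.lift_fst, pullback.lift_fst]
    · simp only [Category.assoc, m₁, m₂]; erw [pullback.lift_snd, pullback.lift_snd, pullback.lift_snd_assoc]
  rw [← e]
  exact AlgStLib.univSp_comp (fun _ _ _ a b => AlgStLib.isClosedMor_comp a b)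
    (isAlgSpace_pullback q p hY hX hB) (isAlgSpace_pullback q q hY hY hB)
    (univSp_baseChange hc h₁) (univSp_baseChange hc h₂)

theorem separated_of_surjective_univClosed {X Y B : Sp S} (hX : IsAlgSpace X) (hY : IsAlgSpace Y) (hB : IsAlgSpace B)
    {f : X ⟶ Y} {p : X ⟶ B} {q : Y ⟶ B} (comm : f ≫ q = p) (hs : IsSurjectiveMor f) (hc : IsUnivClosedMor f) :
    (IsQuasiSeparatedMor p → IsQuasiSeparatedMor q) ∧ (IsSeparatedMor p → IsSeparatedMor q) := by
  have hPp := isAlgSpace_pullback p p hX hX hB
  have hPq := isAlgSpace_pullback q q hY hY hB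
  have hM := isUnivClosedMor_map_self hX hY hB comm hc
  have e : pullback.diagonal p ≫ pullback.lift (pullback.fst p p ≫ f) (pullback.snd p p ≫ f)
      (by rw [Category.assoc, Category.assoc, comm, pullback.condition]) = f ≫ pullback.diagonal q := by
    apply pullback.hom_ext
    · simp only [Category.assoc, pullback.diagonal_fst, Category.comp_id]
      erw [pullback.lift_fst, pullback.diagonal_fst_assoc]
    · simp only [Category.assoc, pullback.diagonal_snd, Category.comp_id]
      erw [pullback.lift_snd, pullback.diagonal_snd_assoc]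
  refine ⟨fun h => ?_, fun h => ?_⟩
  · refine (isQuasiCompactMor_iff hY hPq (representable_diagonal hY q)).2 (qc_of_comp_surjective hY hPq hs ?_)
    rw [← e]
    exact AlgStLib.isQuasiCompactMor_comp hPp hPq
      ((isQuasiCompactMor_iff hX hPp (representable_diagonal hX p)).1 h)
      (isQuasiCompactMor_of_isUnivClosedMor hPp hPq hM)
  · refine isSeparatedMor_of_diag_univClosed hY hB q (univClosed_of_comp_surjective hY hPq hs ?_)
    rw [← e]
    exact AlgStLib.univSp_comp (fun _ _ _ a b => AlgStLib.isClosedMor_comp a b) hPp hPq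
      (isUnivClosedMor_of_closedImmersion hX hPp h) hM

theorem isQuasiCompactMor_of_univOpen {X Y Y' X' : Sp S} (hX : IsAlgSpace X) (hY : IsAlgSpace Y)
    (hY' : IsAlgSpace Y') {f : X ⟶ Y} {g : Y' ⟶ Y} {fst : X' ⟶ X} {f' : X' ⟶ Y'} (sq : IsPullback fst f' f g)
    (hg : IsUnivOpenMor g) (hgs : IsSurjectiveMor g) (hf : IsQuasiCompactMor f') : IsQuasiCompactMor f := by
  intro Z XZ hZ hZc k a b sqb
  have := compactSpace_points_of_isQuasiCompactSp hZc
  have sW := IsPullback.of_hasPullback g k
  have hW : IsAlgSpace (pullback g k) := isAlgSpace_pullback g k hY' hZ hY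
  have ho := hg hZ k _ _ sW
  obtain ⟨s, hs⟩ := isCompact_univ.elim_finite_subcover
    (fun O : {O : Set (Points (pullback g k)) // IsOpen O ∧ IsCompact O} => Points.map (pullback.snd g k) '' O.1)
    (fun O => ho _ O.2.1) (fun z _ => by
      obtain ⟨w, rfl⟩ := surjective_snd sW hgs z
      obtain ⟨O, hO, hOc, hwO, -⟩ := exists_compact_nhd hW w Set.univ isOpen_univ trivial
      exact Set.mem_iUnion.2 ⟨⟨O, hO, hOc⟩, w, hwO, rfl⟩)
  have sP := IsPullback.of_hasPullback f' (pullback.fst g k)
  have hfw : IsQuasiCompactMor (pullback.snd f' (pullback.fst g k)) := isQuasiCompactMor_baseChange sP hf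
  have sbig : IsPullback (pullback.fst f' (pullback.fst g k) ≫ fst) (pullback.snd f' (pullback.fst g k)) f
      (pullback.snd g k ≫ k) := by
    rw [← pullback.condition]
    exact sP.paste_horiz sq
  let r := sqb.lift (pullback.fst f' (pullback.fst g k) ≫ fst) (pullback.snd f' (pullback.fst g k) ≫ pullback.snd g k)
    (by rw [sbig.w, Category.assoc])
  have sr : IsPullback r (pullback.snd f' (pullback.fst g k)) b (pullback.snd g k) :=
    IsPullback.of_right (by rw [sqb.lift_fst]; exact sbig) (sqb.lift_snd _ _ _) sqb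
  refine (isQuasiCompactSp_iff_compactSpace (isAlgSpace_of_isPullback sqb hX hZ hY)).2 ⟨?_⟩
  have hc := s.finite_toSet.isCompact_biUnion fun O _ =>
    (isCompact_preimage hW hfw O.2.1 O.2.2).image (Points.continuous_map r)
  convert hc
  refine (Set.eq_univ_of_forall fun x => ?_).symm
  obtain ⟨O, hO, w, hw, e⟩ := Set.mem_iUnion₂.1 (hs (Set.mem_univ (Points.map b x)))
  obtain ⟨z, hz, hz'⟩ := exists_point_of_isPullback sr x w e.symm
  exact Set.mem_iUnion₂.2 ⟨O, hO, z, by rw [Set.mem_preimage, hz']; exact hw, hz⟩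

end Groth.Agent.AlgSpPts
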