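import Groth.Agent.AlgSpPts.Descend
import Groth.Agent.S7552
import Groth.Prelude.Def_AlgSpDec

/-!
Dimension of algebraic spaces along locally quasi-finite and etale morphisms.
-/

set_option autoImplicit false
set_option backward.isDefEq.respectTransparency.types false

universe u

open CategoryTheory CategoryTheory.Limits AlgebraicGeometry Opposite AlgSp Topology
open TopologicalSpace (IrreducibleCloseds)

namespace Groth.Agent.AlgSpPts

open Groth.Agent.AlgSpLib

/-- Maps with discrete fibres do not increase the dimension. -/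
theorem topologicalKrullDim_le_of_discrete_fibers {X Y : Type u} [TopologicalSpace X] [TopologicalSpace Y]
    [QuasiSober X] [T0Space Y] {f : X → Y} (hf : Continuous f) (h : ∀ y, _root_.IsDiscrete (f ⁻¹' {y})) :
    topologicalKrullDim X ≤ topologicalKrullDim Y := by
  refine Order.krullDim_le_of_strictMono
    (fun Z => (⟨closure (f '' (Z : Set X)), (Z.isIrreducible.image f hf.continuousOn).closure, isClosed_closure⟩ :
      IrreducibleCloseds Y)) fun Z Z' hlt => ?_
  refine lt_of_le_of_ne (closure_mono (Set.image_mono hlt.le)) fun e => hlt.ne ?_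
  obtain ⟨x, hx⟩ := QuasiSober.sober Z.isIrreducible Z.isClosed
  obtain ⟨x', hx'⟩ := QuasiSober.sober Z'.isIrreducible Z'.isClosed
  have h₁ : IsGenericPoint (f x) (closure (f '' (Z : Set X))) := hx.image hf
  have h₂ : IsGenericPoint (f x') (closure (f '' (Z' : Set X))) := hx'.image hf
  have e' : closure (f '' (Z : Set X)) = closure (f '' (Z' : Set X)) :=
    congrArg (fun W : IrreducibleCloseds Y => (W : Set Y)) e
  have he : f x = f x' := h₁.eq (e'.symm ▸ h₂)
  have hs : x' ⤳ x := hx'.specializes (hlt.le hx.mem)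
  have : DiscreteTopology (f ⁻¹' {f x}) := (h (f x)).to_subtype
  have hxx : (⟨x', he.symm⟩ : f ⁻¹' {f x}) = ⟨x, rfl⟩ :=
    (IsInducing.subtypeVal.specializes_iff.1 hs).eq
  refine IrreducibleCloseds.ext ?_
  rw [← hx.def, ← hx'.def, show x' = x from congrArg Subtype.val hxx]

variable {S : Scheme.{u}}

theorem dim_le_of_lqf {X Y : Sp S} (hX : IsAlgSpace X) (hY : IsAlgSpace Y) {f : X ⟶ Y}
    (hf : LocP (@LocallyQuasiFinite ⊓ @LocallyOfFiniteType) f) : AlgSp.dim X ≤ AlgSp.dim Y := by
  refine iSup_le fun U => iSup_le fun a => iSup_le fun ha => ?_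
  obtain ⟨V, b, hb, hbs⟩ := hY.atlas
  obtain ⟨W, p, q, sq⟩ := exists_isPullback (hY.representable_from_yon (a ≫ f)) b
  have : Etale p.left := prop_snd sq.flip hb
  have : Surjective p.left := prop_snd sq.flip hbs
  have hq := hf _ b q (repWith_yon_comp p (inferInstanceAs (Etale p.left)) ha) hb
    (by rw [Category.assoc]; exact sq.w)
  have : LocallyQuasiFinite q.left := hq.1
  refine le_trans (Groth.Agent.S7552.result p.left p.left.continuous p.left.surjective
    (Or.inr (Flat.generalizingMap p.left))) ?_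
  refine le_trans (topologicalKrullDim_le_of_discrete_fibers q.left.continuous fun y => q.left.isDiscrete_preimage_singleton y) ?_
  exact le_iSup_of_le V (le_iSup_of_le b (le_iSup_of_le hb le_rfl))

theorem dim_eq_of_etale_surjective {X Y : Sp S} (hX : IsAlgSpace X) (hY : IsAlgSpace Y) {f : X ⟶ Y}
    (hf : IsEtaleMor f) (hs : IsSurjectiveMor f) : AlgSp.dim X = AlgSp.dim Y := by
  have hf' : LocP @Etale f := (isEtaleMor_iff_locP hY).1 hf
  refine le_antisymm (dim_le_of_lqf hX hY (locP_mono (fun _ _ k hk => ?_) hf'))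
    (iSup_le fun V => iSup_le fun b => iSup_le fun hb => ?_)
  · have : Etale k := hk
    exact ⟨locallyQuasiFinite_of_formallyUnramified k, inferInstanceAs (LocallyOfFiniteType k)⟩
  obtain ⟨U, a, ha, has⟩ := hX.atlas
  obtain ⟨W, p, q, sq⟩ := exists_isPullback (hY.representable_from_yon (a ≫ f)) b
  have : Etale p.left := prop_snd sq.flip hb
  have hpa := repWith_yon_comp p (inferInstanceAs (Etale p.left)) ha
  have : Etale q.left := hf' _ b q hpa hb (by rw [Category.assoc]; exact sq.w)
  have : Surjective q.left := ⟨fun v => by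
    obtain ⟨x, hx⟩ := hs (Points.ofPt b v)
    obtain ⟨u, rfl⟩ := surjective_ofPt has x
    obtain ⟨z, -, hz⟩ := exists_point_of_isPullback sq (Points.ofPt (𝟙 _) u) (Points.ofPt (𝟙 _) v)
      (by rw [map_ofPt_id, map_ofPt_id, ← Points.map_ofPt, hx])
    obtain ⟨w, rfl⟩ := exists_ofScheme z
    refine ⟨w, (Points.schemeHomeo V).injective ?_⟩
    rw [map_ofPt_id, ← Category.comp_id ((yon S).map q), ofPt_comp] at hz
    exact hz⟩
  refine le_trans (Groth.Agent.S7552.result q.left q.left.continuous q.left.surjective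
    (Or.inr (Flat.generalizingMap q.left))) ?_
  exact le_iSup_of_le W (le_iSup_of_le _ (le_iSup_of_le hpa le_rfl))

end Groth.Agent.AlgSpPts
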