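import Groth.Agent.AlgSpPts.NoethSp
import Groth.Agent.Weighting.Local
import Mathlib.AlgebraicGeometry.Morphisms.UniversallyOpen

/-!
Codimension zero points and irreducible components of algebraic spaces.
-/

set_option autoImplicit false
set_option backward.isDefEq.respectTransparency.types false

universe u

open CategoryTheory CategoryTheory.Limits AlgebraicGeometry Opposite AlgSp Topology

namespace Groth.Agent.AlgSpPts

open Groth.Agent.AlgSpLib

variable {S : Scheme.{u}}

/-- A point is a codimension zero point exactly when it has no proper generization. -/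
theorem dim0_iff {U : Scheme.{u}} (x : U) :
    ringKrullDim ↥(U.presheaf.stalk x) = 0 ↔ ∀ y : U, y ⤳ x → y = x := by
  rw [ringKrullDim_stalk_eq_coheight, ← WithBot.coe_zero, WithBot.coe_inj, Order.coheight_eq_zero]
  exact ⟨fun h y hy => (hy.antisymm (h (show x ≤ y from hy))).eq, fun h y hy => (h y hy).le⟩

theorem dim0_iff_etale {U V : Scheme.{u}} (p : U ⟶ V) [Etale p] (x : U) :
    ringKrullDim ↥(U.presheaf.stalk x) = 0 ↔ ringKrullDim ↥(V.presheaf.stalk (p x)) = 0 := by
  rw [dim0_iff, dim0_iff]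
  refine ⟨fun h y hy => ?_, fun h y hy => ?_⟩
  · obtain ⟨y', hy', rfl⟩ := Flat.generalizingMap p hy
    rw [h y' hy']
  · have e : p y = p x := h _ (hy.map p.continuous)
    obtain ⟨O, hO, hOx⟩ := isDiscrete_iff_forall_exists_isOpen.1 (p.isDiscrete_preimage_singleton (p x)) x rfl
    have : y ∈ O ∩ p ⁻¹' {p x} := ⟨hy.mem_open hO ((hOx.ge (show x ∈ ({x} : Set U) from rfl)).1), e⟩
    rw [hOx] at this
    exact this

theorem dim0_image_of_flat {U V : Scheme.{u}} (p : U ⟶ V) [Flat p] (x : U)
    (h : ringKrullDim ↥(U.presheaf.stalk x) = 0) : ringKrullDim ↥(V.presheaf.stalk (p x)) = 0 := by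
  rw [dim0_iff] at h ⊢
  intro y hy
  obtain ⟨y', hy', rfl⟩ := Flat.generalizingMap p hy
  rw [h y' hy']

theorem hasAt_dim0_map_of_flat {X Y : Sp S} (hY : IsAlgSpace Y) {f : X ⟶ Y} (hf : LocP @Flat f)
    {x : Points X} (hx : HasAt (fun U u => ringKrullDim ↥(U.presheaf.stalk u) = 0) X x) :
    HasAt (fun U u => ringKrullDim ↥(U.presheaf.stalk u) = 0) Y (Points.map f x) := by
  obtain ⟨U, a, u, ha, rfl, hu⟩ := hx
  obtain ⟨V, b, hb, hbs⟩ := hY.atlas
  obtain ⟨W, p, q, sq⟩ := exists_isPullback hb.1 (a ≫ f)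
  -- `p : W ⟶ V`, `q : W ⟶ U`
  have : Etale q.left := prop_snd sq hb
  have : Surjective q.left := prop_snd sq hbs
  obtain ⟨w, rfl⟩ := q.left.surjective u
  have : Flat p.left := hf ((yon S).map q ≫ a) b p (repWith_yon_comp q (prop_snd sq hb) ha) hb
    (by rw [Category.assoc, sq.w])
  refine ⟨V, b, p.left w, hb, ?_, dim0_image_of_flat p.left w ((dim0_iff_etale q.left w).2 hu)⟩
  rw [← ofPt_comp, sq.w, ofPt_comp, Points.map_ofPt]

theorem dense_dim0 {X : Sp S} (hX : IsAlgSpace X) :
    Dense {x : Points X | HasAt (fun U u => ringKrullDim ↥(U.presheaf.stalk u) = 0) X x} := by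
  refine dense_iff_inter_open.2 fun O hO hne => ?_
  obtain ⟨U, a, ha, has⟩ := hX.atlas
  obtain ⟨x, hx⟩ := hne
  obtain ⟨u, rfl⟩ := surjective_ofPt has x
  have hη := isIrreducible_irreducibleComponent.isGenericPoint_genericPoint
    (isClosed_irreducibleComponent (x := u))
  refine ⟨Points.ofPt a (isIrreducible_irreducibleComponent (x := u)).genericPoint, ?_, U, a, _, ha, rfl,
    (dim0_iff _).2 fun y hy => ?_⟩
  · exact (hη.specializes mem_irreducibleComponent).mem_open (hO.preimage (Points.continuous_ofPt a)) hx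
  · have hsub : irreducibleComponent u ⊆ closure {y} := by
      rw [← hη.def]
      exact closure_minimal (by simpa using hy.mem_closure) isClosed_closure
    have e : closure {y} = irreducibleComponent u :=
      ((irreducibleComponent_mem_irreducibleComponents u).2 isIrreducible_singleton.closure hsub).antisymm hsub
    exact (show IsGenericPoint y (irreducibleComponent u) from e).eq hη

theorem finite_irreducibleComponents_chart {X : Sp S} (hN : IsLocNoethSp X) {U : Over S}
    {a : (yon S).obj U ⟶ X} (ha : RepWith @Etale a) (W : U.left.Opens) (hW : IsCompact (W : Set ↥U.left)) :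
    (irreducibleComponents ↥W).Finite := by
  have := isLocallyNoetherian_of_chart hN ha
  have : CompactSpace ↥W.toScheme := isCompact_iff_compactSpace.1 hW
  have : IsLocallyNoetherian W.toScheme := isLocallyNoetherian_of_isOpenImmersion W.ι
  have : IsNoetherian W.toScheme := ⟨⟩
  exact TopologicalSpace.NoetherianSpace.finite_irreducibleComponents (α := ↥W.toScheme)

theorem locallyFinite_irreducibleComponents {X : Sp S} (hX : IsAlgSpace X) (hN : IsLocNoethSp X)
    (T : Set (Points X)) :
    LocallyFinite fun Z : ↥(irreducibleComponents ↥T) => ((↑) : ↥T → Points X) '' (Z : Set ↥T) := by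
  intro x
  obtain ⟨W, hW, hxW, hn⟩ := exists_noetherianSpace_nhd hX hN x
  refine ⟨W, hW.mem_nhds hxW, ?_⟩
  let O : Set ↥T := Subtype.val ⁻¹' W
  have hO : IsOpen O := hW.preimage continuous_subtype_val
  have : TopologicalSpace.NoetherianSpace ↥O := by
    let i : ↥O → ↥W := fun t => ⟨t.1.1, t.2⟩
    have hi : IsInducing i :=
      IsInducing.of_comp (g := Subtype.val) ((continuous_subtype_val.comp continuous_subtype_val).subtype_mk _)
        continuous_subtype_val
        (show IsInducing ((Subtype.val : ↥T → Points X) ∘ (Subtype.val : ↥O → ↥T)) from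
          IsInducing.subtypeVal.comp IsInducing.subtypeVal)
    exact hi.noetherianSpace
  refine Set.Finite.of_finite_image
    (f := fun Z : ↥(irreducibleComponents ↥T) => ((↑) : ↥O → ↥T) ⁻¹' (Z : Set ↥T))
    (TopologicalSpace.NoetherianSpace.finite_irreducibleComponents.subset ?_) ?_
  · rintro _ ⟨Z, ⟨_, ⟨t, ht, rfl⟩, htW⟩, rfl⟩
    exact preimage_mem_irreducibleComponents Z.2 hO.isOpenEmbedding_subtypeVal ⟨t, ht, ⟨t, htW⟩, rfl⟩
  · intro Z ⟨_, ⟨t, ht, rfl⟩, htW⟩ Z' ⟨_, ⟨t', ht', rfl⟩, htW'⟩ h
    refine Subtype.ext (Set.Subset.antisymm ?_ ?_)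
    · refine (subset_closure_inter_of_isPreirreducible_of_isOpen Z.2.1.2 hO ⟨t, ht, htW⟩).trans
        ((isClosed_of_mem_irreducibleComponents _ Z'.2).closure_subset_iff.2 fun s hs => ?_)
      exact (Set.ext_iff.1 h ⟨s, hs.2⟩).1 hs.1
    · refine (subset_closure_inter_of_isPreirreducible_of_isOpen Z'.2.1.2 hO ⟨t', ht', htW'⟩).trans
        ((isClosed_of_mem_irreducibleComponents _ Z.2).closure_subset_iff.2 fun s hs => ?_)
      exact (Set.ext_iff.1 h ⟨s, hs.2⟩).2 hs.1

end Groth.Agent.AlgSpPts
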