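import Groth.Agent.AlgSpPts.Basic
import Mathlib.AlgebraicGeometry.Morphisms.LocalFlatDescent

/-!
Monomorphisms into the spectrum of a field.
-/

set_option autoImplicit false
set_option backward.isDefEq.respectTransparency.types false

universe u

open CategoryTheory CategoryTheory.Limits AlgebraicGeometry Opposite AlgSp Topology

namespace Groth.Agent.AlgSpPts

open Groth.Agent.AlgSpLib

variable {S : Scheme.{u}}

theorem isEmpty_or_isIso_of_mono {k : Type u} [Field k] (str : Spec (CommRingCat.of k) ⟶ S) {Z : Sp S}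
    (hZ : IsAlgSpace Z) (f : Z ⟶ (yon S).obj (Over.mk str)) [Mono f] : IsEmpty (Points Z) ∨ IsIso f := by
  rcases isEmpty_or_nonempty (Points Z) with h | ⟨⟨z⟩⟩
  · exact Or.inl h
  refine Or.inr ?_
  obtain ⟨U, a, ha, has⟩ := hZ.atlas
  obtain ⟨t, -⟩ := surjective_ofPt has z
  obtain ⟨A, hA, htA, -⟩ := exists_isAffineOpen_mem_and_subset (X := U.left) (x := t) (U := ⊤) trivial
  let U' : Over S := Over.mk (A.ι ≫ U.hom)
  let j : U' ⟶ U := Over.homMk A.ι rfl
  have ha' : RepWith @Etale ((yon S).map j ≫ a) := repWith_yon_comp j (inferInstanceAs (Etale A.ι)) ha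
  have : IsAffine U'.left := hA
  have : Nonempty ↥U'.left := ⟨⟨t, htA⟩⟩
  obtain ⟨c, hc⟩ := (yon S).map_surjective (((yon S).map j ≫ a) ≫ f)
  have : Surjective c.left := ⟨fun y => ⟨Classical.arbitrary _,
    @Subsingleton.elim ↥(Spec (CommRingCat.of k)) inferInstance _ _⟩⟩
  let c' : U'.left ⟶ Spec (CommRingCat.of k) := c.left
  have : Flat c.left := inferInstanceAs (Flat c')
  have : QuasiCompact c.left := inferInstanceAs (QuasiCompact c')
  have sq := IsPullback.of_hasPullback c c
  have sy := yon_isPullback sq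
  rw [hc] at sy
  have sqa : IsPullback ((yon S).map (pullback.fst c c)) ((yon S).map (pullback.snd c c))
      ((yon S).map j ≫ a) ((yon S).map j ≫ a) := by
    have w := sy.w
    simp only [← Category.assoc, cancel_mono] at w
    refine IsPullback.of_isLimit' ⟨by simpa using w⟩ (PullbackCone.IsLimit.mk (by simpa using w)
      (fun s => sy.lift s.fst s.snd (by rw [← Category.assoc, s.condition, Category.assoc]))
      (fun s => sy.lift_fst _ _ _) (fun s => sy.lift_snd _ _ _) fun s l h₁ h₂ => sy.hom_ext ?_ ?_)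
    · rw [sy.lift_fst, h₁]
    · rw [sy.lift_snd, h₂]
  have h₁ : Etale (pullback.snd c c).left := prop_snd sqa ha'
  have : Etale c.left := MorphismProperty.of_isPullback_of_descendsAlong (P := @Etale)
    (Q := @Surjective ⊓ @Flat ⊓ @QuasiCompact) (left_isPullback sq).flip ⟨⟨inferInstance, inferInstance⟩, inferInstance⟩ h₁
  have hce : RepWith @Etale ((yon S).map c) := (repWith_yon_map_iff _ _).2 this
  have hcs : RepWith @Surjective ((yon S).map c) := (repWith_yon_map_iff _ _).2 inferInstance
  have := effectiveEpi_chart hce hcs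
  have : Epi ((((yon S).map j ≫ a)) ≫ f) := hc ▸ inferInstance
  have : Epi f := epi_of_epi ((yon S).map j ≫ a) f
  exact isIso_of_mono_of_epi f

end Groth.Agent.AlgSpPts
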