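import Groth.Agent.AlgSpPts.FtPts
import Groth.Prelude.Def_AlgSpSub
import Groth.Agent.GeomFibre.Descent
import Groth.Agent.UnitProd.SmoothReduced
import Groth.Agent.EtSite.ReducedFLC
import Groth.Agent.AlgStLib.StkNoeth

/-!
Reducedness and local Noetherianity of algebraic spaces along surjective flat morphisms.
-/

set_option autoImplicit false
set_option backward.isDefEq.respectTransparency.types false

universe u

open CategoryTheory CategoryTheory.Limits AlgebraicGeometry Opposite AlgSp Topology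

namespace Groth.Agent.AlgSpPts

open Groth.Agent.AlgSpLib

variable {S : Scheme.{u}}

/-- A scheme smooth over a reduced scheme is reduced. -/
theorem isReduced_of_smooth {T T' : Scheme.{u}} (f : T' ⟶ T) [Smooth f] [AlgebraicGeometry.IsReduced T] :
    AlgebraicGeometry.IsReduced T' := by
  have : ∀ x : T', _root_.IsReduced (T'.presheaf.stalk x) := fun x => by
    obtain ⟨A, hA, hxA, -⟩ := exists_isAffineOpen_mem_and_subset (x := f x) (U := ⊤) trivial
    obtain ⟨B, hB, hxB, hBA⟩ := exists_isAffineOpen_mem_and_subset (x := x) (U := f ⁻¹ᵁ A) hxA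
    have he : (f.appLE A B hBA).hom.Smooth := HasRingHomProperty.appLE @Smooth f inferInstance ⟨A, hA⟩ ⟨B, hB⟩ hBA
    algebraize [(f.appLE A B hBA).hom]
    have : _root_.IsReduced Γ(T', B) := UnitProd.isReduced_of_smooth Γ(T, A) Γ(T', B)
    let _ := TopCat.Presheaf.algebra_section_stalk T'.presheaf ⟨x, hxB⟩
    have : IsLocalization.AtPrime (T'.presheaf.stalk x) (hB.primeIdealOf ⟨x, hxB⟩).asIdeal :=
      hB.isLocalization_stalk ⟨x, hxB⟩
    exact isReduced_localizationPreserves (hB.primeIdealOf ⟨x, hxB⟩).asIdeal.primeCompl _ inferInstance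
  exact isReduced_of_isReduced_stalk T'

/-- Over a given chart of the source, a chart of a surjective morphism which is surjective. -/
theorem exists_surjective_chart {X Y : Sp S} (hY : IsAlgSpace Y) {f : X ⟶ Y}
    (hs : IsSurjectiveMor f) {U : Over S} {a : (yon S).obj U ⟶ X} (ha : RepWith @Etale a)
    (has : RepWith @Surjective a) :
    ∃ (W V : Over S) (b : (yon S).obj V ⟶ Y) (p : W ⟶ U) (q : W ⟶ V),
      RepWith @Etale b ∧ RepWith @Surjective b ∧ RepWith @Etale ((yon S).map p ≫ a) ∧ Etale p.left ∧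
      Surjective q.left ∧ ((yon S).map p ≫ a) ≫ f = (yon S).map q ≫ b := by
  obtain ⟨V, b, hb, hbs⟩ := hY.atlas
  obtain ⟨W, p, q, sq⟩ := exists_isPullback (hY.representable_from_yon (a ≫ f)) b
  have hp : Etale p.left := prop_snd sq.flip hb
  refine ⟨W, V, b, p, q, hb, hbs, repWith_yon_comp p hp ha, hp, ⟨fun v => ?_⟩, by rw [Category.assoc]; exact sq.w⟩
  obtain ⟨x, hx⟩ := hs (Points.ofPt b v)
  obtain ⟨u, rfl⟩ := surjective_ofPt has x
  obtain ⟨z, -, hz⟩ := exists_point_of_isPullback sq (Points.ofPt (𝟙 _) u) (Points.ofPt (𝟙 _) v)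
    (by rw [map_ofPt_id, map_ofPt_id, ← Points.map_ofPt, hx])
  obtain ⟨w, rfl⟩ := exists_ofScheme z
  refine ⟨w, (Points.schemeHomeo V).injective ?_⟩
  rw [map_ofPt_id, ← Category.comp_id ((yon S).map q), ofPt_comp] at hz
  exact hz

theorem isReducedSp_of_flat_surjective {X Y : Sp S} (hY : IsAlgSpace Y) {f : X ⟶ Y}
    (hfl : LocP @Flat f) (hs : IsSurjectiveMor f) (hX : IsReducedSp X) : IsReducedSp Y := by
  obtain ⟨U, a, ha, has, hU⟩ := hX
  obtain ⟨W, V, b, p, q, hb, hbs, hpa, hp, hq, w⟩ := exists_surjective_chart hY hs ha has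
  have : Flat q.left := hfl _ b q hpa hb w
  have : AlgebraicGeometry.IsReduced U.left := hU
  have : AlgebraicGeometry.IsReduced W.left := EtSite.ReducedFLC.isReduced_of_etale p.left
  exact ⟨V, b, hb, hbs, GeomFibre.isReduced_of_flat_surjective q.left⟩

theorem isReducedSp_of_smooth {X Y : Sp S} (hX : IsAlgSpace X) (hY : IsAlgSpace Y) {f : X ⟶ Y}
    (hf : LocP @Smooth f) (h : IsReducedSp Y) : IsReducedSp X := by
  obtain ⟨V, b, hb, hbs, hV⟩ := h
  obtain ⟨U, a, q, ha, has, w⟩ := exists_chart_lift hX hY f b hb hbs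
  have : Smooth q.left := hf a b q ha hb w
  have : AlgebraicGeometry.IsReduced V.left := hV
  exact ⟨U, a, ha, has, isReduced_of_smooth q.left⟩

theorem isLocNoethSp_of_fppf {X Y : Sp S} (hY : IsAlgSpace Y) {f : X ⟶ Y}
    (hfp : LocP @LocallyOfFinitePresentation f) (hfl : LocP @Flat f) (hs : IsSurjectiveMor f)
    (hX : IsLocNoethSp X) : IsLocNoethSp Y := by
  obtain ⟨U, a, ha, has, hU⟩ := hX
  obtain ⟨W, V, b, p, q, hb, hbs, hpa, hp, hq, w⟩ := exists_surjective_chart hY hs ha has
  have : Flat q.left := hfl _ b q hpa hb w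
  have : LocallyOfFinitePresentation q.left := hfp _ b q hpa hb w
  have : IsLocallyNoetherian U.left := hU
  have : IsLocallyNoetherian W.left := LocallyOfFiniteType.isLocallyNoetherian p.left
  exact ⟨V, b, hb, hbs, AlgStLib.isLocallyNoetherian_of_fppf q.left⟩

end Groth.Agent.AlgSpPts
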