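import Groth.Agent.AlgSpPts.Descend
import Groth.Agent.J2Lib.Descent
import Groth.Agent.S0120
import Groth.Prelude.Def_AlgSpDec

/-!
Decency along representable morphisms, regularity along fppf coverings, specializations in etale fibres.
-/

set_option autoImplicit false
set_option backward.isDefEq.respectTransparency.types false

universe u

open CategoryTheory CategoryTheory.Limits AlgebraicGeometry Opposite AlgSp Topology

namespace Groth.Agent.AlgSpPts

open Groth.Agent.AlgSpLib

variable {S : Scheme.{u}}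

theorem isDecent_of_isDecentMor {X Y : Sp S} {f : X ⟶ Y} (hf : IsDecentMor f) (hY : IsDecent Y) : IsDecent X := by
  intro x
  obtain ⟨p, hp, hm, hq⟩ := hY (Points.map f x)
  have sq := IsPullback.of_hasPullback f p.toHom
  have hfst : Mono (pullback.fst f p.toHom) := inferInstance
  have hqc : RepWith @QuasiCompact (pullback.fst f p.toHom) := repWith_baseChange sq.flip hq
  obtain ⟨z, hz, -⟩ := exists_point_of_isPullback sq x (Points.ofPt (𝟙 _) (IsLocalRing.closedPoint p.K))
    (by rw [map_ofPt_id, Points.ofPt_toHom]; exact hp.symm)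
  obtain ⟨q, hq', hqm, hqq⟩ := hf p.toHom _ _ sq z
  refine ⟨q.map (pullback.fst f p.toHom), ?_, ?_, ?_⟩
  · rw [← Points.map_mk, hq', hz]
  · rw [FieldPt.toHom_map]; exact @mono_comp _ _ _ _ _ _ hqm _ hfst
  · rw [FieldPt.toHom_map]; exact repWith_comp hqq hqc

theorem isDecent_yon (W : Over S) : IsDecent ((yon S).obj W) := by
  intro x
  obtain ⟨w, rfl⟩ := exists_ofScheme x
  let str : Spec (CommRingCat.of (W.left.residueField w)) ⟶ S := W.left.fromSpecResidueField w ≫ W.hom
  let i : Over.mk str ⟶ W := Over.homMk (W.left.fromSpecResidueField w) rfl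
  refine ⟨ptOfHom ((yon S).map i), ?_, ?_, ?_⟩
  · refine (Points.ofPt_toHom (ptOfHom ((yon S).map i)) (IsLocalRing.closedPoint _)).symm.trans ?_
    rw [ptOfHom_toHom]
    refine ((congrArg (fun h => Points.ofPt h _) (Category.comp_id _).symm).trans
      (ofPt_comp i (𝟙 ((yon S).obj W)) _)).trans ?_
    exact congrArg _ (W.left.fromSpecResidueField_apply w _)
  · rw [ptOfHom_toHom]
    have : Mono ((Over.forget S).map i) := inferInstanceAs (Mono (W.left.fromSpecResidueField w))
    have : Mono i := (Over.forget S).mono_of_mono_map this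
    exact (yon S).map_mono i
  · rw [ptOfHom_toHom]
    refine (repWith_yon_map_iff _ _).2 ⟨fun U _ _ => Set.Subsingleton.isCompact fun a _ b _ => ?_⟩
    exact @Subsingleton.elim ↥(Spec (CommRingCat.of (W.left.residueField w))) inferInstance a b

theorem isDecent_of_representable {X Y : Sp S} {f : X ⟶ Y} (hf : Representable f) (hY : IsDecent Y) :
    IsDecent X := by
  refine isDecent_of_isDecentMor (f := f) (fun T F' g fst snd sq => ?_) hY
  obtain ⟨W, i, a, sa⟩ := hf g
  exact (isDecent_yon W).of_iso (sq.isoIsPullback _ _ sa).symm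

theorem isRegular_stalk_of_flat_surjective {Z W : Scheme.{u}} (p : Z ⟶ W) [Flat p] [Surjective p]
    [IsLocallyNoetherian W] (h : ∀ z : ↥Z, IsRegularLocalRing ↥(Z.presheaf.stalk z)) (w : ↥W) :
    IsRegularLocalRing ↥(W.presheaf.stalk w) := by
  obtain ⟨z, rfl⟩ := p.surjective w
  have := h z
  algebraize [(p.stalkMap z).hom]
  have : Module.Flat (W.presheaf.stalk (p z)) (Z.presheaf.stalk z) := Flat.stalkMap p z
  have : IsLocalHom (algebraMap (W.presheaf.stalk (p z)) (Z.presheaf.stalk z)) := inferInstanceAs (IsLocalHom (p.stalkMap z).hom)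
  exact J2Lib.isRegularLocalRing_of_flat _ (Z.presheaf.stalk z)

theorem isRegular_stalk_of_etale {Z W : Scheme.{u}} (p : Z ⟶ W) [Etale p] [IsLocallyNoetherian W]
    (h : ∀ w : ↥W, IsRegularLocalRing ↥(W.presheaf.stalk w)) (z : ↥Z) :
    IsRegularLocalRing ↥(Z.presheaf.stalk z) := by
  have : IsLocallyNoetherian Z := LocallyOfFiniteType.isLocallyNoetherian p
  have := h (p z)
  algebraize [(p.stalkMap z).hom]
  have : Module.Flat (W.presheaf.stalk (p z)) (Z.presheaf.stalk z) := Flat.stalkMap p z
  have : Algebra.EssFiniteType (W.presheaf.stalk (p z)) (Z.presheaf.stalk z) := LocallyOfFiniteType.stalkMap p z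
  have : Algebra.FormallyUnramified (W.presheaf.stalk (p z)) (Z.presheaf.stalk z) := FormallyUnramified.stalkMap p z
  have : IsLocalHom (algebraMap (W.presheaf.stalk (p z)) (Z.presheaf.stalk z)) := inferInstanceAs (IsLocalHom (p.stalkMap z).hom)
  exact J2Lib.isRegularLocalRing_of_flat_of_map_maximalIdeal (W.presheaf.stalk (p z)) _
    Algebra.FormallyUnramified.map_maximalIdeal

theorem regular_of_fppf {X Y : Sp S} (hY : IsAlgSpace Y) {f : X ⟶ Y}
    (hfp : LocP @LocallyOfFinitePresentation f) (hfl : LocP @Flat f) (hs : IsSurjectiveMor f)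
    (hX : EtaleLocally (fun U => IsLocallyNoetherian U ∧ ∀ u : ↥U, IsRegularLocalRing ↥(U.presheaf.stalk u)) X) :
    EtaleLocally (fun U => IsLocallyNoetherian U ∧ ∀ u : ↥U, IsRegularLocalRing ↥(U.presheaf.stalk u)) Y := by
  obtain ⟨U, a, ha, has, hU, hUr⟩ := hX
  obtain ⟨W, V, b, p, q, hb, hbs, hpa, hp, hq, w⟩ := exists_surjective_chart hY hs ha has
  have : Flat q.left := hfl _ b q hpa hb w
  have : LocallyOfFinitePresentation q.left := hfp _ b q hpa hb w
  have : IsLocallyNoetherian W.left := LocallyOfFiniteType.isLocallyNoetherian p.left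
  have : IsLocallyNoetherian V.left := AlgStLib.isLocallyNoetherian_of_fppf q.left
  exact ⟨V, b, hb, hbs, inferInstance,
    isRegular_stalk_of_flat_surjective q.left (isRegular_stalk_of_etale p.left hUr)⟩

theorem eq_of_specializes_of_ofPt_eq {X : Sp S} (hX : IsAlgSpace X) (hN : IsLocNoethSp X) {U : Over S}
    {a : (yon S).obj U ⟶ X} (ha : RepWith @Etale a) (u u' : ↥U.left)
    (he : Points.ofPt a u = Points.ofPt a u') (hs : u' ⤳ u) : u = u' := by
  have : IsLocallyNoetherian U.left := by
    obtain ⟨U₀, b, hb, hbs, hU₀⟩ := hN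
    obtain ⟨W, p, q, sq⟩ := exists_isPullback hb.1 a
    have : Etale q.left := prop_snd sq hb
    have : Surjective q.left := prop_snd sq hbs
    have : Etale p.left := prop_snd sq.flip ha
    have : IsLocallyNoetherian U₀.left := hU₀
    have : IsLocallyNoetherian W.left := LocallyOfFiniteType.isLocallyNoetherian p.left
    exact AlgStLib.isLocallyNoetherian_of_fppf q.left
  obtain ⟨R, p, q, sq⟩ := exists_isPullback ha.1 a
  have : Etale p.left := prop_snd sq.flip ha
  have : Etale q.left := prop_snd sq ha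
  obtain ⟨z, hz₁, hz₂⟩ := exists_point_of_isPullback sq (Points.ofPt (𝟙 _) u) (Points.ofPt (𝟙 _) u')
    (by rw [map_ofPt_id, map_ofPt_id, he])
  obtain ⟨r, rfl⟩ := exists_ofScheme z
  rw [map_ofPt_id, ← Category.comp_id ((yon S).map p), ofPt_comp] at hz₁
  rw [map_ofPt_id, ← Category.comp_id ((yon S).map q), ofPt_comp] at hz₂
  have e₁ : p.left r = u := (Points.schemeHomeo U).injective hz₁
  have e₂ : q.left r = u' := (Points.schemeHomeo U).injective hz₂
  have h₁ := Groth.Agent.S0120.result p.left r
  have h₂ := Groth.Agent.S0120.result q.left r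
  change _ = ringKrullDim ↥(U.left.presheaf.stalk (p.left r)) at h₁
  change _ = ringKrullDim ↥(U.left.presheaf.stalk (q.left r)) at h₂
  have hd : ringKrullDim ↥(U.left.presheaf.stalk (p.left r)) = ringKrullDim ↥(U.left.presheaf.stalk (q.left r)) :=
    h₁.symm.trans h₂
  rw [e₁, e₂, ringKrullDim_stalk_eq_coheight, ringKrullDim_stalk_eq_coheight, WithBot.coe_inj] at hd
  by_contra hne
  have hlt : u < u' := lt_of_le_not_ge hs fun h' => hne ((show u' ⤳ u from hs).antisymm h').eq.symm
  have hfin : Order.coheight u < ⊤ := by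
    have := ringKrullDim_lt_top (R := ↥(U.left.presheaf.stalk u))
    rw [ringKrullDim_stalk_eq_coheight] at this
    exact WithBot.coe_lt_coe.1 this
  exact (Order.coheight_strictAnti hlt (hd ▸ hfin)).ne hd.symm

end Groth.Agent.AlgSpPts
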