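import Groth.Agent.AlgSpPts.FtPts
import Mathlib.AlgebraicGeometry.Morphisms.FinitePresentation

/-!
Chevalley's theorem for morphisms of algebraic spaces.
-/

set_option autoImplicit false
set_option backward.isDefEq.respectTransparency.types false

universe u

open CategoryTheory CategoryTheory.Limits AlgebraicGeometry Opposite AlgSp Topology

namespace Groth.Agent.AlgSpPts

open Groth.Agent.AlgSpLib

variable {S : Scheme.{u}}

theorem locP_lfp_of_etale {X : Sp S} {U : Over S} {a : (yon S).obj U ⟶ X} (ha : RepWith @Etale a) :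
    LocP @LocallyOfFinitePresentation a :=
  locP_of_repWith ha fun _ _ _ k m hk hm =>
    EtLocal.comp_etale k m hk (EtLocal.of_etale (P := @LocallyOfFinitePresentation) m hm)

theorem isLocallyConstructible_preimage_image {X Y : Sp S} (hX : IsAlgSpace X) (hY : IsAlgSpace Y) {f : X ⟶ Y}
    (hq : IsQuasiCompactMor f) (hfp : LocP @LocallyOfFinitePresentation f) (E : Set (Points X))
    (hE : ∀ (U : Over S) (φ : (yon S).obj U ⟶ X), RepWith @Etale φ → IsLocallyConstructible (Points.ofPt φ ⁻¹' E))
    (U : Over S) (φ : (yon S).obj U ⟶ Y) (hφ : RepWith @Etale φ) :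
    IsLocallyConstructible (Points.ofPt φ ⁻¹' (Points.map f '' E)) := by
  refine IsLocallyConstructible.of_isOpenCover (U := fun A : U.left.affineOpens => A.1)
    (iSup_affineOpens_eq_top U.left) fun A => ?_
  let W : Over S := Over.mk (A.1.ι ≫ U.hom)
  let j : W ⟶ U := Over.homMk A.1.ι rfl
  have hb : RepWith @Etale ((yon S).map j ≫ φ) := repWith_yon_comp j (inferInstanceAs (Etale A.1.ι)) hφ
  have : IsAffine W.left := A.2
  have sq := IsPullback.of_hasPullback f ((yon S).map j ≫ φ)
  have hP := isAlgSpace_of_isPullback sq hX (IsAlgSpace.yon_obj W) hY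
  have hPc := hq (IsAlgSpace.yon_obj W) ⟨W, 𝟙 _, repWith_id _ _, repWith_id _ _,
    inferInstanceAs (CompactSpace ↥W.left)⟩ _ _ _ sq
  obtain ⟨V, c, hV, hc, hcs⟩ := (isQuasiCompactSp_iff_affine hP).1 hPc
  obtain ⟨h, hh⟩ := (yon S).map_surjective (c ≫ pullback.snd f ((yon S).map j ≫ φ))
  have : LocallyOfFinitePresentation h.left := (locP_yon_map_iff h).1 (hh ▸
    locP_comp (IsAlgSpace.yon_obj _) hP (IsAlgSpace.yon_obj _) (locP_lfp_of_etale hc)
      (locP_baseChange hX hY (IsAlgSpace.yon_obj _) sq hfp))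
  have : QuasiCompact h.left := inferInstance
  have key := h.left.isLocallyConstructible_image
    (hE V _ (repWith_comp hc (repWith_baseChange sq.flip hb)))
  refine (?_ : IsLocallyConstructible (X := ↥W.left) (j.left ⁻¹' (Points.ofPt φ ⁻¹' (Points.map f '' E))))
  convert key using 1
  ext w
  show Points.ofPt φ (j.left w) ∈ Points.map f '' E ↔ _
  rw [← ofPt_comp]
  constructor
  · rintro ⟨x, hx, e⟩
    obtain ⟨z, hz, hz'⟩ := exists_point_of_isPullback sq x (Points.ofPt (𝟙 _) (w : W.left))
      (by rw [e, map_ofPt_id])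
    obtain ⟨v, rfl⟩ := surjective_ofPt hcs z
    refine ⟨v, ?_, ?_⟩
    · show Points.ofPt _ v ∈ E
      rw [← Points.map_ofPt, hz]
      exact hx
    · rw [Points.map_ofPt, ← hh, ← Category.comp_id ((yon S).map h), ofPt_comp] at hz'
      exact (Points.schemeHomeo W).injective hz'
  · rintro ⟨v, hv, rfl⟩
    refine ⟨_, hv, ?_⟩
    rw [Points.map_ofPt, Category.assoc, sq.w, ← Category.assoc, ← hh, ofPt_comp]

end Groth.Agent.AlgSpPts
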