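import Groth.Agent.AlgSpPts.Qc
import Groth.Agent.AlgSpPts.Chevalley
import Groth.Agent.AlgSpPts.Sober
import Groth.Agent.ProConsLib.Basic

/-!
Etale local constructibility and quasi-compactness of charts.
-/

set_option autoImplicit false
set_option backward.isDefEq.respectTransparency.types false

universe u

open CategoryTheory CategoryTheory.Limits AlgebraicGeometry Opposite AlgSp Topology

namespace Groth.Agent.AlgSpPts

open Groth.Agent.AlgSpLib

variable {S : Scheme.{u}}

/-- Local constructibility descends along surjective etale morphisms of schemes. -/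
theorem isLocallyConstructible_descend {W V : Scheme.{u}} (q : W ⟶ V) [Etale q] [Surjective q] {E : Set V}
    (h : IsLocallyConstructible (q ⁻¹' E)) : IsLocallyConstructible E := by
  rw [ProConsLib.isLocallyConstructible_iff_ind_pro] at h ⊢
  refine ⟨?_, ProConsLib.isPro_iff_isInd_compl.2 ?_⟩
  · have := ProConsLib.isInd_image q h.1
    rwa [Set.image_preimage_eq _ q.surjective] at this
  · have := ProConsLib.isInd_image q (ProConsLib.isPro_iff_isInd_compl.1 h.2)
    rwa [← Set.preimage_compl, Set.image_preimage_eq _ q.surjective] at this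

theorem isLocallyConstructible_preimage_hom {W V : Scheme.{u}} (q : W ⟶ V) {E : Set V}
    (h : IsLocallyConstructible E) : IsLocallyConstructible (q ⁻¹' E) := by
  rw [ProConsLib.isLocallyConstructible_iff_ind_pro] at h ⊢
  exact ⟨ProConsLib.isInd_preimage q h.1, ProConsLib.isPro_preimage q h.2⟩

theorem isLocallyConstructible_of_chart {X : Sp S} (E : Set (Points X)) {U : Over S}
    {p : (yon S).obj U ⟶ X} (hp : RepWith @Etale p) (hs : RepWith @Surjective p)
    (hE : IsLocallyConstructible (Points.ofPt p ⁻¹' E)) {V : Over S} {a : (yon S).obj V ⟶ X}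
    (ha : RepWith @Etale a) : IsLocallyConstructible (Points.ofPt a ⁻¹' E) := by
  obtain ⟨R, r, q, sq⟩ := exists_isPullback hp.1 a
  have : Etale q.left := prop_snd sq hp
  have : Surjective q.left := prop_snd sq hs
  refine isLocallyConstructible_descend q.left ?_
  convert isLocallyConstructible_preimage_hom r.left hE using 1
  ext t
  show Points.ofPt a (q.left t) ∈ E ↔ Points.ofPt p (r.left t) ∈ E
  rw [← ofPt_comp, ← sq.w, ofPt_comp]

theorem isLocallyConstructible_preimage_map {X Y : Sp S} (hY : IsAlgSpace Y) (f : X ⟶ Y)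
    {E : Set (Points Y)}
    (hE : ∀ (U : Over S) (φ : (yon S).obj U ⟶ Y), RepWith @Etale φ → IsLocallyConstructible (Points.ofPt φ ⁻¹' E))
    {U : Over S} {φ : (yon S).obj U ⟶ X} (hφ : RepWith @Etale φ) :
    IsLocallyConstructible (Points.ofPt φ ⁻¹' (Points.map f ⁻¹' E)) := by
  obtain ⟨V, b, hb, hbs⟩ := hY.atlas
  obtain ⟨W, r, q, sq⟩ := exists_isPullback hb.1 (φ ≫ f)
  have : Etale q.left := prop_snd sq hb
  have : Surjective q.left := prop_snd sq hbs
  refine isLocallyConstructible_descend q.left ?_
  convert isLocallyConstructible_preimage_hom r.left (hE V b hb) using 1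
  ext t
  show Points.map f (Points.ofPt φ (q.left t)) ∈ E ↔ Points.ofPt b (r.left t) ∈ E
  rw [Points.map_ofPt, ← ofPt_comp, ← sq.w, ofPt_comp]

theorem compactSpace_fibreProduct [QuasiSeparatedSpace ↥S] {X : Sp S} (hqs : IsQuasiSeparatedSp X)
    {U V P : Over S} (a : (yon S).obj U ⟶ X) (b : (yon S).obj V ⟶ X) (p : P ⟶ U) (q : P ⟶ V)
    [CompactSpace ↥U.left] [CompactSpace ↥V.left]
    (sqW : IsPullback ((yon S).map p) ((yon S).map q) a b) : CompactSpace ↥P.left := by
  have h₁ : RepWith @QuasiCompact (Limits.prod.lift ((yon S).map p) ((yon S).map q)) :=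
    repWith_baseChange (isPullback_diag_of_isPullback sqW) hqs
  have h₂ := repWith_comp h₁ (repWith_baseChange (isPullback_prod_toBase ((yon S).obj U) ((yon S).obj V))
    (repWith_qc_toBase_yon U))
  rw [Limits.prod.lift_snd, repWith_yon_map_iff] at h₂
  exact QuasiCompact.compactSpace_of_compactSpace q.left

theorem finite_fibres_of_qc {X : Sp S} {R U : Over S} (a : (yon S).obj U ⟶ X) (ha : RepWith @Etale a)
    (s t : R ⟶ U) (hR : IsPullback ((yon S).map t) ((yon S).map s) a a) [QuasiCompact s.left]
    [QuasiCompact t.left] (x : Points X) :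
    (Points.ofPt a ⁻¹' {x}).Finite ∧ (Points.ofPt ((yon S).map t ≫ a) ⁻¹' {x}).Finite := by
  have : Etale t.left := prop_snd hR.flip ha
  have h : (Points.ofPt a ⁻¹' {x}).Finite := by
    by_cases hx : (Points.ofPt a ⁻¹' {x}).Nonempty
    · obtain ⟨u, rfl⟩ := hx
      have h := preimage_image_ofPt hR {u}
      rw [Set.image_singleton] at h
      rw [h]
      exact (t.left.finite_preimage_singleton u).image _
    · rw [Set.not_nonempty_iff_eq_empty.1 hx]
      exact Set.finite_empty
  refine ⟨h, ?_⟩
  convert t.left.finite_preimage h using 1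
  ext r
  rw [Set.mem_preimage, ofPt_comp]
  rfl

end Groth.Agent.AlgSpPts
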