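import Groth.Agent.AlgSpLib.DiagMor
import Mathlib.AlgebraicGeometry.IdealSheaf.Functorial

/-!
Closed subspaces given by ideal sheaves on charts.
-/

set_option autoImplicit false
set_option backward.isDefEq.respectTransparency.types false

universe u

open CategoryTheory CategoryTheory.Limits AlgebraicGeometry Opposite AlgSp

namespace Groth.Agent.AlgSpPts

open Groth.Agent.AlgSpLib

variable {S : Scheme.{u}}

/-- The closed subscheme of an ideal sheaf over the base. -/
noncomputable abbrev idealOver (V : Over S) (I : V.left.IdealSheafData) : Over S := Over.mk (I.subschemeι ≫ V.hom)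

/-- Its inclusion. -/
noncomputable abbrev idealι (V : Over S) (I : V.left.IdealSheafData) : idealOver V I ⟶ V :=
  Over.homMk I.subschemeι rfl

/-- Restricting a chart of a closed subspace. -/
theorem ideal_comp {D F : Sp S} {i : D ⟶ F} {V U : Over S} {φ : (yon S).obj V ⟶ F} {I : V.left.IdealSheafData}
    {fd : (yon S).obj (idealOver V I) ⟶ D} (s : IsPullback fd ((yon S).map (idealι V I)) i φ) (q : U ⟶ V) :
    ∃ (k : idealOver U (I.comap q.left) ⟶ idealOver V I),
      k ≫ idealι V I = idealι U (I.comap q.left) ≫ q ∧
      IsPullback ((yon S).map k ≫ fd) ((yon S).map (idealι U (I.comap q.left))) i ((yon S).map q ≫ φ) ∧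
      IsPullback k (idealι U (I.comap q.left)) (idealι V I) q := by
  let J := I.comap q.left
  let k₀ : J.subscheme ⟶ I.subscheme := (I.comapIso q.left).hom ≫ pullback.snd _ _
  have h₀ : IsPullback J.subschemeι k₀ q.left I.subschemeι :=
    (IsPullback.of_hasPullback q.left I.subschemeι).of_iso (I.comapIso q.left).symm (Iso.refl _) (Iso.refl _) (Iso.refl _)
      (by simp [J]) (by simp only [Iso.symm_hom, Iso.refl_hom, Category.comp_id, k₀, Iso.inv_hom_id_assoc])
      (by simp) (by simp)
  let k : idealOver U J ⟶ idealOver V I := Over.homMk k₀ (by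
    show k₀ ≫ I.subschemeι ≫ V.hom = J.subschemeι ≫ U.hom
    rw [← Category.assoc, ← h₀.w, Category.assoc, Over.w q])
  have hk : IsPullback k (idealι U J) (idealι V I) q :=
    IsPullback.of_map (Over.forget S) (Over.OverMorphism.ext h₀.w.symm) h₀.flip
  exact ⟨k, hk.w, (yon_isPullback hk).paste_horiz s, hk⟩

end Groth.Agent.AlgSpPts
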