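import Groth.Agent.AlgSpPts.CartierDescent
import Groth.Agent.AlgSpPts.IdealChart
import Groth.Agent.AlgSpLib.Points
import Groth.Agent.FlatDescent.Dom.FlatPreimage
import Groth.Prelude.Def_AlgSpSub

/-!
Effective Cartier subspaces on charts.
-/

set_option autoImplicit false
set_option backward.isDefEq.respectTransparency.types false

universe u

open CategoryTheory CategoryTheory.Limits AlgebraicGeometry Opposite AlgSp Topology

namespace Groth.Agent.AlgSpPts

open Groth.Agent.AlgSpLib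

theorem isECAt_comap {X Y : Scheme.{u}} (f : X ⟶ Y) [Flat f] (I : Y.IdealSheafData) (x : X)
    (h : IsECAt I (f x)) : IsECAt (I.comap f) x := by
  obtain ⟨V, hxV, b, hb, hI⟩ := h
  obtain ⟨U, hU, hxU, hUV⟩ := exists_isAffineOpen_mem_and_subset (X := X) (x := x) (U := f ⁻¹ᵁ V.1) hxV
  letI := (f.appLE V.1 U hUV).hom.toAlgebra
  haveI : Module.Flat Γ(Y, V.1) Γ(X, U) := f.flat_appLE V.2 hU hUV
  refine ⟨⟨U, hU⟩, hxU, algebraMap Γ(Y, V.1) Γ(X, U) b, ?_, ?_⟩
  · refine mem_nonZeroDivisors_iff_right.2 fun r hr => ?_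
    exact Groth.FlatDescent.Dom.eq_zero_of_flat_of_mul (fun _ : PUnit.{u + 1} => b)
      (fun a ha => mem_nonZeroDivisors_iff_right.1 hb a (by rw [mul_comm]; exact ha PUnit.unit)) r
      (fun _ => by rw [mul_comm]; exact hr)
  · rw [IdealComap.ideal_comap I f ⟨U, hU⟩ V hUV, hI, Ideal.map_span, Set.image_singleton]
    rfl

variable {S : Scheme.{u}}

theorem ideal_le {D F : Sp S} {i : D ⟶ F} {V : Over S} {φ : (yon S).obj V ⟶ F} {I J : V.left.IdealSheafData}
    {fd : (yon S).obj (idealOver V I) ⟶ D} (h : IsPullback fd ((yon S).map (idealι V I)) i φ)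
    {fd' : (yon S).obj (idealOver V J) ⟶ D} (h' : IsPullback fd' ((yon S).map (idealι V J)) i φ) : J ≤ I := by
  obtain ⟨l, hl⟩ := (yon S).map_surjective (h'.lift fd ((yon S).map (idealι V I)) h.w)
  have e : l ≫ idealι V J = idealι V I := (yon S).map_injective (by rw [Functor.map_comp, hl, IsPullback.lift_snd])
  have e' : l.left ≫ J.subschemeι = I.subschemeι := congrArg (fun k => k.left) e
  have h := Scheme.Hom.le_ker_comp l.left J.subschemeι
  rw [e'] at h
  rwa [J.ker_subschemeι, I.ker_subschemeι] at h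

theorem exists_ideal_chart {D F : Sp S} {i : D ⟶ F} (hi : RepWith @IsClosedImmersion i) {V : Over S}
    (φ : (yon S).obj V ⟶ F) :
    ∃ (I : V.left.IdealSheafData) (fd : (yon S).obj (idealOver V I) ⟶ D),
      IsPullback fd ((yon S).map (idealι V I)) i φ := by
  obtain ⟨T, t, fst, sq⟩ := hi.1 φ
  have : IsClosedImmersion t.left := hi.2 _ fst t sq
  let e : idealOver V t.left.ker ≅ T := Over.isoMk (asIso t.left.toImage).symm (by
    show inv t.left.toImage ≫ T.hom = t.left.imageι ≫ V.hom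
    rw [IsIso.inv_comp_eq, Scheme.Hom.toImage_imageι_assoc, Over.w t])
  refine ⟨t.left.ker, (yon S).map e.hom ≫ fst,
    sq.of_iso ((yon S).mapIso e).symm (Iso.refl _) (Iso.refl _) (Iso.refl _) (by simp) ?_ (by simp) (by simp)⟩
  rw [Iso.refl_hom, Category.comp_id]
  show (yon S).map t = (yon S).map e.inv ≫ (yon S).map (idealι V t.left.ker)
  rw [← Functor.map_comp]
  exact congrArg _ (Over.OverMorphism.ext (Scheme.Hom.toImage_imageι t.left).symm)

/-- Being effective Cartier at a point does not depend on the etale chart. -/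
theorem isECAt_transfer {D F : Sp S} {i : D ⟶ F} (hF : IsAlgSpace F) {V U : Over S}
    {φ : (yon S).obj V ⟶ F} {ψ : (yon S).obj U ⟶ F} (hφ : RepWith @Etale φ) (hψ : RepWith @Etale ψ)
    {I₀ : V.left.IdealSheafData} {fd₀ : (yon S).obj (idealOver V I₀) ⟶ D}
    (s₀ : IsPullback fd₀ ((yon S).map (idealι V I₀)) i φ)
    {I : U.left.IdealSheafData} {fd : (yon S).obj (idealOver U I) ⟶ D}
    (s : IsPullback fd ((yon S).map (idealι U I)) i ψ)
    (v : ↥V.left) (u : ↥U.left) (huv : Points.ofPt φ v = Points.ofPt ψ u) (h : IsECAt I₀ v) : IsECAt I u := by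
  obtain ⟨R, p₁, p₂, sR⟩ := exists_isPullback (hF.representable_from_yon φ) ψ
  have : Etale p₁.left := prop_snd sR.flip hψ
  have : Etale p₂.left := prop_snd sR hφ
  obtain ⟨w, rfl, rfl⟩ := (ofPt_eq_iff sR v u).1 huv
  obtain ⟨k₀, -, t₀, -⟩ := ideal_comp s₀ p₁
  obtain ⟨k, -, t, -⟩ := ideal_comp s p₂
  rw [sR.w] at t₀
  have e : I.comap p₂.left = I₀.comap p₁.left := le_antisymm (ideal_le t₀ t) (ideal_le t t₀)
  refine isECAt_of_comap p₂.left I w ?_
  rw [e]
  exact isECAt_comap p₁.left I₀ w h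

/-- A point of a chart off a closed subspace is off the ideal, and conversely. -/
theorem mem_range_of_mem_support {D F : Sp S} {i : D ⟶ F} {U : Over S} {ψ : (yon S).obj U ⟶ F}
    {I : U.left.IdealSheafData} {fd : (yon S).obj (idealOver U I) ⟶ D}
    (s : IsPullback fd ((yon S).map (idealι U I)) i ψ) {u : ↥U.left} (hu : u ∈ I.support) :
    Points.ofPt ψ u ∈ Set.range (Points.map i) := by
  obtain ⟨y, rfl⟩ : u ∈ Set.range I.subschemeι := by rw [I.range_subschemeι]; exact hu
  refine ⟨Points.ofPt fd y, ?_⟩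
  rw [Points.map_ofPt, s.w, ofPt_comp]
  rfl

end Groth.Agent.AlgSpPts
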