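import Groth.Prelude.Def_BlowUp2
import Groth.Agent.IdealComap.Basic
import Mathlib

/-!
Descent of effective Cartier ideals along flat open morphisms.
-/

set_option autoImplicit false
set_option backward.isDefEq.respectTransparency.types false

universe u

open CategoryTheory AlgebraicGeometry TopologicalSpace

namespace Groth.Agent.AlgSpPts

/-- An ideal which becomes principal and regular after a faithfully flat extension is so near every prime. -/
theorem exists_principal_near {A B : Type u} [CommRing A] [CommRing B] [Algebra A B] [Module.FaithfullyFlat A B]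
    (J : Ideal A) (b : B) (hb : b ∈ nonZeroDivisors B) (hJ : J.map (algebraMap A B) = Ideal.span {b})
    (q : Ideal A) [q.IsPrime] :
    ∃ f : A, f ∉ q ∧ ∃ a ∈ J, ∀ (S : Type u) [CommRing S] [Algebra A S] [IsLocalization.Away f S],
      algebraMap A S a ∈ nonZeroDivisors S ∧ J.map (algebraMap A S) = Ideal.span {algebraMap A S a} := by
  classical
  have hbJ : b ∈ J.map (algebraMap A B) := hJ ▸ Ideal.mem_span_singleton_self b
  obtain ⟨T₀, hT₀, hbT⟩ := Submodule.mem_span_finite_of_mem_span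
    (show b ∈ Submodule.span B ((algebraMap A B) '' (J : Set A)) from hbJ)
  obtain ⟨T, hTJ, rfl⟩ := Finset.subset_set_image_iff.1 hT₀
  have hJT : J = Ideal.span (T : Set A) := by
    refine le_antisymm ?_ (Ideal.span_le.2 hTJ)
    have h : J.map (algebraMap A B) ≤ (Ideal.span (T : Set A)).map (algebraMap A B) := by
      rw [hJ, Ideal.span_le, Set.singleton_subset_iff]
      change b ∈ Ideal.map (algebraMap A B) (Ideal.span (T : Set A))
      rw [Ideal.map_span]
      rwa [Finset.coe_image] at hbT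
    have := Ideal.comap_mono (f := algebraMap A B) h
    rwa [Ideal.comap_map_eq_self_of_faithfullyFlat, Ideal.comap_map_eq_self_of_faithfullyFlat] at this
  have hd : ∀ t : T, ∃ d : B, algebraMap A B t = d * b := fun t => by
    obtain ⟨d, hd⟩ := Ideal.mem_span_singleton'.1 (hJ ▸ Ideal.mem_map_of_mem _ (hTJ t.2))
    exact ⟨d, hd.symm⟩
  choose d hd using hd
  rw [Finset.coe_image] at hbT
  obtain ⟨Q, hQ⟩ := PrimeSpectrum.comap_surjective_of_faithfullyFlat (A := A) (B := B) ⟨q, inferInstance⟩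
  obtain ⟨i, hi⟩ : ∃ i : T, d i ∉ Q.asIdeal := by
    by_contra hc
    push Not at hc
    have hmem : b ∈ Q.asIdeal * Ideal.span {b} := by
      refine (Submodule.span_le.2 ?_) hbT
      rintro _ ⟨t, ht, rfl⟩
      show algebraMap A B t ∈ Q.asIdeal * Ideal.span {b}
      rw [hd ⟨t, ht⟩]
      exact Ideal.mul_mem_mul (hc _) (Ideal.mem_span_singleton_self b)
    obtain ⟨z, hz, hzb⟩ := Ideal.mem_mul_span_singleton.1 hmem
    have : z = 1 := (mul_cancel_right_mem_nonZeroDivisors hb).1 (hzb.trans (one_mul b).symm)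
    exact Q.isPrime.ne_top ((Ideal.eq_top_iff_one _).2 (this ▸ hz))
  have hj : ∀ j : T, ∃ t : A, t ∉ q ∧ ∃ w, t * (j : A) = w * (i : A) := by
    intro j
    have h0 : ∑ s, (![(i : A), -(j : A)]) s • (![d j, d i]) s = 0 := by
      simp only [Fin.sum_univ_two, Matrix.cons_val_zero, Matrix.cons_val_one, Algebra.smul_def, map_neg, hd]
      ring
    obtain ⟨k, α, z, hx, hα⟩ := Module.Flat.isTrivialRelation_of_sum_smul_eq_zero (R := A) (M := B) (f := ![(i : A), -(j : A)]) (x := ![d j, d i]) (by convert h0 using 2)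
    have hdi : d i = ∑ s, α 1 s • z s := hx 1
    obtain ⟨s, hs⟩ : ∃ s, α 1 s ∉ q := by
      by_contra hc
      push Not at hc
      apply hi
      rw [hdi]
      refine sum_mem fun s _ => ?_
      rw [Algebra.smul_def]
      refine Ideal.mul_mem_right _ _ ?_
      have e : q = Q.asIdeal.comap (algebraMap A B) := (congrArg PrimeSpectrum.asIdeal hQ).symm
      exact (e ▸ hc s : α 1 s ∈ Q.asIdeal.comap (algebraMap A B))
    refine ⟨α 1 s, hs, α 0 s, ?_⟩
    have e := hα s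
    simp only [Fin.sum_univ_two, Matrix.cons_val_zero, Matrix.cons_val_one] at e
    linear_combination -e
  choose t ht w hw using hj
  let f₀ := ∏ j : T, t j
  have hf₀ : ∀ z ∈ J, ∃ c, f₀ * z = c * (i : A) := by
    intro z hz
    rw [hJT] at hz
    induction hz using Submodule.span_induction with
    | mem z hz =>
      obtain ⟨c, hc⟩ := Finset.dvd_prod_of_mem t (Finset.mem_univ ⟨z, hz⟩)
      exact ⟨c * w ⟨z, hz⟩, by rw [show f₀ = t ⟨z, hz⟩ * c from hc, mul_right_comm, hw ⟨z, hz⟩]; ring⟩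
    | zero => exact ⟨0, by ring⟩
    | add x y _ _ hx hy =>
      obtain ⟨c, hc⟩ := hx; obtain ⟨c', hc'⟩ := hy
      exact ⟨c + c', by rw [mul_add, hc, hc']; ring⟩
    | smul r x _ hx =>
      obtain ⟨c, hc⟩ := hx
      exact ⟨r * c, by rw [smul_eq_mul, mul_left_comm, hc]; ring⟩
  refine ⟨f₀, fun H => ?_, i, hTJ i.2, fun S _ _ _ => ⟨?_, ?_⟩⟩
  · obtain ⟨j, -, hj⟩ := (Ideal.IsPrime.prod_mem_iff (hp := ‹q.IsPrime›)).mp H
    exact ht j hj
  · obtain ⟨e, he⟩ : ∃ e, algebraMap A B f₀ * b = e * algebraMap A B i := by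
      have : algebraMap A B f₀ * b ∈ Ideal.span {algebraMap A B i} := by
        have h : Ideal.span {algebraMap A B f₀} * J.map (algebraMap A B) ≤ Ideal.span {algebraMap A B i} := by
          rw [← Set.image_singleton, ← Ideal.map_span, ← Ideal.map_mul, Ideal.map_le_iff_le_comap, Ideal.mul_le]
          intro r hr z hz
          obtain ⟨r', rfl⟩ := Ideal.mem_span_singleton'.1 hr
          obtain ⟨c, hc⟩ := hf₀ z hz
          rw [Ideal.mem_comap, mul_assoc, hc, map_mul, map_mul]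
          exact Ideal.mul_mem_left _ _ (Ideal.mul_mem_left _ _ (Ideal.mem_span_singleton_self _))
        exact h (Ideal.mul_mem_mul (Ideal.mem_span_singleton_self _) hbJ)
      obtain ⟨e, he⟩ := Ideal.mem_span_singleton'.1 this
      exact ⟨e, he.symm⟩
    have hde : algebraMap A B f₀ = e * d i :=
      (mul_cancel_right_mem_nonZeroDivisors hb).1 (by rw [he, hd i, mul_assoc])
    refine mem_nonZeroDivisors_iff_right.2 fun r hr => ?_
    obtain ⟨z, s, rfl⟩ := IsLocalization.exists_mk'_eq (Submonoid.powers f₀) r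
    have h1 : algebraMap A S (z * i) = 0 := by
      rw [map_mul, ← IsLocalization.mk'_spec S z s, mul_right_comm, hr, zero_mul]
    obtain ⟨⟨_, m, rfl⟩, hm⟩ := (IsLocalization.map_eq_zero_iff (Submonoid.powers f₀) S _).1 h1
    have hB : algebraMap A B (f₀ ^ m * z) * d i = 0 :=
      (mul_cancel_right_mem_nonZeroDivisors hb).1 (by
        rw [mul_assoc, ← hd i, ← map_mul, zero_mul, mul_assoc, hm, map_zero])
    have hzero : f₀ ^ (m + 1) * z = 0 := FaithfulSMul.algebraMap_injective A B (by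
      rw [map_zero, pow_succ', mul_assoc, map_mul, hde, mul_assoc, mul_comm (d i), hB, mul_zero])
    exact (IsLocalization.mk'_eq_zero_iff z s).2 ⟨⟨f₀ ^ (m + 1), m + 1, rfl⟩, hzero⟩
  · refine le_antisymm (Ideal.map_le_iff_le_comap.2 fun z hz => ?_)
      ((Ideal.span_singleton_le_iff_mem _).2 (Ideal.mem_map_of_mem _ (hTJ i.2)))
    obtain ⟨c, hc⟩ := hf₀ z hz
    have hu : IsUnit (algebraMap A S f₀) := IsLocalization.map_units S (⟨f₀, 1, pow_one _⟩ : Submonoid.powers f₀)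
    rw [Ideal.mem_comap, ← Ideal.unit_mul_mem_iff_mem _ hu, ← map_mul, hc, map_mul]
    exact Ideal.mul_mem_left _ _ (Ideal.mem_span_singleton_self _)

/-- The condition of being an effective Cartier ideal near a point. -/
def IsECAt {X : Scheme.{u}} (I : X.IdealSheafData) (x : X) : Prop :=
  ∃ U : X.affineOpens, x ∈ U.1 ∧ ∃ f : Γ(X, U.1), f ∈ nonZeroDivisors Γ(X, U.1) ∧ I.ideal U = Ideal.span {f}

theorem isECAt_of_notMem_support {X : Scheme.{u}} (I : X.IdealSheafData) {x : X} (hx : x ∉ I.support) :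
    IsECAt I x := by
  obtain ⟨A, hA, hxA, hAs⟩ := exists_isAffineOpen_mem_and_subset (X := X) (x := x) (U := I.support.compl) hx
  refine ⟨⟨A, hA⟩, hxA, 1, one_mem _, ?_⟩
  rw [Ideal.span_singleton_one]
  by_contra hne
  obtain ⟨m, hm, hle⟩ := Ideal.exists_le_maximal _ hne
  let p : PrimeSpectrum Γ(X, A) := ⟨m, hm.isPrime⟩
  have hp : hA.fromSpec p ∈ A := hA.range_fromSpec.le ⟨p, rfl⟩
  refine hAs hp ?_
  have h2 := Set.ext_iff.1 (I.coe_support_inter ⟨A, hA⟩) (hA.fromSpec p)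
  rw [← hA.fromSpec_image_zeroLocus] at h2
  exact (h2.2 ⟨p, hle, rfl⟩).1

/-- Shrinking a principal chart to a basic open. -/
theorem principal_basicOpen {X : Scheme.{u}} (I : X.IdealSheafData) (U : X.affineOpens) {b : Γ(X, U.1)}
    (hb : b ∈ nonZeroDivisors Γ(X, U.1)) (hI : I.ideal U = Ideal.span {b}) (r : Γ(X, U.1)) :
    ∃ c : Γ(X, X.basicOpen r), c ∈ nonZeroDivisors Γ(X, X.basicOpen r) ∧
      I.ideal (X.affineBasicOpen r) = Ideal.span {c} := by
  letI := (X.presheaf.map (homOfLE (X.basicOpen_le r)).op).hom.toAlgebra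
  haveI := U.2.isLocalization_basicOpen r
  refine ⟨algebraMap Γ(X, U.1) Γ(X, X.basicOpen r) b,
    IsLocalization.map_nonZeroDivisors_le (Submonoid.powers r) _ ⟨b, hb, rfl⟩, ?_⟩
  rw [← I.map_ideal_basicOpen U r, hI, Ideal.map_span, Set.image_singleton]
  rfl

/-- Effective Cartier ideals descend along flat morphisms locally of finite presentation. -/
theorem isECAt_of_comap {X Y : Scheme.{u}} (f : X ⟶ Y) [Flat f] [LocallyOfFinitePresentation f]
    (I : Y.IdealSheafData) (x : X) (h : IsECAt (I.comap f) x) : IsECAt I (f x) := by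
  obtain ⟨U, hxU, b, hb, hIb⟩ := h
  obtain ⟨V, hV, hyV, -⟩ := exists_isAffineOpen_mem_and_subset (X := Y) (x := f x) (U := ⊤) trivial
  obtain ⟨r, hr, hxr⟩ := U.2.exists_basicOpen_le (V := f ⁻¹ᵁ V) ⟨x, hyV⟩ hxU
  obtain ⟨b₁, hb₁, hI₁⟩ := principal_basicOpen (I.comap f) U hb hIb r
  let U₁ := X.affineBasicOpen r
  have hopen : IsOpen (f '' (U₁.1 : Set X)) := f.isOpenMap _ U₁.1.isOpen
  obtain ⟨g, hg, hyg⟩ := hV.exists_basicOpen_le (V := ⟨_, hopen⟩) ⟨f x, x, hxr, rfl⟩ hyV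
  obtain ⟨b₂, hb₂, hI₂⟩ := principal_basicOpen (I.comap f) U₁ hb₁ hI₁ (f.appLE V U₁.1 hr g)
  let W : Y.affineOpens := ⟨Y.basicOpen g, hV.basicOpen g⟩
  let U₂ := X.affineBasicOpen (f.appLE V U₁.1 hr g)
  have hU₂ : U₂.1 = U₁.1 ⊓ f ⁻¹ᵁ W.1 := Scheme.basicOpen_appLE f U₁.1 V hr g
  have e : U₂.1 ≤ f ⁻¹ᵁ W.1 := hU₂.le.trans inf_le_right
  letI := (f.appLE W.1 U₂.1 e).hom.toAlgebra
  haveI : Module.FaithfullyFlat Γ(Y, W.1) Γ(X, U₂.1) := by
    refine (RingHom.faithfullyFlat_algebraMap_iff).1 (RingHom.FaithfullyFlat.iff_flat_and_comap_surjective.2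
      ⟨f.flat_appLE W.2 U₂.2 e, fun p => ?_⟩)
    have hpW : W.2.fromSpec p ∈ W.1 := W.2.range_fromSpec.le ⟨p, rfl⟩
    obtain ⟨x', hx', he⟩ := hg hpW
    have hx'₂ : x' ∈ U₂.1 := hU₂.ge ⟨hx', show f x' ∈ W.1 by rw [he]; exact hpW⟩
    obtain ⟨p', hp'⟩ := U₂.2.range_fromSpec.ge hx'₂
    refine ⟨p', W.2.fromSpec.isOpenEmbedding.injective ?_⟩
    have hs := congrArg (fun k => k p') (IsAffineOpen.SpecMap_appLE_fromSpec f W.2 U₂.2 e)
    refine hs.trans ?_
    show f (U₂.2.fromSpec p') = _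
    rw [hp', he]
  have hJ : (I.ideal W).map (algebraMap Γ(Y, W.1) Γ(X, U₂.1)) = Ideal.span {b₂} :=
    (IdealComap.ideal_comap I f U₂ W e).symm.trans hI₂
  obtain ⟨f₀, hf₀, a, -, hloc⟩ := exists_principal_near (A := Γ(Y, W.1)) (B := Γ(X, U₂.1)) (I.ideal W) b₂ hb₂ hJ
    (W.2.primeIdealOf ⟨f x, hyg⟩).asIdeal
  letI := (Y.presheaf.map (homOfLE (Y.basicOpen_le f₀)).op).hom.toAlgebra
  haveI := W.2.isLocalization_basicOpen f₀
  obtain ⟨h1, h2⟩ := hloc Γ(Y, Y.basicOpen f₀)
  refine ⟨Y.affineBasicOpen f₀, ?_, _, h1, ?_⟩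
  · have := W.2.fromSpec_primeIdealOf ⟨f x, hyg⟩
    show f x ∈ Y.basicOpen f₀
    rw [show f x = W.2.fromSpec (W.2.primeIdealOf ⟨f x, hyg⟩) from this.symm]
    show W.2.primeIdealOf ⟨f x, hyg⟩ ∈ W.2.fromSpec ⁻¹ᵁ Y.basicOpen f₀
    rw [W.2.fromSpec_preimage_basicOpen]
    exact hf₀
  · exact (I.map_ideal_basicOpen W f₀).symm.trans h2

end Groth.Agent.AlgSpPts
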