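import Groth.Agent.AlgSpPts.JacobsonPts
import Mathlib.AlgebraicGeometry.Properties
import Mathlib.AlgebraicGeometry.Morphisms.UniversallyOpen

/-!
Codimension of points under flat and locally quasi-finite morphisms.
-/

set_option autoImplicit false
set_option backward.isDefEq.respectTransparency.types false

universe u

open CategoryTheory CategoryTheory.Limits AlgebraicGeometry Opposite AlgSp Topology

namespace Groth.Agent.AlgSpPts

open Groth.Agent.AlgSpLib

theorem coheight_le_of_lqf {U V : Scheme.{u}} (h : U ⟶ V) [LocallyQuasiFinite h] (u : U) :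
    Order.coheight u ≤ Order.coheight (h u) := by
  refine Order.coheight_le_coheight_apply_of_strictMono (fun z : U => h z) (fun a b hab => ?_) u
  have hle : h a ≤ h b := (show b ⤳ a from hab.le).map h.continuous
  refine lt_of_le_not_ge hle fun hba => hab.not_ge ?_
  have e : h b = h a := ((show h b ⤳ h a from hle).antisymm hba).eq
  obtain ⟨O, hO, hOa⟩ := isDiscrete_iff_forall_exists_isOpen.1 (h.isDiscrete_preimage_singleton (h a)) a rfl
  have : b ∈ O ∩ h ⁻¹' {h a} :=
    ⟨(show b ⤳ a from hab.le).mem_open hO (hOa.ge (show a ∈ ({a} : Set U) from rfl)).1, e⟩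
  rw [hOa] at this
  exact le_of_eq this

theorem coheight_le_of_flat {U V : Scheme.{u}} (h : U ⟶ V) [Flat h] (u : U) :
    Order.coheight (h u) ≤ Order.coheight u := by
  have key : ∀ (n : ℕ) (p : LTSeries V) (x : U), p.length = n → p.head = h x →
      ∃ q : LTSeries U, q.head = x ∧ q.length = n := by
    intro n
    induction n with
    | zero => exact fun p x _ _ => ⟨RelSeries.singleton _ x, rfl, rfl⟩
    | succ n ih =>
      intro p x hp hx
      have hl : p.length ≠ 0 := by omega
      have hlt : p.head < (p.tail hl).head :=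
        (p.step ⟨0, by omega⟩).trans_eq (congrArg p.toFun (Fin.ext rfl))
      rw [hx] at hlt
      obtain ⟨x', hx', e⟩ := Flat.generalizingMap h (show (p.tail hl).head ⤳ h x from hlt.le)
      obtain ⟨q, hq, hql⟩ := ih (p.tail hl) x' (by simp [RelSeries.tail]; omega) e.symm
      have hxx' : x < x' := lt_of_le_not_ge hx' fun hge => hlt.not_ge (by
        rw [← e]
        exact (show x ⤳ x' from hge).map h.continuous)
      exact ⟨q.cons x (show x < q.head by rw [hq]; exact hxx'), RelSeries.head_cons _ _ _, by simp [hql]⟩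
  refine Order.coheight_le fun p hp => ?_
  obtain ⟨q, hq, hql⟩ := key _ p u rfl hp
  rw [← hql, ← hq]
  exact Order.length_le_coheight_head

variable {S : Scheme.{u}}

theorem coheight_eq_of_etale {U V : Scheme.{u}} (h : U ⟶ V) [Etale h] (u : U) :
    Order.coheight u = Order.coheight (h u) :=
  le_antisymm (coheight_le_of_lqf h u) (coheight_le_of_flat h u)

theorem stalkDim_of_hasAt {X : Sp S} (hX : IsAlgSpace X) {x : Points X} {d : WithBot ℕ∞}
    (hx : HasAt (fun U u => ringKrullDim ↥(U.presheaf.stalk u) = d) X x) {U : Over S} {a : (yon S).obj U ⟶ X}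
    (ha : RepWith @Etale a) {u : ↥U.left} (hu : Points.ofPt a u = x) : (Order.coheight u : WithBot ℕ∞) = d := by
  obtain ⟨U₀, a₀, u₀, ha₀, rfl, h₀⟩ := hx
  obtain ⟨R, p, q, sq⟩ := exists_isPullback (hX.representable_from_yon a₀) a
  have : Etale p.left := prop_snd sq.flip ha
  have : Etale q.left := prop_snd sq ha₀
  obtain ⟨r, hr, hr'⟩ := (ofPt_eq_iff sq u₀ u).1 hu.symm
  rw [← h₀, ringKrullDim_stalk_eq_coheight, ← hr, ← hr', ← coheight_eq_of_etale, ← coheight_eq_of_etale]

theorem codim_le_of_lqf {X Y : Sp S} (hX : IsAlgSpace X) (hY : IsAlgSpace Y) {f : X ⟶ Y}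
    (hf : LocP ((@LocallyQuasiFinite : MorphismProperty Scheme.{u}) ⊓ @LocallyOfFiniteType) f)
    {x : Points X} {d e : WithBot ℕ∞}
    (hx : HasAt (fun U u => ringKrullDim ↥(U.presheaf.stalk u) = d) X x)
    (hy : HasAt (fun V v => ringKrullDim ↥(V.presheaf.stalk v) = e) Y (Points.map f x)) : d ≤ e := by
  obtain ⟨U, V, a, b, m, ha, has, hb, -, w⟩ := exists_chart hX hY f
  obtain ⟨u, hu⟩ := surjective_ofPt has x
  have : LocallyQuasiFinite m.left := (hf a b m ha hb w).1
  have hv : Points.ofPt b (m.left u) = Points.map f x := by rw [← ofPt_comp, ← w, ← Points.map_ofPt, hu]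
  rw [← stalkDim_of_hasAt hX hx ha hu, ← stalkDim_of_hasAt hY hy hb hv]
  exact WithBot.coe_le_coe.2 (coheight_le_of_lqf m.left u)

end Groth.Agent.AlgSpPts
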