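import Groth.Agent.AlgSpPts.Cancel
import Groth.Agent.FpqcDescent.Affine
import Groth.Agent.AlgSpLib.LocalST

/-!
Descent of properties represented by affine schemes along one etale chart, and formal consequences of smooth locality.
-/

set_option autoImplicit false
set_option backward.isDefEq.respectTransparency.types false

universe u

open CategoryTheory CategoryTheory.Limits AlgebraicGeometry Opposite AlgSp Topology

namespace Groth.Agent.AlgSpPts

open Groth.Agent.AlgSpLib

variable {S : Scheme.{u}}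

theorem localOnBase_chart {Q : MorphismProperty (Sp S)} (hQ : IsLocalOnBase (IsFpqcCover (S := S)) Q)
    {X Y : Sp S} (hX : IsAlgSpace X) (hY : IsAlgSpace Y) (f : X ⟶ Y) {V : Over S} (p : (yon S).obj V ⟶ Y)
    (hp : RepWith @Etale p) (hps : RepWith @Surjective p) {P : Sp S} {fst : P ⟶ X}
    {snd : P ⟶ (yon S).obj V} (sq : IsPullback fst snd f p) (h : Q snd) : Q f :=
  (hQ (fun _ : PUnit.{u + 1} => (yon S).obj V) (fun _ => p) hY (fun _ => IsAlgSpace.yon_obj V)
    (isFpqcCover_chart hY p hp hps) f hX (fun _ => P) (fun _ => snd) (fun _ => fst)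
    (fun _ => isAlgSpace_of_isPullback sq hX (IsAlgSpace.yon_obj V) hY) (fun _ => sq)).2 fun _ => h

theorem isAffineMor_iff_affRep {X Y : Sp S} (f : X ⟶ Y) : IsAffineMor f ↔ AffRep @IsAffineHom f := by
  refine ⟨fun h Z hZ g => ?_, fun h Z hZ g => ?_⟩
  · obtain ⟨W, i, fst, sq, hW⟩ := h hZ g
    exact ⟨W, i, fst, sq, hW, inferInstanceAs (IsAffineHom i.left)⟩
  · obtain ⟨W, i, fst, sq, hW, -⟩ := h hZ g
    exact ⟨W, i, fst, sq, hW⟩

theorem isAffineMor_of_chart {X Y : Sp S} (hX : IsAlgSpace X) (hY : IsAlgSpace Y) (f : X ⟶ Y) {V : Over S}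
    (p : (yon S).obj V ⟶ Y) (hp : RepWith @Etale p) (hps : RepWith @Surjective p) {P : Sp S} {fst : P ⟶ X}
    {snd : P ⟶ (yon S).obj V} (sq : IsPullback fst snd f p) (h : IsAffineMor snd) : IsAffineMor f := by
  have := FpqcDescent.isAffineHom_descendsAlong.{u}
  exact (isAffineMor_iff_affRep f).2 (localOnBase_chart isLocalOnBase_affRep hX hY f p hp hps sq
    ((isAffineMor_iff_affRep snd).1 h))

theorem integral_finite_of_chart {X Y : Sp S} (hX : IsAlgSpace X) (hY : IsAlgSpace Y) (f : X ⟶ Y) {V : Over S}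
    (p : (yon S).obj V ⟶ Y) (hp : RepWith @Etale p) (hps : RepWith @Surjective p) {P : Sp S} {fst : P ⟶ X}
    {snd : P ⟶ (yon S).obj V} (sq : IsPullback fst snd f p) :
    (IsIntegralMor snd → IsIntegralMor f) ∧ (IsFiniteMor snd → IsFiniteMor f) := by
  have := FpqcDescent.isIntegralHom_descendsAlong.{u}
  have := FpqcDescent.isFinite_descendsAlong.{u}
  exact ⟨localOnBase_chart (Q := AffRep @IsIntegralHom) isLocalOnBase_affRep hX hY f p hp hps sq,
    localOnBase_chart (Q := AffRep @IsFinite) isLocalOnBase_affRep hX hY f p hp hps sq⟩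

theorem repWith_of_affine_bases {P : MorphismProperty Scheme.{u}} [P.IsStableUnderBaseChange]
    [IsZariskiLocalAtTarget P] {X Y : Sp S}
    (f : X ⟶ Y)
    (h : ∀ (Z : Over S), IsAffine Z.left → ∀ (g : (yon S).obj Z ⟶ Y) (P₀ : Sp S)
      (fst : P₀ ⟶ X) (snd : P₀ ⟶ (yon S).obj Z), IsPullback fst snd f g → RepWith P snd) : RepWith P f := by
  refine repWith_of_affine_targets fun Z hZ g => ?_
  have sq := IsPullback.of_hasPullback f g
  have hr := h Z hZ g _ _ _ sq
  obtain ⟨W, i, a, sa⟩ := hr.1 (𝟙 _)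
  refine ⟨W, i, a ≫ pullback.fst f g, ?_, hr.2 _ a i sa⟩
  have := sa.paste_horiz sq
  rwa [Category.id_comp] at this

variable {P : MorphismProperty (Sp S)}

theorem smoothLocalST_rules (hP : IsSmoothLocalST P) :
    IsLocalOnSource (IsSmCover (S := S)) P ∧ IsLocalOnBase (IsSmCover (S := S)) P ∧
    (∀ ⦃X Y Z : Space S⦄ (f : X ⟶ Y) (g : Y ⟶ Z), P f.hom → LocP @Smooth g.hom → P (f ≫ g).hom) := by
  refine ⟨?_, ?_, ?_⟩
  · intro ι X Xi g hX hXi hg Y f hY
    refine ⟨fun hf i => hP.precomp (hXi i) hX hY (g i) f (hg.1 i) hf, fun h => ?_⟩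
    refine (hP.locality hX hY f).2 fun x => ?_
    obtain ⟨i, v, hv⟩ := hg.2 x
    exact ⟨Xi i, Y, g i, 𝟙 Y, g i ≫ f, v, hXi i, hY, hg.1 i, locP_smooth_id Y, by simp, hv, h i⟩
  · intro ι Y Yi g hY hYi hg X f hX Xi p q hXi sq
    refine ⟨fun hf i => hP.baseChange hX hY (hXi i) (hYi i) f (g i) (p i) (q i) (sq i) (hg.1 i) hf, fun h => ?_⟩
    refine (hP.locality hX hY f).2 fun x => ?_
    obtain ⟨i, y, hy⟩ := hg.2 (Points.map f x)
    obtain ⟨z, hz, -⟩ := exists_point_of_isPullback (sq i) x y hy.symm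
    exact ⟨Xi i, Yi i, q i, g i, p i, z, hXi i, hYi i, locP_baseChange (hYi i) hY hX (sq i).flip (hg.1 i), hg.1 i,
      (sq i).w, hz, h i⟩
  · intro X Y Z f g hf hg
    refine (hP.locality X.property Z.property (f ≫ g).hom).2 fun x => ?_
    exact ⟨X.obj, Y.obj, 𝟙 _, g.hom, f.hom, x, X.property, Y.property, locP_smooth_id _, hg,
      Category.id_comp _, Points.map_id x, hf⟩

end Groth.Agent.AlgSpPts

namespace Groth.Agent.AlgSpPts

open Groth.Agent.AlgSpLib

variable {S : Scheme.{u}} {P : MorphismProperty (Sp S)}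

theorem etaleSmoothLocalST_rules (hP : IsEtaleSmoothLocalST P) :
    IsLocalOnSource (IsEtCover (S := S)) P ∧ IsLocalOnBase (IsSmCover (S := S)) P ∧
    (∀ ⦃X Y Z : Space S⦄ (f : X ⟶ Y) (g : Y ⟶ Z), P f.hom → IsEtaleMor g.hom → P (f ≫ g).hom) ∧
    (∀ ⦃X Y Z : Space S⦄ (f : X ⟶ Y) (g : Y ⟶ Z), IsEtaleMor g.hom → P (f ≫ g).hom → P f.hom) := by
  have key : ∀ ⦃X Y Z : Space S⦄ (f : X ⟶ Y) (g : Y ⟶ Z), IsEtaleMor g.hom →
      ∃ (e : X.obj ⟶ pullback (f ≫ g).hom g.hom), IsEtaleMor e ∧ e ≫ pullback.fst _ _ = 𝟙 _ ∧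
        e ≫ pullback.snd _ _ = f.hom ∧ LocP @Smooth g.hom := by
    intro X Y Z f g hg
    have hg' : LocP @Etale g.hom := (isEtaleMor_iff_locP Z.property).1 hg
    have sq := IsPullback.of_hasPullback (f ≫ g).hom g.hom
    have hW := isAlgSpace_of_isPullback sq X.property Y.property Z.property
    refine ⟨sq.lift (𝟙 _) f.hom (Category.id_comp _), (isEtaleMor_iff_locP hW).2 ?_, sq.lift_fst _ _ _,
      sq.lift_snd _ _ _, locP_mono (fun _ _ k hk => by have : Etale k := hk; infer_instance) hg'⟩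
    refine locP_of_comp (Q := @Etale) (R := @Etale) (g := pullback.fst (f ≫ g).hom g.hom) X.property hW X.property
      (by rw [sq.lift_fst]; exact locP_id (fun _ _ k hk => hk) _)
      (locP_baseChange Y.property Z.property X.property sq.flip hg') fun A B C k m h hm => ?_
    have : Etale (k ≫ m) := h
    have : Etale m := hm
    exact Etale.of_comp k m
  refine ⟨etaleSmooth_isLocalOnSource hP, etaleSmooth_isLocalOnBase hP, fun X Y Z f g hf hg => ?_,
    fun X Y Z f g hg hfg => ?_⟩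
  · obtain ⟨e, he, hef, hes, hgs⟩ := key f g hg
    refine (hP.locality X.property Z.property (f ≫ g).hom).2 fun x => ?_
    refine ⟨Y.obj, pullback (f ≫ g).hom g.hom, X.obj, g.hom, pullback.fst _ _, pullback.snd _ _, e, x, Y.property,
      isAlgSpace_pullback _ _ X.property Y.property Z.property, X.property, hgs, IsPullback.of_hasPullback _ _, he,
      ?_, ?_⟩
    · rw [hef, Points.map_id]
    · rw [hes]; exact hf
  · obtain ⟨e, he, -, hes, hgs⟩ := key f g hg
    have hW := isAlgSpace_pullback (f ≫ g).hom g.hom X.property Y.property Z.property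
    rw [← hes]
    exact hP.precomp X.property hW Y.property e (pullback.snd _ _) he
      (hP.baseChange X.property Z.property hW Y.property (f ≫ g).hom g.hom (pullback.snd _ _) (pullback.fst _ _)
        (IsPullback.of_hasPullback _ _) hgs hfg)

end Groth.Agent.AlgSpPts
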