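import Groth.Agent.AlgSpPts.Descents
import Groth.Agent.AlgSpLib.EtaleMono
import Groth.Agent.AlgSpLib.ImmersionDescent
import Groth.Agent.AlgSpLib.QuasiAffineRep

/-!
Descent of immersions and quasi-affine morphisms along one etale chart.
-/

set_option autoImplicit false
set_option backward.isDefEq.respectTransparency.types false

universe u

open CategoryTheory CategoryTheory.Limits AlgebraicGeometry Opposite AlgSp Topology

namespace Groth.Agent.AlgSpPts

open Groth.Agent.AlgSpLib

variable {S : Scheme.{u}}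

/-- An etale chart is an fppf covering. -/
theorem isFppfCover_chart {Y : Sp S} {V : Over S} (p : (yon S).obj V ⟶ Y) (hp : RepWith @Etale p)
    (hps : RepWith @Surjective p) :
    IsFppfCover (fun _ : PUnit.{u + 1} => (yon S).obj V) (fun _ => p) :=
  ⟨fun _ => ⟨locP_of_repWith hp fun _ _ _ k m hk hm => EtLocal.comp_etale k m hk
      (EtLocal.of_etale (P := @Flat) m hm),
    locP_of_repWith hp fun _ _ _ k m hk hm => EtLocal.comp_etale k m hk
      (EtLocal.of_etale (P := @LocallyOfFinitePresentation) m hm)⟩,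
    fun y => ⟨⟨⟩, surjective_map_of_repWith hps y⟩⟩

theorem isImmersion_of_chart {X Y : Sp S} (hX : IsAlgSpace X) (hY : IsAlgSpace Y) (f : X ⟶ Y) {V : Over S}
    (p : (yon S).obj V ⟶ Y) (hp : RepWith @Etale p) (hps : RepWith @Surjective p) {P : Sp S} {fst : P ⟶ X}
    {snd : P ⟶ (yon S).obj V} (sq : IsPullback fst snd f p) (h : RepWith @IsImmersion snd) : RepWith @IsImmersion f :=
  (isLocalOnBase_fppf_isImmersion S (fun _ : PUnit.{u + 1} => (yon S).obj V) (fun _ => p) hY
    (fun _ => IsAlgSpace.yon_obj V) (isFppfCover_chart p hp hps) f hX (fun _ => P) (fun _ => snd) (fun _ => fst)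
    (fun _ => isAlgSpace_of_isPullback sq hX (IsAlgSpace.yon_obj V) hY) (fun _ => sq)).2 fun _ => h

theorem representable_of_isQuasiAffineMor {X Y : Sp S} {f : X ⟶ Y} (hf : IsQuasiAffineMor f) : Representable f := by
  have : IsZariskiLocalAtTarget (⊤ : MorphismProperty Scheme.{u}) :=
    IsZariskiLocalAtTarget.mk' (fun _ _ _ => trivial) fun _ _ _ _ _ => trivial
  exact (repWith_of_affine_targets (P := (⊤ : MorphismProperty Scheme.{u})) fun Z hZ g => by
    obtain ⟨W, i, a, sa, -⟩ := hf hZ g
    exact ⟨W, i, a, sa, trivial⟩).1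

theorem isQuasiAffineMor_of_chart {X Y : Sp S} (hX : IsAlgSpace X) (hY : IsAlgSpace Y) (f : X ⟶ Y) {V : Over S}
    (p : (yon S).obj V ⟶ Y) (hp : RepWith @Etale p) (hps : RepWith @Surjective p) {P : Sp S} {fst : P ⟶ X}
    {snd : P ⟶ (yon S).obj V} (sq : IsPullback fst snd f p) (h : IsQuasiAffineMor snd) :
    Representable f ∧ IsQuasiAffineMor f :=
  have hq := localOnBase_chart isLocalOnBase_isQuasiAffineMor hX hY f p hp hps sq h
  ⟨representable_of_isQuasiAffineMor hq, hq⟩

end Groth.Agent.AlgSpPts
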