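import Groth.Agent.AlgSpPts.Basic
import Groth.Agent.FSmooth.Criterion
import Groth.Prelude.Def_AlgSpInf

/-!
Formal smoothness of morphisms representable by smooth, etale or unramified morphisms of schemes.
-/

set_option autoImplicit false
set_option backward.isDefEq.respectTransparency.types false

universe u

open CategoryTheory CategoryTheory.Limits AlgebraicGeometry Opposite AlgSp Topology

namespace Groth.Agent.AlgSpPts

open Groth.Agent.AlgSpLib

variable {S : Scheme.{u}} {F G : Sp S} {a : F ⟶ G}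

/-- The scheme problem attached to a lifting square of a representable morphism. -/
theorem exists_scheme_problem (ha : Representable a) (sq : InfSq a) :
    ∃ (W : Over S) (i : W ⟶ sq.ptT') (fst : (yon S).obj W ⟶ F) (r : sq.ptT ⟶ W),
      IsPullback fst ((yon S).map i) a sq.bot ∧ (yon S).map r ≫ fst = sq.top ∧ r ≫ i = sq.j := by
  obtain ⟨W, i, fst, s⟩ := ha sq.bot
  obtain ⟨r, hr, hr'⟩ := exists_lift s sq.top sq.j sq.comm
  exact ⟨W, i, fst, r, s, hr, hr'⟩

theorem formallySmooth_of_repWith {P : MorphismProperty Scheme.{u}}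
    (hP : ∀ ⦃A B : Scheme.{u}⦄ (k : A ⟶ B), P k → MoreMor.IsFormallySmoothHom k) (ha : RepWith P a) :
    IsFormallySmoothMor a := fun sq => by
  obtain ⟨W, i, fst, r, s, hr, hri⟩ := exists_scheme_problem ha.1 sq
  obtain ⟨σ, hσ₁, hσ₂⟩ := hP _ (ha.2 _ fst i s) sq.A sq.I sq.sq_zero r.left (𝟙 _) 
    ((Category.comp_id _).trans (congrArg (fun t => t.left) hri).symm)
  let σ' : sq.ptT' ⟶ W := Over.homMk σ (by rw [← Over.w i]; exact (reassoc_of% hσ₂) _)
  have e₁ : sq.j ≫ σ' = r := Over.OverMorphism.ext hσ₁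
  have e₂ : σ' ≫ i = 𝟙 _ := Over.OverMorphism.ext hσ₂
  refine ⟨(yon S).map σ' ≫ fst, ?_, ?_⟩
  · rw [← Category.assoc, ← Functor.map_comp, e₁, hr]
  · rw [Category.assoc, s.w, ← Category.assoc, ← Functor.map_comp, e₂, CategoryTheory.Functor.map_id,
      Category.id_comp]

theorem formallyUnramified_of_repWith {P : MorphismProperty Scheme.{u}}
    (hP : ∀ ⦃A B : Scheme.{u}⦄ (k : A ⟶ B), P k → AlgebraicGeometry.FormallyUnramified k) (ha : RepWith P a) :
    IsFormallyUnramifiedMor a := fun sq l l' h₁ h₂ h₁' h₂' => by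
  obtain ⟨W, i, fst, r, s, hr, hri⟩ := exists_scheme_problem ha.1 sq
  have : AlgebraicGeometry.FormallyUnramified i.left := hP _ (ha.2 _ fst i s)
  obtain ⟨σ, hσ, hσi⟩ := exists_lift s l (𝟙 _) (by rw [h₂, CategoryTheory.Functor.map_id, Category.id_comp])
  obtain ⟨σ', hσ', hσi'⟩ := exists_lift s l' (𝟙 _) (by rw [h₂', CategoryTheory.Functor.map_id, Category.id_comp])
  have e : sq.j ≫ σ = sq.j ≫ σ' := (yon S).map_injective (s.hom_ext
    (by rw [Functor.map_comp, Functor.map_comp, Category.assoc, Category.assoc, hσ, hσ', h₁, h₁'])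
    (by rw [← Functor.map_comp, ← Functor.map_comp, Category.assoc, Category.assoc, hσi, hσi']))
  have : σ = σ' := Over.OverMorphism.ext (Groth.FSmooth.lift_unique (f := i.left) sq.sq_zero
    (congrArg (·.left) e) ((congrArg (·.left) hσi).trans (congrArg (·.left) hσi').symm))
  rw [← hσ, this, hσ']

theorem formal_of_repWith (a : F ⟶ G) :
    (RepWith @Smooth a → IsFormallySmoothMor a) ∧ (RepWith @Etale a → IsFormallyEtaleMor a) ∧
    (RepWith (@LocallyOfFiniteType ⊓ @FormallyUnramified) a → IsFormallyUnramifiedMor a) := by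
  refine ⟨formallySmooth_of_repWith fun _ _ k hk => ((Groth.FSmooth.smooth_iff k).1 hk).2, fun h sq => ?_,
    formallyUnramified_of_repWith fun _ _ k hk => hk.2⟩
  have hs : IsFormallySmoothMor a := formallySmooth_of_repWith (fun _ _ k hk => by
    have : Etale k := hk
    exact ((Groth.FSmooth.smooth_iff k).1 inferInstance).2) h
  have hu : IsFormallyUnramifiedMor a := formallyUnramified_of_repWith (fun _ _ k hk => by
    have : Etale k := hk
    infer_instance) h
  obtain ⟨l, h₁, h₂⟩ := hs sq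
  exact ⟨l, ⟨h₁, h₂⟩, fun l' hl' => hu sq l' l hl'.1 hl'.2 h₁ h₂⟩

end Groth.Agent.AlgSpPts
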