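import Groth.Agent.AlgSpPts.FormalEtTop
import Groth.Agent.AlgSpLib.LocP
import Groth.Agent.S10618
import Groth.Agent.S10619

/-!
Formally unramified / etale morphisms of algebraic spaces on charts.
-/

set_option autoImplicit false
set_option backward.isDefEq.respectTransparency.types false

universe u

open CategoryTheory CategoryTheory.Limits AlgebraicGeometry Opposite AlgSp Topology

namespace Groth.Agent.AlgSpPts

open Groth.Agent.AlgSpLib

variable {S : Scheme.{u}}

theorem formallyEtale_of_isEtaleMor {X Y : Sp S} (hX : IsAlgSpace X) {f : X ⟶ Y} (h : IsEtaleMor f) :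
    IsFormallyEtaleMor f := by
  obtain ⟨U, a, ha, has⟩ := hX.atlas
  exact formallyEtale_of_etale_surjective_comp ha has ((formal_of_repWith _).2.1 (h a ha))

theorem formallyUnramified_of_formallyEtale {X Y : Sp S} {f : X ⟶ Y} (h : IsFormallyEtaleMor f) :
    IsFormallyUnramifiedMor f := fun sq l l' h₁ h₂ h₁' h₂' => (h sq).unique ⟨h₁, h₂⟩ ⟨h₁', h₂'⟩

theorem formallyEtale_repWith {F G : Sp S} {f : F ⟶ G} (h : RepWith @Etale f) : IsFormallyEtaleMor f :=
  (formal_of_repWith f).2.1 h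

/-- Affine test squares for a scheme map give test squares for its sheaf. -/
theorem infSq_of_hom {U V : Over S} (h : U ⟶ V) (A : Type u) [CommRing A] (I : Ideal A) (hI : I ^ 2 = ⊥)
    (a : Spec (CommRingCat.of (A ⧸ I)) ⟶ U.left) (b : Spec (CommRingCat.of A) ⟶ V.left)
    (w : Spec.map (CommRingCat.ofHom (Ideal.Quotient.mk I)) ≫ b = a ≫ h.left) :
    ∃ (sq : InfSq ((yon S).map h)),
      (sq.HasUniqLift → ∃! l : Spec (CommRingCat.of A) ⟶ U.left,
        Spec.map (CommRingCat.ofHom (Ideal.Quotient.mk I)) ≫ l = a ∧ l ≫ h.left = b) ∧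
      (sq.HasLift → ∃ l : Spec (CommRingCat.of A) ⟶ U.left,
        Spec.map (CommRingCat.ofHom (Ideal.Quotient.mk I)) ≫ l = a ∧ l ≫ h.left = b) ∧
      (sq.HasUniq → ∀ l l' : Spec (CommRingCat.of A) ⟶ U.left,
        Spec.map (CommRingCat.ofHom (Ideal.Quotient.mk I)) ≫ l = a → l ≫ h.left = b →
        Spec.map (CommRingCat.ofHom (Ideal.Quotient.mk I)) ≫ l' = a → l' ≫ h.left = b → l = l') := by
  let str : Spec (CommRingCat.of A) ⟶ S := b ≫ V.hom
  let T' : Over S := Over.mk str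
  let T : Over S := Over.mk (Spec.map (CommRingCat.ofHom (Ideal.Quotient.mk I)) ≫ str)
  let j : T ⟶ T' := Over.homMk (Spec.map (CommRingCat.ofHom (Ideal.Quotient.mk I))) rfl
  let α : T ⟶ U := Over.homMk a (by
    show a ≫ U.hom = _ ≫ b ≫ V.hom
    rw [← Over.w h, ← Category.assoc, ← w, Category.assoc])
  let β : T' ⟶ V := Over.homMk b rfl
  have e : α ≫ h = j ≫ β := Over.OverMorphism.ext w.symm
  let sq : InfSq ((yon S).map h) :=
    { A := A, I := I, sq_zero := hI, str := str, top := (yon S).map α, bot := (yon S).map β,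
      comm := by rw [← Functor.map_comp, e, Functor.map_comp] }
  have fwd : ∀ l : Spec (CommRingCat.of A) ⟶ U.left, Spec.map (CommRingCat.ofHom (Ideal.Quotient.mk I)) ≫ l = a →
      l ≫ h.left = b → ∃ L : T' ⟶ U, L.left = l ∧ (yon S).map j ≫ (yon S).map L = sq.top ∧
        (yon S).map L ≫ (yon S).map h = sq.bot := by
    intro l h₁ h₂
    let L : T' ⟶ U := Over.homMk l (by
      show l ≫ U.hom = b ≫ V.hom
      rw [← Over.w h, ← Category.assoc, h₂])
    refine ⟨L, rfl, ?_, ?_⟩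
    · rw [← Functor.map_comp]; exact congrArg _ (Over.OverMorphism.ext h₁)
    · rw [← Functor.map_comp]; exact congrArg _ (Over.OverMorphism.ext h₂)
  have bwd : ∀ m : (yon S).obj T' ⟶ (yon S).obj U, (yon S).map j ≫ m = sq.top → m ≫ (yon S).map h = sq.bot →
      ∃ l : Spec (CommRingCat.of A) ⟶ U.left, Spec.map (CommRingCat.ofHom (Ideal.Quotient.mk I)) ≫ l = a ∧
        l ≫ h.left = b := by
    intro m h₁ h₂
    obtain ⟨L, rfl⟩ := (yon S).map_surjective m
    rw [← Functor.map_comp] at h₁ h₂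
    exact ⟨L.left, congrArg (·.left) ((yon S).map_injective h₁), congrArg (·.left) ((yon S).map_injective h₂)⟩
  refine ⟨sq, fun hu => ?_, fun hl => ?_, fun hu l l' h₁ h₂ h₁' h₂' => ?_⟩
  · obtain ⟨m, ⟨h₁, h₂⟩, hun⟩ := hu
    obtain ⟨l, hl⟩ := bwd m h₁ h₂
    refine ⟨l, hl, fun l' hl' => ?_⟩
    obtain ⟨L, rfl, e₁, e₂⟩ := fwd l hl.1 hl.2
    obtain ⟨L', rfl, e₁', e₂'⟩ := fwd l' hl'.1 hl'.2
    rw [(yon S).map_injective ((hun _ ⟨e₁', e₂'⟩).trans (hun _ ⟨e₁, e₂⟩).symm)]
  · obtain ⟨m, h₁, h₂⟩ := hl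
    exact bwd m h₁ h₂
  · obtain ⟨L, rfl, e₁, e₂⟩ := fwd l h₁ h₂
    obtain ⟨L', rfl, e₁', e₂'⟩ := fwd l' h₁' h₂'
    rw [(yon S).map_injective (hu _ _ e₁ e₂ e₁' e₂')]

theorem isFormallyEtaleHom_of_mor {U V : Over S} {h : U ⟶ V} (hf : IsFormallyEtaleMor ((yon S).map h)) :
    MoreMor.IsFormallyEtaleHom h.left := fun A _ I hI a b w => by
  obtain ⟨sq, hsq, -⟩ := infSq_of_hom h A I hI a b w
  exact hsq (hf sq)

theorem isFormallySmoothHom_of_mor {U V : Over S} {h : U ⟶ V} (hf : IsFormallySmoothMor ((yon S).map h)) :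
    MoreMor.IsFormallySmoothHom h.left := fun A _ I hI a b w => by
  obtain ⟨sq, -, hsq, -⟩ := infSq_of_hom h A I hI a b w
  exact hsq (hf sq)

theorem formallyUnramified_left_of_mor {U V : Over S} {h : U ⟶ V} (hf : IsFormallyUnramifiedMor ((yon S).map h)) :
    AlgebraicGeometry.FormallyUnramified h.left := by
  refine AlgebraicGeometry.FormallyUnramified.of_hom_ext h.left fun R T φ hφ hker g₁ g₂ h₁ h₂ => ?_
  let e : (CommRingCat.of (R ⧸ RingHom.ker φ.hom)) ≅ T :=
    (RingHom.quotientKerEquivOfSurjective hφ).toCommRingCatIso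
  have he : CommRingCat.ofHom (Ideal.Quotient.mk (RingHom.ker φ.hom)) ≫ e.hom = φ := rfl
  have h1 : Spec.map (CommRingCat.ofHom (Ideal.Quotient.mk (RingHom.ker φ.hom))) ≫ g₁ =
      Spec.map (CommRingCat.ofHom (Ideal.Quotient.mk (RingHom.ker φ.hom))) ≫ g₂ := by
    rw [← cancel_epi (Spec.map e.hom), ← Spec.map_comp_assoc, ← Spec.map_comp_assoc, he]
    exact h₁
  obtain ⟨sq, -, -, hsq⟩ := infSq_of_hom h R (RingHom.ker φ.hom) hker _ (g₁ ≫ h.left) (Category.assoc _ _ _).symm
  exact hsq (hf sq) g₁ g₂ rfl rfl h1.symm h₂.symm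

/-- Formal properties of the chart map. -/
theorem chart_unramified {X Y : Sp S} {f : X ⟶ Y} {U V : Over S} {a : (yon S).obj U ⟶ X}
    {b : (yon S).obj V ⟶ Y} {h : U ⟶ V} (ha : RepWith @Etale a) (hb : RepWith @Etale b)
    (w : a ≫ f = (yon S).map h ≫ b) (hf : IsFormallyUnramifiedMor f) :
    AlgebraicGeometry.FormallyUnramified h.left := by
  refine formallyUnramified_left_of_mor ((S10618.result _ b
    (formallyUnramified_of_formallyEtale (formallyEtale_repWith hb))).1 ?_)
  rw [← w]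
  exact (S10619.result a f).2.2 (formallyUnramified_of_formallyEtale (formallyEtale_repWith ha)) hf

theorem chart_formallyEtale {X Y : Sp S} {f : X ⟶ Y} {U V : Over S} {a : (yon S).obj U ⟶ X}
    {b : (yon S).obj V ⟶ Y} {h : U ⟶ V} (ha : RepWith @Etale a) (hb : RepWith @Etale b)
    (w : a ≫ f = (yon S).map h ≫ b) (hf : IsFormallyEtaleMor f) : MoreMor.IsFormallyEtaleHom h.left := by
  refine isFormallyEtaleHom_of_mor ((S10618.result _ b
    (formallyUnramified_of_formallyEtale (formallyEtale_repWith hb))).2.1 ?_)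
  rw [← w]
  exact (S10619.result a f).2.1 (formallyEtale_repWith ha) hf

theorem formallyEtale_of_chart {X Y : Sp S} {f : X ⟶ Y} {U V : Over S} {a : (yon S).obj U ⟶ X}
    {b : (yon S).obj V ⟶ Y} {h : U ⟶ V} (ha : RepWith @Etale a) (has : RepWith @Surjective a)
    (hb : RepWith @Etale b) (w : a ≫ f = (yon S).map h ≫ b) (hh : IsFormallyEtaleMor ((yon S).map h)) :
    IsFormallyEtaleMor f := by
  refine formallyEtale_of_etale_surjective_comp ha has ?_
  rw [w]
  exact (S10619.result _ b).2.1 hh (formallyEtale_repWith hb)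

theorem formallyUnramified_of_chart {X Y : Sp S} {f : X ⟶ Y} {U V : Over S} {a : (yon S).obj U ⟶ X}
    {b : (yon S).obj V ⟶ Y} {h : U ⟶ V} (ha : RepWith @Etale a) (has : RepWith @Surjective a)
    (hb : RepWith @Etale b) (w : a ≫ f = (yon S).map h ≫ b) (hh : AlgebraicGeometry.FormallyUnramified h.left) :
    IsFormallyUnramifiedMor f := by
  refine formallyUnramified_of_etale_surjective_comp ha has ?_
  rw [w]
  exact (S10619.result _ b).2.2
    (formallyUnramified_of_repWith (P := @FormallyUnramified) (fun _ _ _ hk => hk)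
      ((repWith_yon_map_iff @FormallyUnramified h).2 hh))
    (formallyUnramified_of_formallyEtale (formallyEtale_repWith hb))

theorem isFormallyEtaleMor_yon {U V : Over S} {h : U ⟶ V} (hh : MoreMor.IsFormallyEtaleHom h.left) :
    IsFormallyEtaleMor ((yon S).map h) := fun sq => by
  obtain ⟨t, ht⟩ := (yon S).map_surjective sq.top
  obtain ⟨b, hb⟩ := (yon S).map_surjective sq.bot
  have e : sq.j ≫ b = t ≫ h := (yon S).map_injective (by rw [Functor.map_comp, Functor.map_comp, hb, ht, sq.comm])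
  obtain ⟨l, ⟨h₁, h₂⟩, hu⟩ := hh sq.A sq.I sq.sq_zero t.left b.left (congrArg (·.left) e)
  let L : sq.ptT' ⟶ U := Over.homMk l (by
    rw [← Over.w h, ← Category.assoc, h₂]; exact Over.w b)
  refine ⟨(yon S).map L, ⟨?_, ?_⟩, fun m hm => ?_⟩
  · rw [← Functor.map_comp, ← ht]; exact congrArg _ (Over.OverMorphism.ext h₁)
  · rw [← Functor.map_comp, ← hb]; exact congrArg _ (Over.OverMorphism.ext h₂)
  · obtain ⟨M, rfl⟩ := (yon S).map_surjective m
    have e₁ : sq.j ≫ M = t := (yon S).map_injective (by rw [Functor.map_comp, hm.1, ht])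
    have e₂ : M ≫ h = b := (yon S).map_injective (by rw [Functor.map_comp, hm.2, hb])
    exact congrArg _ (Over.OverMorphism.ext (hu _ ⟨congrArg (·.left) e₁, congrArg (·.left) e₂⟩))

end Groth.Agent.AlgSpPts
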