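import Groth.Agent.AlgSpPts.FormalThick
import Groth.Agent.HenselLib.LiftEtalePair
import Mathlib.AlgebraicGeometry.Limits
import Mathlib.RingTheory.Spectrum.Prime.Homeomorph

/-!
Formal properties of `b` from those of `a ≫ b` for `a` etale surjective.
-/

set_option autoImplicit false
set_option backward.isDefEq.respectTransparency.types false

universe u

open CategoryTheory CategoryTheory.Limits AlgebraicGeometry Opposite AlgSp Topology TensorProduct

namespace Groth.Agent.AlgSpPts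

open Groth.Agent.AlgSpLib

variable {S : Scheme.{u}} {F G H : Sp S}

section pull

variable {f : F ⟶ G} (sq : InfSq f) {A' : Type u} [CommRing A'] (φ : sq.A →+* A')

/-- The new test object. -/
noncomputable abbrev ptA : Over S := Over.mk (Spec.map (CommRingCat.ofHom φ) ≫ sq.str)

/-- The map of test objects. -/
noncomputable abbrev pullπ : ptA sq φ ⟶ sq.ptT' := Over.homMk (Spec.map (CommRingCat.ofHom φ)) rfl

theorem pullπ₀_aux : Spec.map (CommRingCat.ofHom (Ideal.quotientMap (sq.I.map φ) φ Ideal.le_comap_map)) ≫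
      Spec.map (CommRingCat.ofHom (Ideal.Quotient.mk sq.I)) =
    Spec.map (CommRingCat.ofHom (Ideal.Quotient.mk (sq.I.map φ))) ≫ Spec.map (CommRingCat.ofHom φ) := by
  rw [← Spec.map_comp, ← Spec.map_comp, ← CommRingCat.ofHom_comp, ← CommRingCat.ofHom_comp,
    Ideal.quotientMap_comp_mk]

/-- The map of small test objects. -/
noncomputable abbrev pullπ₀ :
    Over.mk (Spec.map (CommRingCat.ofHom (Ideal.Quotient.mk (sq.I.map φ))) ≫
      Spec.map (CommRingCat.ofHom φ) ≫ sq.str) ⟶ sq.ptT :=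
  Over.homMk (Spec.map (CommRingCat.ofHom (Ideal.quotientMap (sq.I.map φ) φ Ideal.le_comap_map)))
    (by dsimp; rw [← Category.assoc, ← Category.assoc, pullπ₀_aux])

/-- A lifting square restricted along a map of rings. -/
noncomputable def pullSq : InfSq f where
  A := A'
  I := sq.I.map φ
  sq_zero := by rw [← Ideal.map_pow, sq.sq_zero, Ideal.map_bot]
  str := Spec.map (CommRingCat.ofHom φ) ≫ sq.str
  top := (yon S).map (pullπ₀ sq φ) ≫ sq.top
  bot := (yon S).map (pullπ sq φ) ≫ sq.bot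
  comm := by
    rw [Category.assoc, sq.comm]
    erw [← Functor.map_comp_assoc, ← Functor.map_comp_assoc]
    congr 2
    exact Over.OverMorphism.ext (pullπ₀_aux sq φ)

theorem pullπ₀_comm : pullπ₀ sq φ ≫ sq.j = (pullSq sq φ).j ≫ pullπ sq φ :=
  Over.OverMorphism.ext (pullπ₀_aux sq φ)

theorem pull_lift {l : (yon S).obj sq.ptT' ⟶ F} (h₁ : (yon S).map sq.j ≫ l = sq.top) (h₂ : l ≫ f = sq.bot) :
    (yon S).map (pullSq sq φ).j ≫ (yon S).map (pullπ sq φ) ≫ l = (pullSq sq φ).top ∧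
      ((yon S).map (pullπ sq φ) ≫ l) ≫ f = (pullSq sq φ).bot := by
  refine ⟨?_, by rw [Category.assoc, h₂]; rfl⟩
  erw [← Functor.map_comp_assoc, ← pullπ₀_comm, Functor.map_comp_assoc, h₁]
  rfl

variable {A'' : Type u} [CommRing A''] (ψ : sq.A →+* A'') (i : A' →+* A'') (hi : i.comp φ = ψ)

/-- The map of test objects along a map of rings over the base ring. -/
noncomputable abbrev pullMap : ptA sq ψ ⟶ ptA sq φ :=
  Over.homMk (Spec.map (CommRingCat.ofHom i)) (by
    dsimp; rw [← Category.assoc, ← Spec.map_comp, ← CommRingCat.ofHom_comp, hi])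

include hi in
theorem pull_pull_lift {m : (yon S).obj (pullSq sq φ).ptT' ⟶ F}
    (h₁ : (yon S).map (pullSq sq φ).j ≫ m = (pullSq sq φ).top) (h₂ : m ≫ f = (pullSq sq φ).bot) :
    (yon S).map (pullSq sq ψ).j ≫ (yon S).map (pullMap sq φ ψ i hi) ≫ m = (pullSq sq ψ).top ∧
      ((yon S).map (pullMap sq φ ψ i hi) ≫ m) ≫ f = (pullSq sq ψ).bot := by
  have hle : sq.I.map φ ≤ (sq.I.map ψ).comap i := Ideal.map_le_iff_le_comap.2 fun x hx => by
    show i (φ x) ∈ sq.I.map ψ
    rw [← hi]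
    exact Ideal.mem_map_of_mem (i.comp φ) hx
  have eq₀ : Spec.map (CommRingCat.ofHom (Ideal.Quotient.mk (sq.I.map ψ))) ≫ Spec.map (CommRingCat.ofHom i) =
      Spec.map (CommRingCat.ofHom (Ideal.quotientMap (sq.I.map ψ) i hle)) ≫
        Spec.map (CommRingCat.ofHom (Ideal.Quotient.mk (sq.I.map φ))) := by
    rw [← Spec.map_comp, ← Spec.map_comp, ← CommRingCat.ofHom_comp, ← CommRingCat.ofHom_comp,
      Ideal.quotientMap_comp_mk]
  let q₀ : Over.mk (Spec.map (CommRingCat.ofHom (Ideal.Quotient.mk (sq.I.map ψ))) ≫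
        Spec.map (CommRingCat.ofHom ψ) ≫ sq.str) ⟶
      Over.mk (Spec.map (CommRingCat.ofHom (Ideal.Quotient.mk (sq.I.map φ))) ≫
        Spec.map (CommRingCat.ofHom φ) ≫ sq.str) :=
    Over.homMk (Spec.map (CommRingCat.ofHom (Ideal.quotientMap (sq.I.map ψ) i hle))) (by
      dsimp
      rw [← Category.assoc, ← eq₀, Category.assoc]
      congr 1
      rw [← Category.assoc, ← Spec.map_comp, ← CommRingCat.ofHom_comp, hi])
  have e₁ : (pullSq sq ψ).j ≫ pullMap sq φ ψ i hi = q₀ ≫ (pullSq sq φ).j := Over.OverMorphism.ext eq₀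
  have e₂ : q₀ ≫ pullπ₀ sq φ = pullπ₀ sq ψ := Over.OverMorphism.ext (by
    show Spec.map _ ≫ Spec.map _ = Spec.map _
    rw [← Spec.map_comp, ← CommRingCat.ofHom_comp]
    congr 2
    refine Ideal.Quotient.ringHom_ext (RingHom.ext fun x => ?_)
    show Ideal.Quotient.mk (sq.I.map ψ) (i (φ x)) = Ideal.Quotient.mk _ (ψ x)
    rw [← hi]; rfl)
  have e₃ : pullMap sq φ ψ i hi ≫ pullπ sq φ = pullπ sq ψ := Over.OverMorphism.ext (by
    show Spec.map _ ≫ Spec.map _ = Spec.map _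
    rw [← Spec.map_comp, ← CommRingCat.ofHom_comp, hi])
  refine ⟨?_, ?_⟩
  · erw [← Functor.map_comp_assoc, e₁, Functor.map_comp_assoc, h₁]
    erw [← Functor.map_comp_assoc, e₂]
    rfl
  · erw [Category.assoc, h₂]
    erw [← Functor.map_comp_assoc, e₃]
    rfl

end pull

theorem effectiveEpi_pull {f : F ⟶ G} (sq : InfSq f) {A' : Type u} [CommRing A'] (φ : sq.A →+* A')
    (he : Etale (Spec.map (CommRingCat.ofHom φ))) (hs : Surjective (Spec.map (CommRingCat.ofHom φ))) :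
    EffectiveEpi ((yon S).map (pullπ sq φ)) :=
  effectiveEpi_chart ((repWith_yon_map_iff @Etale (pullπ sq φ)).2 he)
    ((repWith_yon_map_iff @Surjective (pullπ sq φ)).2 hs)

/-- Etale locally on the test object the top arrow lifts. -/
theorem exists_etale_lift_top {a : F ⟶ G} {b : G ⟶ H} (ha : RepWith @Etale a) (ha' : RepWith @Surjective a)
    (sq : InfSq b) :
    ∃ (A' : Type u) (_ : CommRing A') (φ : sq.A →+* A'), Etale (Spec.map (CommRingCat.ofHom φ)) ∧
      Surjective (Spec.map (CommRingCat.ofHom φ)) ∧ EffectiveEpi ((yon S).map (pullπ₀ sq φ)) ∧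
      ∃ τ : (yon S).obj (pullSq sq φ).ptT ⟶ F, τ ≫ a = (pullSq sq φ).top := by
  obtain ⟨W₀, snd, fst, s⟩ := ha.1 sq.top
  have : Etale snd.left := ha.2 _ fst snd s
  have : Surjective snd.left := ha'.2 _ fst snd s
  let 𝒰 := W₀.left.affineCover
  obtain ⟨t, ht⟩ := (isCompact_univ (X := ↥(Spec (CommRingCat.of (sq.A ⧸ sq.I))))).elim_finite_subcover
    (fun i => Set.range (𝒰.f i ≫ snd.left)) (fun i => (𝒰.f i ≫ snd.left).isOpenMap.isOpen_range)
    (fun x _ => by
      obtain ⟨w, rfl⟩ := snd.left.surjective x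
      obtain ⟨i, z, rfl⟩ := 𝒰.exists_eq w
      exact Set.mem_iUnion.2 ⟨i, z, rfl⟩)
  let W : Scheme.{u} := ∐ fun i : t => 𝒰.X i.1
  let π : W ⟶ W₀.left := Sigma.desc fun i => 𝒰.f i.1
  have : IsAffine W := inferInstanceAs (IsAffine (∐ fun i : t => 𝒰.X i.1))
  have : Etale π := IsZariskiLocalAtSource.sigmaDesc fun i => inferInstance
  let q := W.isoSpec.inv ≫ π ≫ snd.left
  have : Surjective q := by
    refine ⟨fun x => ?_⟩
    obtain ⟨i, hi, z, hz⟩ := Set.mem_iUnion₂.1 (ht (Set.mem_univ x))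
    refine ⟨W.isoSpec.hom (Sigma.ι (fun i : t => 𝒰.X i.1) ⟨i, hi⟩ z), ?_⟩
    rw [← hz, ← Scheme.Hom.comp_apply, ← Scheme.Hom.comp_apply]
    simp [q, π]
  have : Etale q := inferInstance
  let C := Γ(W, ⊤)
  obtain ⟨θ, hθ⟩ : ∃ θ : CommRingCat.of (sq.A ⧸ sq.I) ⟶ C, Spec.map θ = q := Spec.map_surjective q
  have hθe : θ.hom.Etale := (HasRingHomProperty.Spec_iff (P := @Etale)).1 (by rw [hθ]; infer_instance)
  algebraize [θ.hom, θ.hom.comp (Ideal.Quotient.mk sq.I)]
  obtain ⟨B, _, _, p, hB, hp, hker⟩ := HenselLib.exists_etale_lift_quotient (A := sq.A) sq.I C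
  let φ := algebraMap sq.A B
  have hk : RingHom.ker p.toRingHom = sq.I.map φ := by
    refine le_antisymm (fun x hx => hker x hx) (Ideal.map_le_iff_le_comap.2 fun x hx => ?_)
    show p (algebraMap sq.A B x) = 0
    rw [AlgHom.commutes, IsScalarTower.algebraMap_apply sq.A (sq.A ⧸ sq.I) C, Ideal.Quotient.algebraMap_eq,
      Ideal.Quotient.eq_zero_iff_mem.2 hx, map_zero]
  let e : (B ⧸ sq.I.map φ) ≃+* C :=
    (Ideal.quotEquivOfEq hk.symm).trans (RingHom.quotientKerEquivOfSurjective hp)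
  let ψ : C ⟶ CommRingCat.of (B ⧸ sq.I.map φ) := CommRingCat.ofHom e.symm.toRingHom
  have hψθ : θ ≫ ψ = CommRingCat.ofHom (Ideal.quotientMap (sq.I.map φ) φ Ideal.le_comap_map) := by
    ext x
    show e.symm (θ.hom (Ideal.Quotient.mk sq.I x)) = Ideal.Quotient.mk _ (φ x)
    rw [e.symm_apply_eq]
    exact (p.commutes x).symm
  have : IsIso ψ := inferInstanceAs (IsIso e.symm.toCommRingCatIso.hom)
  have hcomp : Spec.map ψ ≫ q =
      Spec.map (CommRingCat.ofHom (Ideal.quotientMap (sq.I.map φ) φ Ideal.le_comap_map)) := by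
    rw [← hθ, ← Spec.map_comp, hψθ]
  refine ⟨B, inferInstance, φ, (HasRingHomProperty.Spec_iff (P := @Etale)).2
    (RingHom.etale_algebraMap.2 hB), ?_, effectiveEpi_chart ((repWith_yon_map_iff @Etale (pullπ₀ sq φ)).2 ?_)
      ((repWith_yon_map_iff @Surjective (pullπ₀ sq φ)).2 ?_), ?_⟩
  · have h1 : Surjective (Spec.map (CommRingCat.ofHom (Ideal.Quotient.mk sq.I))) :=
      ⟨(PrimeSpectrum.comap_quotientMk_bijective_of_le_nilradical (fun x hx => ⟨2, by
          show x ^ 2 ∈ (⊥ : Ideal sq.A)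
          rw [← sq.sq_zero, pow_two, pow_two]
          exact Ideal.mul_mem_mul hx hx⟩)).2⟩
    have h2 : Surjective (Spec.map (CommRingCat.ofHom (Ideal.Quotient.mk (sq.I.map φ))) ≫
        Spec.map (CommRingCat.ofHom φ)) := by
      rw [← pullπ₀_aux, ← hcomp]
      infer_instance
    exact Surjective.of_comp (Spec.map (CommRingCat.ofHom (Ideal.Quotient.mk (sq.I.map φ)))) _
  · show Etale (Spec.map _)
    rw [← hcomp]; infer_instance
  · show Surjective (Spec.map _)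
    rw [← hcomp]; infer_instance
  · let k : (pullSq sq φ).ptT ⟶ W₀ := Over.homMk (Spec.map ψ ≫ W.isoSpec.inv ≫ π) (by
      rw [← Over.w snd]
      show (Spec.map ψ ≫ W.isoSpec.inv ≫ π) ≫ snd.left ≫
          Spec.map (CommRingCat.ofHom (Ideal.Quotient.mk sq.I)) ≫ sq.str = _
      have : (Spec.map ψ ≫ W.isoSpec.inv ≫ π) ≫ snd.left = Spec.map ψ ≫ q := by simp [q]
      rw [← Category.assoc, this, hcomp, ← Category.assoc, pullπ₀_aux, Category.assoc]
      rfl)
    refine ⟨(yon S).map k ≫ fst, ?_⟩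
    rw [Category.assoc, s.w, ← Category.assoc, ← Functor.map_comp]
    have : k ≫ snd = pullπ₀ sq φ := Over.OverMorphism.ext (by
      show (Spec.map ψ ≫ W.isoSpec.inv ≫ π) ≫ snd.left = _
      refine Eq.trans ?_ hcomp
      simp [q])
    rw [this]; rfl

variable {a : F ⟶ G} {b : G ⟶ H}

theorem formallyUnramified_of_etale_surjective_comp (ha : RepWith @Etale a) (ha' : RepWith @Surjective a)
    (h : IsFormallyUnramifiedMor (a ≫ b)) : IsFormallyUnramifiedMor b := by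
  intro sq l l' h₁ h₂ h₁' h₂'
  obtain ⟨A', _, φ, he, hs, he₀, τ, hτ⟩ := exists_etale_lift_top ha ha' sq
  have := effectiveEpi_pull sq φ he hs
  have hfe := (formal_of_repWith a).2.1 ha
  refine (cancel_epi ((yon S).map (pullπ sq φ))).1 ?_
  have key : ∀ {m}, (yon S).map sq.j ≫ m = sq.top → m ≫ b = sq.bot →
      ∃ n : (yon S).obj (pullSq sq φ).ptT' ⟶ F, ((yon S).map (pullSq sq φ).j ≫ n = τ ∧
        n ≫ a = (yon S).map (pullπ sq φ) ≫ m) ∧ n ≫ a ≫ b = (pullSq sq φ).bot := by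
    intro m hm hm'
    obtain ⟨hp₁, hp₂⟩ := pull_lift sq φ hm hm'
    obtain ⟨n, hn, -⟩ := hfe ⟨_, (pullSq sq φ).I, (pullSq sq φ).sq_zero, (pullSq sq φ).str, τ,
      (yon S).map (pullπ sq φ) ≫ m, hτ.trans hp₁.symm⟩
    have hn₂ : n ≫ a = (yon S).map (pullπ sq φ) ≫ m := hn.2
    exact ⟨n, hn, (Category.assoc _ _ _).symm.trans ((congrArg (· ≫ b) hn₂).trans hp₂)⟩
  obtain ⟨n, ⟨hn₁, hn₂⟩, hn₃⟩ := key h₁ h₂
  obtain ⟨n', ⟨hn₁', hn₂'⟩, hn₃'⟩ := key h₁' h₂'
  rw [← hn₂, ← hn₂', h ⟨_, (pullSq sq φ).I, (pullSq sq φ).sq_zero, (pullSq sq φ).str, τ, (pullSq sq φ).bot,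
    by rw [← Category.assoc, hτ]; exact (pullSq sq φ).comm⟩ n n' hn₁ hn₃ hn₁' hn₃']

/-- Lifts exist etale locally. -/
theorem exists_local_lift (ha : RepWith @Etale a) (ha' : RepWith @Surjective a)
    (h : IsFormallySmoothMor (a ≫ b)) (sq : InfSq b) :
    ∃ (A' : Type u) (_ : CommRing A') (φ : sq.A →+* A'), Etale (Spec.map (CommRingCat.ofHom φ)) ∧
      Surjective (Spec.map (CommRingCat.ofHom φ)) ∧ EffectiveEpi ((yon S).map (pullπ₀ sq φ)) ∧
      (pullSq sq φ).HasLift := by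
  obtain ⟨A', _, φ, he, hs, he₀, τ, hτ⟩ := exists_etale_lift_top ha ha' sq
  obtain ⟨n, hn₁, hn₂⟩ := h ⟨_, (pullSq sq φ).I, (pullSq sq φ).sq_zero, (pullSq sq φ).str, τ, (pullSq sq φ).bot,
    by rw [← Category.assoc, hτ]; exact (pullSq sq φ).comm⟩
  refine ⟨A', inferInstance, φ, he, hs, he₀, n ≫ a, ?_, ?_⟩
  · exact (Category.assoc _ _ _).symm.trans ((congrArg (· ≫ a) hn₁).trans hτ)
  · exact (Category.assoc _ _ _).trans hn₂

theorem formallyEtale_of_etale_surjective_comp (ha : RepWith @Etale a) (ha' : RepWith @Surjective a)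
    (h : IsFormallyEtaleMor (a ≫ b)) : IsFormallyEtaleMor b := by
  have hu : IsFormallyUnramifiedMor b := formallyUnramified_of_etale_surjective_comp ha ha'
    fun sq l l' h₁ h₂ h₁' h₂' => (h sq).unique ⟨h₁, h₂⟩ ⟨h₁', h₂'⟩
  intro sq
  obtain ⟨A', _, φ, he, hs, he₀, m, hm₁, hm₂⟩ := exists_local_lift ha ha' (fun sq => (h sq).exists) sq
  have := effectiveEpi_pull sq φ he hs
  algebraize [φ]
  let R := A' ⊗[sq.A] A'
  let ψ : sq.A →+* R := algebraMap sq.A R
  let i₁ : A' →+* R := Algebra.TensorProduct.includeLeftRingHom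
  let i₂ : A' →+* R := Algebra.TensorProduct.includeRight.toRingHom
  have hi₁ : i₁.comp φ = ψ := RingHom.ext fun x => (Algebra.TensorProduct.includeLeft (R := sq.A) (S := sq.A)
    (A := A') (B := A')).commutes x
  have hi₂ : i₂.comp φ = ψ := RingHom.ext fun x => (Algebra.TensorProduct.includeRight (R := sq.A)
    (A := A') (B := A')).commutes x
  have hsp : IsPullback (Spec.map (CommRingCat.ofHom i₁)) (Spec.map (CommRingCat.ofHom i₂))
      (Spec.map (CommRingCat.ofHom φ)) (Spec.map (CommRingCat.ofHom φ)) :=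
    isPullback_SpecMap_of_isPushout _ _ _ _ (CommRingCat.isPushout_tensorProduct sq.A A' A')
  let p₁ : ptA sq ψ ⟶ ptA sq φ := Over.homMk (Spec.map (CommRingCat.ofHom i₁)) (by
    dsimp; rw [← Category.assoc, ← Spec.map_comp, ← CommRingCat.ofHom_comp, hi₁])
  let p₂ : ptA sq ψ ⟶ ptA sq φ := Over.homMk (Spec.map (CommRingCat.ofHom i₂)) (by
    dsimp; rw [← Category.assoc, ← Spec.map_comp, ← CommRingCat.ofHom_comp, hi₂])
  have hsq : IsPullback p₁ p₂ (pullπ sq φ) (pullπ sq φ) := IsPullback.of_map (Over.forget S)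
    (Over.OverMorphism.ext hsp.w) hsp
  have hloc := fun (i : A' →+* R) (hi : i.comp φ = ψ) =>
    pull_pull_lift sq φ ψ i hi hm₁ hm₂
  have e : (yon S).map p₁ ≫ m = (yon S).map p₂ ≫ m :=
    hu (pullSq sq ψ) _ _ (hloc i₁ hi₁).1 (hloc i₁ hi₁).2 (hloc i₂ hi₂).1 (hloc i₂ hi₂).2
  let l := EffectiveEpi.desc ((yon S).map (pullπ sq φ)) m fun {Z} g₁ g₂ hg => by
    have sy := yon_isPullback hsq
    rw [← sy.lift_fst g₁ g₂ hg, Category.assoc, e, ← Category.assoc, sy.lift_snd]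
  have hl : (yon S).map (pullπ sq φ) ≫ l = m := EffectiveEpi.fac _ _ _
  have h2 : l ≫ b = sq.bot := by
    refine (cancel_epi ((yon S).map (pullπ sq φ))).1 ?_
    rw [← Category.assoc, hl]; exact hm₂
  have h1 : (yon S).map sq.j ≫ l = sq.top := by
    refine (cancel_epi ((yon S).map (pullπ₀ sq φ))).1 ?_
    erw [← Functor.map_comp_assoc, pullπ₀_comm, Functor.map_comp_assoc, hl, hm₁]
    rfl
  exact ⟨l, ⟨h1, h2⟩, fun l' hl' => hu sq l' l hl'.1 hl'.2 h1 h2⟩

end Groth.Agent.AlgSpPts
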