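import Groth.Agent.AlgSpPts.FormalEtTop
import Groth.Agent.FEtHensel.Affine

/-!
The square of a restricted infinitesimal lifting problem is cartesian.
-/

set_option autoImplicit false
set_option backward.isDefEq.respectTransparency.types false

universe u

open CategoryTheory CategoryTheory.Limits AlgebraicGeometry Opposite AlgSp Topology

namespace Groth.Agent.AlgSpPts

variable {S : Scheme.{u}} {F G : Sp S} {f : F ⟶ G}

theorem isPullback_pull (sq : InfSq f) {A' : Type u} [CommRing A'] (φ : sq.A →+* A') :
    IsPullback (pullSq sq φ).j (pullπ₀ sq φ) (pullπ sq φ) sq.j := by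
  have h : IsPullback (Spec.map (CommRingCat.ofHom (Ideal.Quotient.mk (sq.I.map φ))))
      (Spec.map (CommRingCat.ofHom (Ideal.quotientMap (sq.I.map φ) φ Ideal.le_comap_map)))
      (Spec.map (CommRingCat.ofHom φ)) (Spec.map (CommRingCat.ofHom (Ideal.Quotient.mk sq.I))) :=
    isPullback_SpecMap_of_isPushout _ _ _ _ (FEtHensel.isPushout_quot sq.I (CommRingCat.ofHom φ)
      (CommRingCat.ofHom (Ideal.Quotient.mk (sq.I.map φ))) _ Ideal.Quotient.mk_surjective Ideal.mk_ker.le
      (by rw [← CommRingCat.ofHom_comp, ← CommRingCat.ofHom_comp, Ideal.quotientMap_comp_mk]))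
  exact IsPullback.of_map (Over.forget S) (pullπ₀_comm sq φ).symm h

end Groth.Agent.AlgSpPts
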