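import Groth.Agent.AlgSpPts.Formal
import Groth.Agent.AlgSpLib.AffineDescent
import Groth.Agent.AlgSpLib.Glue

/-!
Infinitesimal lifting along first order thickenings of algebraic spaces.
-/

set_option autoImplicit false
set_option backward.isDefEq.respectTransparency.types false

universe u

open CategoryTheory CategoryTheory.Limits AlgebraicGeometry Opposite AlgSp Topology

namespace Groth.Agent.AlgSpPts

open Groth.Agent.AlgSpLib

variable {S : Scheme.{u}}

/-- A square zero closed immersion into an affine scheme over `S` gives an infinitesimal lifting square. -/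
theorem exists_infSq {X Y : Sp S} {f : X ⟶ Y} {V W : Over S} (snd : W ⟶ V) [IsAffine V.left]
    [IsClosedImmersion snd.left] (hI : sqZero snd.left) (t : (yon S).obj W ⟶ X) (b : (yon S).obj V ⟶ Y)
    (w : t ≫ f = (yon S).map snd ≫ b) :
    ∃ (sq : InfSq f) (e : sq.ptT' ≅ V) (r : sq.ptT ⟶ W), r ≫ snd = sq.j ≫ e.hom ∧
      sq.top = (yon S).map r ≫ t ∧ sq.bot = (yon S).map e.hom ≫ b ∧ IsIso r := by
  obtain ⟨hW, hsurj⟩ := IsClosedImmersion.isAffine_surjective_of_isAffine snd.left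
  let φ := snd.left.appTop
  let I := RingHom.ker φ.hom
  have hI2 : I ^ 2 = ⊥ := by
    have h := congrArg (fun J : V.left.IdealSheafData => J.ideal ⟨⊤, isAffineOpen_top _⟩) hI
    simp only [Scheme.IdealSheafData.ideal_mul, Pi.mul_apply, Scheme.Hom.ker_apply,
      Scheme.IdealSheafData.ideal_bot] at h
    rw [pow_two]
    exact h
  let ε := RingHom.quotientKerEquivOfSurjective hsurj
  let ψ : Γ(W.left, ⊤) ⟶ CommRingCat.of (Γ(V.left, ⊤) ⧸ I) := CommRingCat.ofHom ε.symm.toRingHom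
  have hψ : φ ≫ ψ = CommRingCat.ofHom (Ideal.Quotient.mk I) := by
    ext x
    exact ε.symm_apply_eq.2 (RingHom.quotientKerEquivOfSurjective_apply_mk _ x).symm
  have : IsIso ψ := by
    let ψ' := ε.symm.toCommRingCatIso
    exact inferInstanceAs (IsIso ψ'.hom)
  let str : Spec (CommRingCat.of Γ(V.left, ⊤)) ⟶ S := V.left.isoSpec.inv ≫ V.hom
  let e : Over.mk str ≅ V := Over.isoMk V.left.isoSpec.symm rfl
  have hc : (Spec.map ψ ≫ W.left.isoSpec.inv) ≫ snd.left =
      Spec.map (CommRingCat.ofHom (Ideal.Quotient.mk I)) ≫ V.left.isoSpec.inv := by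
    rw [Category.assoc, ← Scheme.isoSpec_inv_naturality, ← Spec.map_comp_assoc, hψ]
  let r : Over.mk (Spec.map (CommRingCat.ofHom (Ideal.Quotient.mk I)) ≫ str) ⟶ W :=
    Over.homMk (Spec.map ψ ≫ W.left.isoSpec.inv) (by rw [← Over.w snd]; exact (reassoc_of% hc) _)
  have hr : r ≫ snd = (Over.homMk (Spec.map (CommRingCat.ofHom (Ideal.Quotient.mk I))) rfl :
      Over.mk (Spec.map (CommRingCat.ofHom (Ideal.Quotient.mk I)) ≫ str) ⟶ Over.mk str) ≫ e.hom :=
    Over.OverMorphism.ext hc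
  have : IsIso r.left := inferInstanceAs (IsIso (Spec.map ψ ≫ W.left.isoSpec.inv))
  refine ⟨⟨_, I, hI2, str, (yon S).map r ≫ t, (yon S).map e.hom ≫ b, ?_⟩, e, r, hr, rfl, rfl, ?_⟩
  · rw [Category.assoc, w]
    erw [← Functor.map_comp_assoc, ← Functor.map_comp_assoc, hr]
  · have : IsIso ((Over.forget S).map r) := this
    exact isIso_of_reflects_iso r (Over.forget S)

theorem uniq_affine {X Y : Sp S} {f : X ⟶ Y} (hf : IsFormallyUnramifiedMor f) {V W : Over S} (snd : W ⟶ V)
    [IsAffine V.left] [IsClosedImmersion snd.left] (hI : sqZero snd.left) {l l' : (yon S).obj V ⟶ X}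
    (h : (yon S).map snd ≫ l = (yon S).map snd ≫ l') (hl : l ≫ f = l' ≫ f) : l = l' := by
  obtain ⟨sq, e, r, hr, htop, hbot, -⟩ := exists_infSq snd hI ((yon S).map snd ≫ l) (l ≫ f)
    (Category.assoc _ _ _)
  have key : ∀ m : (yon S).obj V ⟶ X, (yon S).map snd ≫ m = (yon S).map snd ≫ l → m ≫ f = l ≫ f →
      (yon S).map sq.j ≫ (yon S).map e.hom ≫ m = sq.top ∧ ((yon S).map e.hom ≫ m) ≫ f = sq.bot :=
    fun m hm hm' => ⟨by rw [← Category.assoc, ← Functor.map_comp, ← hr, Functor.map_comp, Category.assoc, hm, htop],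
      by rw [Category.assoc, hm', hbot]⟩
  exact (cancel_epi ((yon S).map e.hom)).1
    (hf sq _ _ (key l rfl rfl).1 (key l rfl rfl).2 (key l' h.symm hl.symm).1 (key l' h.symm hl.symm).2)

theorem lift_unique_thick {X Y T T' : Sp S} (hT' : IsAlgSpace T') {f : X ⟶ Y}
    (hf : IsFormallyUnramifiedMor f) {j : T ⟶ T'} (hj : IsFOThickMor j) {l l' : T' ⟶ X}
    (h : j ≫ l = j ≫ l') (hl : l ≫ f = l' ≫ f) : l = l' := by
  obtain ⟨U, a, ha, has⟩ := hT'.atlas
  have := effectiveEpi_chart ha has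
  refine (cancel_epi a).1 (hom_ext_openCover (fun A : U.left.affineOpens => openOverι U A.1)
    (fun A => inferInstanceAs (IsOpenImmersion A.1.ι)) (fun z => ?_) fun A => ?_)
  · obtain ⟨A, hA, hzA, -⟩ := exists_isAffineOpen_mem_and_subset (X := U.left) (x := z) (U := ⊤) trivial
    exact ⟨⟨A, hA⟩, ⟨z, hzA⟩, rfl⟩
  · have hp : RepWith @Etale ((yon S).map (openOverι U A.1) ≫ a) :=
      repWith_yon_comp (openOverι U A.1) (inferInstanceAs (Etale A.1.ι)) ha
    obtain ⟨W, snd, fst, sq⟩ := hj.1.1 ((yon S).map (openOverι U A.1) ≫ a)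
    have : IsAffine (openOver U A.1).left := A.2
    have : IsClosedImmersion snd.left := (hj.1.2 _ fst snd sq).1
    simp only [← Category.assoc]
    refine uniq_affine hf snd (hj.2 _ fst snd A.2 hp sq) ?_ ?_
    · rw [← Category.assoc, ← sq.w, Category.assoc, h, ← Category.assoc, sq.w, Category.assoc]
    · rw [Category.assoc, Category.assoc, Category.assoc, Category.assoc, hl]

section lifting

variable {X Y T T' : Sp S} (f : X ⟶ Y) (j : T ⟶ T') (t : T ⟶ X) (b : T' ⟶ Y)

/-- A dotted arrow over one test object. -/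
def IsLiftOn {U : Over S} (a : (yon S).obj U ⟶ T') (m : (yon S).obj U ⟶ X) : Prop :=
  m ≫ f = a ≫ b ∧ ∀ (W : Over S) (snd : W ⟶ U) (fst : (yon S).obj W ⟶ T),
    fst ≫ j = (yon S).map snd ≫ a → (yon S).map snd ≫ m = fst ≫ t

variable {f j t b}

theorem IsLiftOn.comp {U V : Over S} {a : (yon S).obj U ⟶ T'} {m : (yon S).obj U ⟶ X}
    (h : IsLiftOn f j t b a m) (k : V ⟶ U) : IsLiftOn f j t b ((yon S).map k ≫ a) ((yon S).map k ≫ m) :=
  ⟨by rw [Category.assoc, h.1, Category.assoc], fun W snd fst e => by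
    rw [← Category.assoc, ← Functor.map_comp]
    exact h.2 W (snd ≫ k) fst (by rw [e, Functor.map_comp, Category.assoc])⟩

theorem IsLiftOn.unique (hf : IsFormallyUnramifiedMor f) (hj : IsFOThickMor j) {U : Over S}
    {a : (yon S).obj U ⟶ T'} (ha : RepWith @Etale a) {m m' : (yon S).obj U ⟶ X}
    (h : IsLiftOn f j t b a m) (h' : IsLiftOn f j t b a m') : m = m' := by
  refine hom_ext_openCover (fun A : U.left.affineOpens => openOverι U A.1)
    (fun A => inferInstanceAs (IsOpenImmersion A.1.ι)) (fun z => ?_) fun A => ?_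
  · obtain ⟨A, hA, hzA, -⟩ := exists_isAffineOpen_mem_and_subset (X := U.left) (x := z) (U := ⊤) trivial
    exact ⟨⟨A, hA⟩, ⟨z, hzA⟩, rfl⟩
  · have hp := repWith_yon_comp (openOverι U A.1) (inferInstanceAs (Etale A.1.ι)) ha
    obtain ⟨W, snd, fst, sq⟩ := hj.1.1 ((yon S).map (openOverι U A.1) ≫ a)
    have : IsAffine (openOver U A.1).left := A.2
    have : IsClosedImmersion snd.left := (hj.1.2 _ fst snd sq).1
    exact uniq_affine hf snd (hj.2 _ fst snd A.2 hp sq)
      (((h.comp _).2 W snd fst sq.w).trans ((h'.comp _).2 W snd fst sq.w).symm)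
      ((h.comp _).1.trans (h'.comp _).1.symm)

theorem exists_isLiftOn_affine (hf : IsFormallyEtaleMor f) (hj : IsFOThickMor j) (w : t ≫ f = j ≫ b)
    {V : Over S} [IsAffine V.left] {a : (yon S).obj V ⟶ T'} (ha : RepWith @Etale a) :
    ∃ m, IsLiftOn f j t b a m := by
  obtain ⟨W, snd, fst, sq⟩ := hj.1.1 a
  have : IsClosedImmersion snd.left := (hj.1.2 _ fst snd sq).1
  obtain ⟨q, e, r, hr, htop, hbot, hri⟩ := exists_infSq (f := f) snd
    (hj.2 _ fst snd ‹_› ha sq) (fst ≫ t) (a ≫ b) (by rw [Category.assoc, w, ← Category.assoc, sq.w, Category.assoc])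
  obtain ⟨l, ⟨hl₁, hl₂⟩, -⟩ := hf q
  refine ⟨(yon S).map e.inv ≫ l, ?_, fun W' snd' fst' e' => ?_⟩
  · rw [Category.assoc, hl₂, hbot, ← Category.assoc, ← Functor.map_comp, e.inv_hom_id,
      CategoryTheory.Functor.map_id, Category.id_comp]
  · obtain ⟨k, hk, hk'⟩ := exists_lift sq fst' snd' e'
    have hsnd : snd ≫ e.inv = inv r ≫ q.j := by
      rw [IsIso.eq_inv_comp, ← Category.assoc, hr, Category.assoc, e.hom_inv_id, Category.comp_id]
    rw [← hk, ← hk', Functor.map_comp, Category.assoc, Category.assoc]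
    congr 1
    rw [← Category.assoc, ← Functor.map_comp, hsnd, Functor.map_comp, Category.assoc, hl₁, htop,
      ← Category.assoc, ← Functor.map_comp, IsIso.inv_hom_id, CategoryTheory.Functor.map_id, Category.id_comp]

theorem exists_isLiftOn (hf : IsFormallyEtaleMor f) (hu : IsFormallyUnramifiedMor f) (hj : IsFOThickMor j)
    (w : t ≫ f = j ≫ b) {U : Over S} {a : (yon S).obj U ⟶ T'} (ha : RepWith @Etale a) :
    ∃ m, IsLiftOn f j t b a m := by
  have hA : ∀ A : U.left.affineOpens, RepWith @Etale ((yon S).map (openOverι U A.1) ≫ a) := fun A =>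
    repWith_yon_comp _ (inferInstanceAs (Etale A.1.ι)) ha
  choose μ hμ using fun A : U.left.affineOpens =>
    have : IsAffine (openOver U A.1).left := A.2
    exists_isLiftOn_affine hf hj w (hA A)
  have cover : ∀ z : ↥U.left, ∃ A : U.left.affineOpens, z ∈ Set.range (openOverι U A.1).left := fun z => by
    obtain ⟨A, hA, hzA, -⟩ := exists_isAffineOpen_mem_and_subset (X := U.left) (x := z) (U := ⊤) trivial
    exact ⟨⟨A, hA⟩, ⟨z, hzA⟩, rfl⟩
  obtain ⟨m, hm⟩ := exists_glue_openCover (fun A : U.left.affineOpens => openOverι U A.1)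
    (fun A => inferInstanceAs (IsOpenImmersion A.1.ι)) cover μ (fun A B V p q e => by
      have hp : Set.range (p ≫ openOverι U A.1).left ⊆ ((A.1 ⊓ B.1 : U.left.Opens) : Set ↥U.left) := by
        rintro _ ⟨v, rfl⟩
        exact ⟨(p.left v).2, by rw [e]; exact (q.left v).2⟩
      let k₀ := IsOpenImmersion.lift (A.1 ⊓ B.1).ι (p ≫ openOverι U A.1).left (by rwa [Scheme.Opens.range_ι])
      have hk₀ : k₀ ≫ (A.1 ⊓ B.1).ι = (p ≫ openOverι U A.1).left := IsOpenImmersion.lift_fac _ _ _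
      let k : V ⟶ openOver U (A.1 ⊓ B.1) :=
        Over.homMk k₀ ((reassoc_of% hk₀) U.hom |>.trans (Over.w (p ≫ openOverι U A.1)))
      let iA : openOver U (A.1 ⊓ B.1) ⟶ openOver U A.1 := Over.homMk (U.left.homOfLE inf_le_left) (by simp)
      let iB : openOver U (A.1 ⊓ B.1) ⟶ openOver U B.1 := Over.homMk (U.left.homOfLE inf_le_right) (by simp)
      have eA : iA ≫ openOverι U A.1 = openOverι U (A.1 ⊓ B.1) := Over.OverMorphism.ext (by simp [iA])
      have eB : iB ≫ openOverι U B.1 = openOverι U (A.1 ⊓ B.1) := Over.OverMorphism.ext (by simp [iB])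
      have : Mono (openOverι U A.1) := Over.mono_of_mono_left (openOverι U A.1)
      have : Mono (openOverι U B.1) := Over.mono_of_mono_left (openOverι U B.1)
      have hk : k ≫ openOverι U (A.1 ⊓ B.1) = p ≫ openOverι U A.1 := Over.OverMorphism.ext hk₀
      have e₁ : k ≫ iA = p := (cancel_mono (openOverι U A.1)).1 (by rw [Category.assoc, eA, hk])
      have e₂ : k ≫ iB = q := (cancel_mono (openOverι U B.1)).1 (by rw [Category.assoc, eB, hk, e])
      have h₁ := (hμ A).comp iA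
      have h₂ := (hμ B).comp iB
      rw [← Category.assoc, ← Functor.map_comp, eA] at h₁
      rw [← Category.assoc, ← Functor.map_comp, eB] at h₂
      rw [← e₁, ← e₂, Functor.map_comp, Functor.map_comp, Category.assoc, Category.assoc,
        h₁.unique hu hj (repWith_yon_comp _ (inferInstanceAs (Etale (A.1 ⊓ B.1).ι)) ha) h₂])
  refine ⟨m, hom_ext_openCover (fun A : U.left.affineOpens => openOverι U A.1)
    (fun A => inferInstanceAs (IsOpenImmersion A.1.ι)) cover (fun A => by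
      rw [← Category.assoc, hm A, (hμ A).1, Category.assoc]), fun W snd fst e => ?_⟩
  refine hom_ext_openCover (fun A : U.left.affineOpens => openOverι W (snd.left ⁻¹ᵁ A.1))
    (fun A => inferInstanceAs (IsOpenImmersion (snd.left ⁻¹ᵁ A.1).ι)) (fun z => ?_) fun A => ?_
  · obtain ⟨A, hA, hzA, -⟩ := exists_isAffineOpen_mem_and_subset (X := U.left) (x := snd.left z) (U := ⊤) trivial
    exact ⟨⟨A, hA⟩, ⟨z, hzA⟩, rfl⟩
  · let k : openOver W (snd.left ⁻¹ᵁ A.1) ⟶ openOver U A.1 :=
      Over.homMk (snd.left ∣_ A.1) (by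
        show _ ≫ A.1.ι ≫ U.hom = (snd.left ⁻¹ᵁ A.1).ι ≫ W.hom
        rw [← Over.w snd]; exact (reassoc_of% morphismRestrict_ι snd.left A.1) _)
    have hk : k ≫ openOverι U A.1 = openOverι W (snd.left ⁻¹ᵁ A.1) ≫ snd :=
      Over.OverMorphism.ext (morphismRestrict_ι snd.left A.1)
    rw [← Category.assoc, ← Functor.map_comp, ← hk, Functor.map_comp, Category.assoc, hm A,
      (hμ A).2 _ k ((yon S).map (openOverι W (snd.left ⁻¹ᵁ A.1)) ≫ fst) ?_, Category.assoc]
    rw [Category.assoc, e, ← Category.assoc, ← Functor.map_comp, ← hk, Functor.map_comp, Category.assoc]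

theorem existsUnique_lift_thick (hT : IsAlgSpace T) (hT' : IsAlgSpace T') (hf : IsFormallyEtaleMor f)
    (hj : IsFOThickMor j) (w : t ≫ f = j ≫ b) : ∃! l : T' ⟶ X, j ≫ l = t ∧ l ≫ f = b := by
  have hu : IsFormallyUnramifiedMor f := fun q l l' h₁ h₂ h₁' h₂' => (hf q).unique ⟨h₁, h₂⟩ ⟨h₁', h₂'⟩
  obtain ⟨U, a, ha, has⟩ := hT'.atlas
  have := effectiveEpi_chart ha has
  obtain ⟨m, hm⟩ := exists_isLiftOn hf hu hj w ha
  have key : ∀ {Z : Sp S} (g₁ g₂ : Z ⟶ (yon S).obj U), g₁ ≫ a = g₂ ≫ a → g₁ ≫ m = g₂ ≫ m := by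
    intro Z g₁ g₂ e
    refine hom_ext_yon fun V v => ?_
    obtain ⟨k₁, h₁⟩ := (yon S).map_surjective (v ≫ g₁)
    obtain ⟨k₂, h₂⟩ := (yon S).map_surjective (v ≫ g₂)
    obtain ⟨R, p, q, sq⟩ := exists_isPullback ha.1 a
    obtain ⟨k, hk, hk'⟩ := exists_lift sq ((yon S).map k₁) k₂
      (by rw [h₁, h₂, Category.assoc, e, Category.assoc])
    have hp : Etale p.left := prop_snd sq.flip ha
    have eq := (hm.comp p).unique hu hj (repWith_yon_comp p hp ha) (by rw [sq.w]; exact hm.comp q)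
    rw [← Category.assoc, ← Category.assoc, ← h₁, ← h₂, ← hk, ← hk', Functor.map_comp, Category.assoc,
      Category.assoc, eq]
  let l := EffectiveEpi.desc a m key
  have hl : a ≫ l = m := EffectiveEpi.fac a m key
  have hl₂ : l ≫ f = b := (cancel_epi a).1 (by rw [← Category.assoc, hl, hm.1])
  obtain ⟨W, snd, fst, sq⟩ := hj.1.1 a
  have := effectiveEpi_chart (repWith_baseChange sq.flip ha) (repWith_baseChange sq.flip has)
  have hl₁ : j ≫ l = t := (cancel_epi fst).1 (by
    rw [← Category.assoc, sq.w, Category.assoc, hl, hm.2 W snd fst sq.w])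
  exact ⟨l, ⟨hl₁, hl₂⟩, fun l' hl' => lift_unique_thick hT' hu hj (hl'.1.trans hl₁.symm) (hl'.2.trans hl₂.symm)⟩

end lifting

end Groth.Agent.AlgSpPts
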