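import Groth.Agent.AlgSpPts.FtPts
import Groth.Agent.Weighting.Local

/-!
Closed points of Jacobson algebraic spaces and schemes locally of finite type over them.
-/

set_option autoImplicit false
set_option backward.isDefEq.respectTransparency.types false

universe u

open CategoryTheory CategoryTheory.Limits AlgebraicGeometry Opposite AlgSp Topology

namespace Groth.Agent.AlgSpPts

open Groth.Agent.AlgSpLib

/-- Finite type points go to finite type points. -/
theorem lftPt_image {A B : Scheme.{u}} (f : A ⟶ B) [LocallyOfFiniteType f] {a : A}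
    (ha : LocallyOfFiniteType (A.fromSpecResidueField a)) : LocallyOfFiniteType (B.fromSpecResidueField (f a)) := by
  obtain ⟨O, -, hO, hc⟩ := FtPoint.exists_affine_isClosed (K := A.residueField a) (A.fromSpecResidueField a ≫ f)
  have e : (A.fromSpecResidueField a ≫ f).base (IsLocalRing.closedPoint (A.residueField a)) = f a := by
    show f ((A.fromSpecResidueField a) _) = _
    rw [Scheme.fromSpecResidueField_apply]
  refine FtPoint.lft_of_isClosed (e ▸ hO) ?_
  convert! hc
  exact e.symm

/-- Finite type points pull back along locally quasi-finite morphisms. -/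
theorem lftPt_of_image {A B : Scheme.{u}} (f : A ⟶ B) [LocallyQuasiFinite f] [LocallyOfFiniteType f] {a : A}
    (h : LocallyOfFiniteType (B.fromSpecResidueField (f a))) : LocallyOfFiniteType (A.fromSpecResidueField a) := by
  have : LocallyOfFiniteType (A.fromSpecResidueField a ≫ f) := by
    rw [← Scheme.Hom.SpecMap_residueFieldMap_fromSpecResidueField]
    have : LocallyOfFiniteType (Spec.map (f.residueFieldMap a)) :=
      (HasRingHomProperty.Spec_iff (P := @LocallyOfFiniteType)).2 (Groth.Agent.Weighting.residueFieldMap_finite f a).finiteType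
    infer_instance
  exact locallyOfFiniteType_of_comp _ f

variable {S : Scheme.{u}}

theorem exists_closedPoint_over {X : Sp S} (hX : IsAlgSpace X)
    (hJ : EtaleLocally (fun U => JacobsonSpace ↥U) X) {x : Points X}
    (hx : HasAt (fun U u => IsClosed ({u} : Set ↥U)) X x) {W : Over S} (g : (yon S).obj W ⟶ X)
    (hg : LocP @LocallyOfFiniteType g) (hxW : x ∈ Set.range (Points.ofPt g)) :
    ∃ w : ↥W.left, IsClosed ({w} : Set ↥W.left) ∧ Points.ofPt g w = x := by
  obtain ⟨U₀, φ, u₀, hφ, rfl, hu₀⟩ := hx
  obtain ⟨U, a, ha, has, hU⟩ := hJ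
  have hclosed : ∀ u : ↥U.left, Points.ofPt a u = Points.ofPt φ u₀ → IsClosed ({u} : Set ↥U.left) := by
    intro u hu
    obtain ⟨T, p, q, sq⟩ := exists_isPullback hφ.1 a
    obtain ⟨z, hz₀, hz⟩ := exists_point_of_isPullback sq (Points.ofPt (𝟙 _) u₀) (Points.ofPt (𝟙 _) u)
      (by rw [map_ofPt_id, map_ofPt_id, hu])
    obtain ⟨t, rfl⟩ := exists_ofScheme z
    have inj : ∀ {V : Over S} (j : T ⟶ V) (v : ↥V.left),
        Points.map ((yon S).map j) (Points.ofPt (𝟙 _) t) = Points.ofPt (𝟙 _) v → j.left t = v := by
      intro V j v h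
      rw [map_ofPt_id, ← Category.comp_id ((yon S).map j), ofPt_comp] at h
      exact (Points.schemeHomeo V).injective h
    have hp : Etale p.left := prop_snd sq.flip ha
    have hq : Etale q.left := prop_snd sq hφ
    have h0 : LocallyOfFiniteType (U₀.left.fromSpecResidueField u₀) := by
      have := isClosed_singleton_iff_isClosedImmersion.mp hu₀
      infer_instance
    have ht : LocallyOfFiniteType (T.left.fromSpecResidueField t) :=
      lftPt_of_image p.left (by rw [inj p u₀ hz₀]; exact h0)
    exact isClosed_singleton_iff_locallyOfFiniteType.2 (inj q u hz ▸ lftPt_image q.left ht)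
  obtain ⟨w₀, hw₀⟩ := hxW
  obtain ⟨R, p, q, sq⟩ := exists_isPullback ha.1 g
  have hq : Etale q.left := prop_snd sq ha
  have hqs : Surjective q.left := prop_snd sq has
  have hp : LocallyOfFiniteType p.left :=
    (locP_yon_map_iff p).1 (locP_baseChange (IsAlgSpace.yon_obj _) hX (IsAlgSpace.yon_obj _) sq.flip hg)
  have hR : JacobsonSpace ↥R.left := LocallyOfFiniteType.jacobsonSpace p.left
  have hcomm : ∀ r : ↥R.left, Points.ofPt a (p.left r) = Points.ofPt g (q.left r) := fun r => by
    rw [← ofPt_comp, sq.w, ofPt_comp]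
  obtain ⟨r₀, hr₀⟩ := q.left.surjective w₀
  have hu : IsClosed ({p.left r₀} : Set ↥U.left) := hclosed _ (by rw [hcomm, hr₀, hw₀])
  obtain ⟨r, hr, hrc⟩ := nonempty_inter_closedPoints (Z := p.left ⁻¹' {p.left r₀}) ⟨r₀, rfl⟩
    (hu.preimage p.left.continuous).isLocallyClosed
  refine ⟨q.left r, ?_, by rw [← hcomm, show p.left r = p.left r₀ from hr, hcomm, hr₀, hw₀]⟩
  have hw : LocallyOfFiniteType (W.left.fromSpecResidueField (q.left r)) :=
    lftPt_image q.left (isClosed_singleton_iff_locallyOfFiniteType.1 hrc)
  refine closure_subset_iff_isClosed.1 fun z hz => ?_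
  obtain ⟨r'', rfl⟩ := q.left.surjective z
  obtain ⟨r', hsp, hr'⟩ := Flat.generalizingMap q.left (specializes_iff_mem_closure.2 hz)
  have hr'c : IsClosed ({r'} : Set ↥R.left) :=
    isClosed_singleton_iff_locallyOfFiniteType.2 (lftPt_of_image q.left (hr'.symm ▸ hw))
  rw [Set.mem_singleton_iff, ← hr', show r'' = r' by simpa [hr'c.closure_eq] using specializes_iff_mem_closure.1 hsp]

end Groth.Agent.AlgSpPts
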