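import Groth.Agent.AlgSpLib.LocP
import Groth.Agent.AlgSpLib.FibreProduct
import Groth.Agent.AlgSpLib.DiagMor
import Groth.Agent.FppfSource.Scheme

set_option autoImplicit false
set_option backward.isDefEq.respectTransparency.types false

universe u

open CategoryTheory CategoryTheory.Limits AlgebraicGeometry Opposite AlgSp

namespace Groth.Agent.AlgSpPts

open Groth.Agent.AlgSpLib

variable {S : Scheme.{u}}

/-- A locally surjective map of fppf sheaves lifts sections fppf locally. -/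
theorem exists_fppf_lift {X Y : Sp S} (g : X ⟶ Y) (hg : Sheaf.IsLocallySurjective g) {V : Over S}
    (b : (yon S).obj V ⟶ Y) (v : ↥V.left) :
    ∃ (T : Over S) (t : T ⟶ V) (l : (yon S).obj T ⟶ X), Flat t.left ∧ LocallyOfFinitePresentation t.left ∧
      v ∈ Set.range t.left ∧ l ≫ g = (yon S).map t ≫ b := by
  have hS := hg.imageSieve_mem ((AlgSp.J S).uliftYonedaEquiv b)
  replace hS := (GrothendieckTopology.mem_over_iff (J := Scheme.fppfTopology) _).1 hS
  have : (@Flat ⊓ @LocallyOfFinitePresentation : MorphismProperty Scheme.{u}).ContainsIdentities :=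
    ⟨fun X => ⟨inferInstance, inferInstance⟩⟩
  have : Scheme.fppfPrecoverage.{u}.HasIsos :=
    inferInstanceAs ((Scheme.precoverage (@Flat ⊓ @LocallyOfFinitePresentation)).HasIsos)
  obtain ⟨R, hR, hle⟩ := Precoverage.mem_toGrothendieck_iff_of_isStableUnderComposition.1 hS
  obtain ⟨E, rfl⟩ := Precoverage.mem_iff_exists_zeroHypercover.1 hR
  obtain ⟨hcov, hP⟩ := (Scheme.ofArrows_mem_precoverage_iff _).1 hR
  obtain ⟨i, hi⟩ := hcov v
  have hm := hle _ _ (Presieve.ofArrows.mk i)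
  rw [Sieve.overEquiv_iff] at hm
  obtain ⟨x, hx⟩ := hm
  let T : Over S := Over.mk (E.f i ≫ V.hom)
  let t : T ⟶ V := Over.homMk (E.f i)
  refine ⟨T, t, (AlgSp.J S).uliftYonedaEquiv.symm x, (hP i).1, (hP i).2, hi, ?_⟩
  apply (AlgSp.J S).uliftYonedaEquiv.injective
  rw [GrothendieckTopology.uliftYonedaEquiv_comp, Equiv.apply_symm_apply,
    ← GrothendieckTopology.uliftYonedaEquiv_naturality]
  exact hx

theorem locP_of_locallySurjective_comp {P : MorphismProperty Scheme.{u}} [EtLocal P] [IsZariskiLocalAtSource P]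
    (hdesc : ∀ ⦃A B C D : Scheme.{u}⦄ (f : A ⟶ B) (m : B ⟶ C) (g : D ⟶ B) (l : D ⟶ A), Flat g →
      LocallyOfFinitePresentation g → Surjective g → l ≫ f = g → P (f ≫ m) → P m)
    {X Y Z : Sp S} (hX : IsAlgSpace X) (hY : IsAlgSpace Y) (hZ : IsAlgSpace Z) {g : X ⟶ Y} {h : Y ⟶ Z}
    (hg : Sheaf.IsLocallySurjective g) (hgh : LocP P (g ≫ h)) : LocP P h := by
  obtain ⟨V, W, b, c, k, hb, hbs, hc, -, wk⟩ := exists_chart hY hZ h
  refine locP_of_chart hb hbs hc wk ?_
  let sq := IsPullback.of_hasPullback g b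
  have hXV := isAlgSpace_of_isPullback sq hX (IsAlgSpace.yon_obj V) hY
  obtain ⟨U, a, ha, has⟩ := hXV.atlas
  obtain ⟨j, hj⟩ := (yon S).map_surjective (a ≫ pullback.snd g b)
  have hj' : (a ≫ pullback.fst g b) ≫ g = (yon S).map j ≫ b := by
    rw [hj, Category.assoc, Category.assoc, sq.w]
  have hP : P (j.left ≫ k.left) := by
    rw [← Over.comp_left]
    exact hgh _ c (j ≫ k) (repWith_comp ha (repWith_baseChange sq.flip hb)) hc
      (by rw [← Category.assoc, hj', Category.assoc, wk, Functor.map_comp, Category.assoc])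
  suffices key : ∀ v : ↥V.left, ∃ O : V.left.Opens, v ∈ O ∧ P (O.ι ≫ k.left) by
    choose O hvO hO using key
    exact (IsZariskiLocalAtSource.iff_of_iSup_eq_top O
      (eq_top_iff.2 fun v _ => TopologicalSpace.Opens.mem_iSup.2 ⟨v, hvO v⟩)).2 hO
  intro v
  obtain ⟨T, t, l, htf, htp, hv, hl⟩ := exists_fppf_lift g hg b v
  obtain ⟨T', q, p, sq'⟩ := exists_isPullback (hXV.representable_from_yon a) (pullback.lift l ((yon S).map t) hl)
  have : Etale p.left := prop_snd sq' ha
  have : Surjective p.left := prop_snd sq' has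
  have e : q ≫ j = p ≫ t := (yon S).map_injective (by
    rw [Functor.map_comp, Functor.map_comp, hj, reassoc_of% sq'.w, pullback.lift_snd])
  have el : q.left ≫ j.left = p.left ≫ t.left := by rw [← Over.comp_left, e, Over.comp_left]
  let φ := p.left ≫ t.left
  have : Flat φ := inferInstance
  have : LocallyOfFinitePresentation φ := inferInstance
  let O : V.left.Opens := ⟨Set.range φ, φ.isOpenMap.isOpen_range⟩
  refine ⟨O, ?_, ?_⟩
  · obtain ⟨x, rfl⟩ := hv
    obtain ⟨y, rfl⟩ := p.left.surjective x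
    exact ⟨y, rfl⟩
  have hle : φ ⁻¹ᵁ O ≤ q.left ⁻¹ᵁ (j.left ⁻¹ᵁ O) := fun x hx => by
    show j.left (q.left x) ∈ O
    rw [← Scheme.Hom.comp_apply, el]
    exact hx
  refine hdesc (j.left ∣_ O) (O.ι ≫ k.left) (φ ∣_ O) (q.left.resLE (j.left ⁻¹ᵁ O) (φ ⁻¹ᵁ O) hle) inferInstance
    inferInstance ⟨?_⟩ ?_ ?_
  · rintro ⟨x, y, rfl⟩
    exact ⟨⟨y, y, rfl⟩, Subtype.ext (morphismRestrict_base_coe φ O _)⟩
  · rw [← cancel_mono O.ι, Category.assoc, morphismRestrict_ι, morphismRestrict_ι, Scheme.Hom.resLE_comp_ι_assoc, el]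
  · rw [morphismRestrict_ι_assoc]
    exact IsZariskiLocalAtSource.comp hP _

end Groth.Agent.AlgSpPts
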