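import Groth.Agent.AlgSpPts.JacobsonPts
import Groth.Agent.AlgSpLib.LocP
import Groth.Agent.FibConstr.FibreMap

/-!
Locally quasi-finite morphisms of algebraic spaces and discreteness of fibres.
-/

set_option autoImplicit false
set_option backward.isDefEq.respectTransparency.types false

universe u

open CategoryTheory CategoryTheory.Limits AlgebraicGeometry Opposite AlgSp Topology

namespace Groth.Agent.AlgSpPts

open Groth.Agent.AlgSpLib

variable {S : Scheme.{u}}

/-- Locally quasi-finite and locally of finite type. -/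
abbrev Lqf : MorphismProperty Scheme.{u} := (@LocallyQuasiFinite : MorphismProperty Scheme.{u}) ⊓ @LocallyOfFiniteType

theorem discreteTopology_of_closed_points {V : Scheme.{u}} [IsLocallyNoetherian V] [JacobsonSpace ↥V]
    (h : ∀ v : V, IsClosed ({v} : Set V)) : DiscreteTopology ↥V := by
  refine discreteTopology_iff_isOpen_singleton.2 fun v => ?_
  obtain ⟨A, hA, hvA, -⟩ := exists_isAffineOpen_mem_and_subset (X := V) (x := v) (U := ⊤) trivial
  have : IsLocallyNoetherian A.toScheme := isLocallyNoetherian_of_isOpenImmersion A.ι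
  have : CompactSpace ↥A.toScheme := isCompact_iff_compactSpace.1 hA.isCompact
  have : IsNoetherian A.toScheme := ⟨⟩
  have hc : ∀ a : ↥A.toScheme, IsClosed ({a} : Set ↥A.toScheme) := fun a => by
    have e : ({a} : Set ↥A.toScheme) = A.ι ⁻¹' {A.ι a} :=
      Set.ext fun z => (A.ι.isEmbedding.injective.eq_iff).symm
    rw [e]
    exact (h (A.ι a)).preimage A.ι.continuous
  have hs : ∀ Z ∈ irreducibleComponents ↥A.toScheme, Z.Subsingleton := fun Z hZ => by
    have hg := hZ.1.isGenericPoint_genericPoint (isClosed_of_mem_irreducibleComponents Z hZ)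
    rw [← hg.def, (hc _).closure_eq]
    exact Set.subsingleton_singleton
  have : Finite ↥A.toScheme := by
    rw [← Set.finite_univ_iff, ← sUnion_irreducibleComponents]
    exact TopologicalSpace.NoetherianSpace.finite_irreducibleComponents.sUnion fun Z hZ => (hs Z hZ).finite
  have : T1Space ↥A.toScheme := ⟨hc⟩
  have : DiscreteTopology ↥A.toScheme := inferInstance
  have h' := A.2.isOpenMap_subtype_val _ (isOpen_discrete ({⟨v, hvA⟩} : Set ↥A.toScheme))
  convert h' using 1
  exact (Set.image_singleton (f := fun a : ↥A.toScheme => a.1) (a := (⟨v, hvA⟩ : ↥A.toScheme))).symm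

/-- A scheme lft over a field mapping etale onto a space with discrete points is discrete. -/
theorem discrete_of_chart {P : Sp S} (hP : IsAlgSpace P) [DiscreteTopology (Points P)] {V : Over S}
    {c : (yon S).obj V ⟶ P} (hc : RepWith @Etale c) {k : Type u} [Field k]
    (m : V.left ⟶ Spec (CommRingCat.of k)) [LocallyOfFiniteType m] : DiscreteTopology ↥V.left := by
  have : IsLocallyNoetherian V.left := LocallyOfFiniteType.isLocallyNoetherian m
  have : JacobsonSpace ↥V.left := LocallyOfFiniteType.jacobsonSpace m
  refine discreteTopology_of_closed_points fun v => ?_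
  obtain ⟨v₀, hv₀, hcl⟩ := nonempty_inter_closedPoints (Z := Points.ofPt c ⁻¹' {Points.ofPt c v}) ⟨v, rfl⟩
    ((isClosed_discrete _).preimage (Points.continuous_ofPt c)).isLocallyClosed
  obtain ⟨R, p, q, sq⟩ := exists_isPullback hc.1 c
  have : Etale p.left := prop_snd sq.flip hc
  have : Etale q.left := prop_snd sq hc
  obtain ⟨r, hr, hr'⟩ := (ofPt_eq_iff sq v₀ v).1 hv₀
  have ht : LocallyOfFiniteType (R.left.fromSpecResidueField r) :=
    lftPt_of_image p.left (by rw [hr]; exact isClosed_singleton_iff_locallyOfFiniteType.1 hcl)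
  exact isClosed_singleton_iff_locallyOfFiniteType.2 (hr' ▸ lftPt_image q.left ht)

theorem lqf_iff_discrete_fibres {X Y : Sp S} (hX : IsAlgSpace X) (hY : IsAlgSpace Y) {f : X ⟶ Y}
    (hf : LocP @LocallyOfFiniteType f) :
    LocP Lqf f ↔
      ∀ (k : Type u) [Field k] (str : Spec (CommRingCat.of k) ⟶ S) (y : (yon S).obj (Over.mk str) ⟶ Y)
        (P : Sp S) (fst : P ⟶ X) (snd : P ⟶ (yon S).obj (Over.mk str)),
        IsPullback fst snd f y → DiscreteTopology (Points P) := by
  refine ⟨fun h k _ str y P fst snd sq => ?_, fun h U V a b m ha hb w => ?_⟩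
  · have hP := isAlgSpace_of_isPullback sq hX (IsAlgSpace.yon_obj _) hY
    obtain ⟨W, c, hc, hcs⟩ := hP.atlas
    obtain ⟨m, hm⟩ := (yon S).map_surjective (c ≫ snd)
    have hm' : Lqf m.left := locP_baseChange hX hY (IsAlgSpace.yon_obj _) sq h c (𝟙 _) m hc (repWith_id _ _)
      (by rw [Category.comp_id, hm])
    have : LocallyQuasiFinite (m.left : W.left ⟶ Spec (CommRingCat.of k)) := hm'.1
    have : DiscreteTopology ↥W.left := by
      have hd := Scheme.Hom.isDiscrete_preimage_singleton (m.left : W.left ⟶ Spec (CommRingCat.of k))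
        (IsLocalRing.closedPoint k)
      exact isDiscrete_univ_iff.1 (hd.mono fun z _ =>
        @Subsingleton.elim ↥(Spec (CommRingCat.of k)) inferInstance _ _)
    refine discreteTopology_iff_isOpen_singleton.2 fun x => ?_
    rw [← (isQuotientMap_ofPt hc hcs).isOpen_preimage]
    exact isOpen_discrete _
  · have hlft : LocallyOfFiniteType m.left := hf a b m ha hb w
    refine ⟨(locallyQuasiFinite_iff_isDiscrete_preimage_singleton).2 fun v => ?_, hlft⟩
    let str : Spec (CommRingCat.of (V.left.residueField v)) ⟶ S := V.left.fromSpecResidueField v ≫ V.hom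
    let i : Over.mk str ⟶ V := Over.homMk (V.left.fromSpecResidueField v) rfl
    let y := (yon S).map i ≫ b
    have sq := IsPullback.of_hasPullback f y
    have hP := isAlgSpace_of_isPullback sq hX (IsAlgSpace.yon_obj _) hY
    have := h _ str y _ _ _ sq
    obtain ⟨W, p, q, sqW⟩ := exists_isPullback (hY.representable_from_yon (a ≫ f)) y
    have sqW' : IsPullback ((yon S).map p) ((yon S).map q) (a ≫ f) (𝟙 _ ≫ y) := by rwa [Category.id_comp]
    have hc := exists_chart_of_isPullback sq sqW' ha (repWith_id _ _)
    have : LocallyOfFiniteType (q.left : W.left ⟶ Spec (CommRingCat.of (V.left.residueField v))) :=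
      locP_baseChange hX hY (IsAlgSpace.yon_obj _) sq hf _ (𝟙 _) q hc (repWith_id _ _) (IsPullback.lift_snd _ _ _ _)
    have hW : DiscreteTopology ↥W.left :=
      discrete_of_chart hP hc (q.left : W.left ⟶ Spec (CommRingCat.of (V.left.residueField v)))
    let F : Over S := Over.mk (m.left.fiberι v ≫ U.hom)
    let e₁ : F ⟶ U := Over.homMk (m.left.fiberι v) rfl
    let e₂ : F ⟶ Over.mk str := Over.homMk (m.left.fiberToSpecResidueField v) (by
      show _ ≫ V.left.fromSpecResidueField v ≫ V.hom = m.left.fiberι v ≫ U.hom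
      rw [← Over.w m]
      exact ((reassoc_of% (m.left.fiber_fac v)) _).symm)
    obtain ⟨g, hg, -⟩ := exists_lift sqW ((yon S).map e₁) e₂ (by
      rw [w, ← Category.assoc, ← Functor.map_comp]
      show _ = (yon S).map e₂ ≫ (yon S).map i ≫ b
      rw [← Category.assoc, ← Functor.map_comp]
      congr 2
      exact Over.OverMorphism.ext (pullback.condition))
    have hgι : g ≫ p = e₁ := (yon S).map_injective (by rw [Functor.map_comp]; exact hg)
    have hinj : Function.Injective g.left := fun x y e => (m.left.fiberι v).isEmbedding.injective (by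
      show e₁.left x = e₁.left y
      rw [← hgι]
      exact congrArg p.left e)
    have : DiscreteTopology ↥(m.left.fiber v) :=
      DiscreteTopology.of_continuous_injective g.left.continuous hinj
    have : DiscreteTopology ↥(m.left ⁻¹' {v}) :=
      DiscreteTopology.of_continuous_injective (m.left.fiberHomeo v).symm.continuous (m.left.fiberHomeo v).symm.injective
    exact isDiscrete_iff_discreteTopology.2 this

theorem fibreDimAt_nonneg {A B : Scheme.{u}} (h : A ⟶ B) (x : A) : 0 ≤ FlatMor.fibreDimAt h x := by
  refine le_iInf fun U => ?_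
  have : Nonempty (TopologicalSpace.IrreducibleCloseds ↥(U.1 : Set ↥(h.fiber (h.base x)))) :=
    ⟨⟨irreducibleComponent ⟨_, U.2⟩, isIrreducible_irreducibleComponent, isClosed_irreducibleComponent⟩⟩
  exact Order.krullDim_nonneg

theorem lqf_iff_fibreDim_zero {X Y : Sp S} (hX : IsAlgSpace X) (hY : IsAlgSpace Y) {f : X ⟶ Y}
    (hf : LocP @LocallyOfFiniteType f) :
    LocP Lqf f ↔ ∀ x : Points X, HasAtMor (fun _ _ h u => FlatMor.fibreDimAt h u = 0) f x := by
  constructor
  · intro h x
    obtain ⟨U, V, a, b, m, ha, has, hb, -, w⟩ := exists_chart hX hY f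
    obtain ⟨u, rfl⟩ := surjective_ofPt has x
    have := (h a b m ha hb w).1
    have : LocallyOfFiniteType m.left := (h a b m ha hb w).2
    exact ⟨U, V, a, b, m, u, ha, hb, w, rfl, le_antisymm
      ((FibConstr.locallyQuasiFinite_iff_fibreDimAt m.left).1 inferInstance u) (fibreDimAt_nonneg _ _)⟩
  · intro h
    rw [lqf_iff_discrete_fibres hX hY hf]
    intro k _ str y P fst snd sq
    refine discreteTopology_iff_isOpen_singleton.2 fun z => ?_
    obtain ⟨U, V, a, b, m, u, ha, hb, w, hu, h0⟩ := h (Points.map fst z)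
    have : LocallyOfFiniteType m.left := hf a b m ha hb w
    let O : U.left.Opens := ⟨{v | FlatMor.fibreDimAt m.left v ≤ 0}, FibreSemi.isOpen_le m.left 0⟩
    let j : openOver U O ⟶ U := openOverι U O
    have hmO : LocallyQuasiFinite (j ≫ m).left :=
      (FibConstr.locallyQuasiFinite_iff_fibreDimAt (O.ι ≫ m.left)).2 fun v => by
        rw [GeomUnib.SectionBC.fibreDimAt_restrict (f := m.left) (f' := O.ι ≫ m.left) (j := O.ι) (i := 𝟙 _)
          (Category.comp_id _) v]
        exact v.2
    let a' := (yon S).map j ≫ a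
    have ha' : RepWith @Etale a' := repWith_yon_comp j (inferInstanceAs (Etale O.ι)) ha
    obtain ⟨K, v, κ, sqK⟩ := exists_isPullback hb.1 y
    have hκ : Etale κ.left := prop_snd sqK hb
    let W := pullback (j ≫ m) v
    let p : W ⟶ openOver U O := pullback.fst _ _
    let q : W ⟶ Over.mk str := pullback.snd (j ≫ m) v ≫ κ
    have sqW : IsPullback ((yon S).map p) ((yon S).map q) (a' ≫ f) (𝟙 _ ≫ y) := by
      rw [Category.id_comp, Category.assoc, w, ← Category.assoc, ← Functor.map_comp, Functor.map_comp]
      exact (yon_isPullback (IsPullback.of_hasPullback (j ≫ m) v)).paste_vert sqK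
    have hc := exists_chart_of_isPullback sq sqW ha' (repWith_id _ _)
    have : LocallyQuasiFinite (q.left : W.left ⟶ Spec (CommRingCat.of k)) := by
      have h1 : LocallyQuasiFinite (pullback.snd (j ≫ m) v).left :=
        MorphismProperty.of_isPullback (P := @LocallyQuasiFinite)
          ((IsPullback.of_hasPullback (j ≫ m) v).map (Over.forget S)) hmO
      show LocallyQuasiFinite ((pullback.snd (j ≫ m) v).left ≫ κ.left)
      infer_instance
    have : DiscreteTopology ↥W.left := by
      have hd := Scheme.Hom.isDiscrete_preimage_singleton (q.left : W.left ⟶ Spec (CommRingCat.of k))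
        (IsLocalRing.closedPoint k)
      exact isDiscrete_univ_iff.1 (hd.mono fun z _ =>
        @Subsingleton.elim ↥(Spec (CommRingCat.of k)) inferInstance _ _)
    have huO : u ∈ O := h0.le
    obtain ⟨z', hz₁, hz₂⟩ := exists_point_of_isPullback (IsPullback.of_hasPullback a' fst)
      (Points.ofPt (𝟙 _) (⟨u, huO⟩ : O.toScheme)) z (by rw [map_ofPt_id, ofPt_comp]; exact hu)
    have e : (pullback.fst a' fst) ≫ a' ≫ f = (pullback.snd a' fst ≫ snd) ≫ 𝟙 _ ≫ y := by
      rw [Category.id_comp, Category.assoc (pullback.snd a' fst), ← sq.w]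
      exact pullback.condition_assoc f
    let g := sqW.lift (pullback.fst a' fst) (pullback.snd a' fst ≫ snd) e
    obtain ⟨w₀, hw₀⟩ := exists_ofScheme (Points.map g z')
    have hz : Points.ofPt (sq.lift ((yon S).map p ≫ a') ((yon S).map q ≫ 𝟙 _)
        ((Category.assoc _ _ _).trans (sqW.w.trans (Category.assoc _ _ _).symm))) w₀ = z := by
      rw [← map_ofPt_id, hw₀, ← Points.map_comp, ← hz₂]
      refine congrArg (fun t => Points.map t z') (sq.hom_ext ?_ ?_)
      · rw [Category.assoc, sq.lift_fst, ← Category.assoc, sqW.lift_fst, pullback.condition]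
      · rw [Category.assoc, sq.lift_snd, Category.comp_id, sqW.lift_snd]
    rw [← hz, ← Set.image_singleton]
    exact isOpenMap_ofPt_of_etale hc _ (isOpen_discrete _)

end Groth.Agent.AlgSpPts
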