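import Mathlib.AlgebraicGeometry.Morphisms.UniversallyOpen
import Mathlib.AlgebraicGeometry.Fiber
import Mathlib.AlgebraicGeometry.Noetherian

set_option autoImplicit false
set_option backward.isDefEq.respectTransparency.types false

universe u

open CategoryTheory CategoryTheory.Limits AlgebraicGeometry Opposite Topology

namespace Groth.Agent.AlgSpPts.MaxPts

/-- points without proper generization -/
def maxPts (X : Type*) [TopologicalSpace X] : Set X := {x | ∀ y : X, y ⤳ x → y = x}

theorem maxPts_eq_genericPoints (X : Type*) [TopologicalSpace X] [T0Space X] [QuasiSober X] :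
    maxPts X = genericPoints X := by
  ext x
  refine ⟨fun h => ?_, fun h y hy => ?_⟩
  · have hη := isIrreducible_irreducibleComponent.isGenericPoint_genericPoint
      (isClosed_irreducibleComponent (x := x))
    have e := h _ (hη.specializes mem_irreducibleComponent)
    show closure {x} ∈ irreducibleComponents X
    rw [e] at hη
    rw [hη.def]
    exact irreducibleComponent_mem_irreducibleComponents x
  · have hsub : closure {x} ⊆ closure {y} :=
      closure_minimal (by simpa using hy.mem_closure) isClosed_closure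
    have := (h.2 isIrreducible_singleton.closure hsub).antisymm hsub
    exact (show IsGenericPoint y (closure {x}) from this).eq rfl

theorem finite_maxPts_iff (X : Type*) [TopologicalSpace X] [T0Space X] [QuasiSober X] :
    (maxPts X).Finite ↔ (irreducibleComponents X).Finite := by
  rw [maxPts_eq_genericPoints]
  exact ⟨fun h => Set.finite_coe_iff.1 (@Finite.of_equiv _ _ (Set.finite_coe_iff.2 h) genericPoints.equiv),
    fun h => genericPoints.finite h⟩

theorem finite_maxPts_of_flat {U V : Scheme.{u}} (g : U ⟶ V) [Flat g] [LocallyOfFiniteType g] [QuasiCompact g]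
    (h : (maxPts V).Finite) : (maxPts U).Finite := by
  have hsub : maxPts U ⊆ ⋃ η ∈ maxPts V, g.fiberι η '' maxPts (g.fiber η) := by
    intro x hx
    have hmax : g x ∈ maxPts V := fun y hy => by
      obtain ⟨y', hy', rfl⟩ := Flat.generalizingMap g hy
      rw [hx y' hy']
    refine Set.mem_iUnion₂.2 ⟨g x, hmax, (g.fiberHomeo (g x)).symm ⟨x, rfl⟩, fun y hy => ?_,
      g.fiberι_fiberHomeo_symm _ _⟩
    apply (g.fiberHomeo (g x)).injective
    rw [Homeomorph.apply_symm_apply]
    apply Subtype.ext
    apply hx
    have := (hy.map (g.fiberHomeo (g x)).continuous).map continuous_subtype_val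
    rwa [Homeomorph.apply_symm_apply] at this
  refine (h.biUnion fun η _ => Set.Finite.image _ ?_).subset hsub
  have : LocallyOfFiniteType (g.fiberToSpecResidueField η) := MorphismProperty.pullback_snd g _ inferInstance
  have : IsLocallyNoetherian (g.fiber η) := LocallyOfFiniteType.isLocallyNoetherian (g.fiberToSpecResidueField η)
  have : CompactSpace ↥(g.fiber η) := inferInstance
  have : IsNoetherian (g.fiber η) := ⟨⟩
  exact (finite_maxPts_iff _).2 (TopologicalSpace.NoetherianSpace.finite_irreducibleComponents)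

theorem finite_irreducibleComponents_of_flat {U V : Scheme.{u}} (g : U ⟶ V) [Flat g] [LocallyOfFiniteType g]
    (hV : ∀ W : V.Opens, IsCompact (W : Set ↥V) → (irreducibleComponents ↥W).Finite)
    (W : U.Opens) (hW : IsCompact (W : Set ↥U)) : (irreducibleComponents ↥W).Finite := by
  refine (finite_maxPts_iff ↥W.toScheme).1 ?_
  have key : ∀ x : ↥W.toScheme, ∃ O : W.toScheme.Opens, x ∈ O ∧ (maxPts ↥O.toScheme).Finite := by
    intro x
    obtain ⟨V₀, hV₀, hxV, -⟩ := exists_isAffineOpen_mem_and_subset (X := V) (x := g (W.ι x))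
      (U := ⊤) trivial
    obtain ⟨O, hO, hxO, hOV⟩ := exists_isAffineOpen_mem_and_subset (X := W.toScheme) (x := x)
      (U := (W.ι ≫ g) ⁻¹ᵁ V₀) hxV
    refine ⟨O, hxO, ?_⟩
    have : IsAffine V₀.toScheme := hV₀
    have : IsAffine O.toScheme := hO
    let g₀ : O.toScheme ⟶ V₀.toScheme := (W.ι ≫ g).resLE V₀ O hOV
    have : Flat g₀ := by dsimp [g₀]; infer_instance
    have : LocallyOfFiniteType g₀ := by dsimp [g₀]; infer_instance
    exact finite_maxPts_of_flat g₀ ((finite_maxPts_iff _).2 (hV V₀ hV₀.isCompact))
  choose O hxO hO using key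
  have : CompactSpace ↥W.toScheme := isCompact_iff_compactSpace.1 hW
  obtain ⟨t, ht⟩ := isCompact_univ.elim_finite_subcover (fun x => (O x : Set ↥W.toScheme))
    (fun x => (O x).isOpen) (fun x _ => Set.mem_iUnion.2 ⟨x, hxO x⟩)
  refine (t.finite_toSet.biUnion fun x _ => (hO x).image (O x).ι).subset fun y hy => ?_
  obtain ⟨x, hxt, hyx⟩ := Set.mem_iUnion₂.1 (ht (Set.mem_univ y))
  refine Set.mem_iUnion₂.2 ⟨x, hxt, ⟨y, hyx⟩, fun z hz => ?_, rfl⟩
  exact (O x).ι.isOpenEmbedding.injective (hy _ (hz.map (O x).ι.continuous))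

end Groth.Agent.AlgSpPts.MaxPts
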