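import Groth.Agent.AlgSpPts.Sober

/-!
Specializations from a point represented by a quasi-compact monomorphism from a field lift to etale charts.
-/

set_option autoImplicit false
set_option backward.isDefEq.respectTransparency.types false

universe u

open CategoryTheory CategoryTheory.Limits AlgebraicGeometry Opposite AlgSp Topology

namespace Groth.Agent.AlgSpPts

open Groth.Agent.AlgSpLib

variable {S : Scheme.{u}} {X : Sp S}

theorem finite_preimage_qcPoint (p : FieldPt X) (hq : RepWith @QuasiCompact p.toHom) {U : Over S}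
    [CompactSpace ↥U.left] {a : (yon S).obj U ⟶ X} (ha : RepWith @Etale a) :
    (Points.ofPt a ⁻¹' {Points.mk p}).Finite := by
  obtain ⟨W, r, q, sq⟩ := exists_isPullback hq.1 a
  have hr : Etale (r.left : W.left ⟶ Spec (CommRingCat.of p.K)) := prop_snd sq.flip ha
  have : QuasiCompact q.left := prop_snd sq hq
  have : CompactSpace ↥W.left := QuasiCompact.compactSpace_of_compactSpace q.left
  have : IsAffine p.pt.left := inferInstanceAs (IsAffine (Spec (CommRingCat.of p.K)))
  have : QuasiCompact (r.left : W.left ⟶ Spec (CommRingCat.of p.K)) :=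
    quasiCompact_of_compactSpace (r.left : W.left ⟶ Spec (CommRingCat.of p.K))
  have hfin : (Set.univ : Set ↥W.left).Finite :=
    ((r.left : W.left ⟶ Spec (CommRingCat.of p.K)).finite_preimage_singleton (IsLocalRing.closedPoint p.K)).subset
      fun z _ => @Subsingleton.elim ↥(Spec (CommRingCat.of p.K)) inferInstance _ _
  refine (hfin.image q.left).subset fun u hu => ?_
  obtain ⟨w, -, hw⟩ := (ofPt_eq_iff sq (IsLocalRing.closedPoint p.K) u).1
    ((Points.ofPt_toHom p _).trans (hu : Points.ofPt a u = Points.mk p).symm)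
  exact ⟨w, trivial, hw⟩

theorem exists_generization_over (p : FieldPt X) (hq : RepWith @QuasiCompact p.toHom) {U : Over S}
    {a : (yon S).obj U ⟶ X} (ha : RepWith @Etale a) {x : Points X} (h : Points.mk p ⤳ x) {u : ↥U.left}
    (hu : Points.ofPt a u = x) : ∃ u' : ↥U.left, u' ⤳ u ∧ Points.ofPt a u' = Points.mk p := by
  obtain ⟨A, hA, huA, -⟩ := exists_isAffineOpen_mem_and_subset (X := U.left) (x := u) (U := ⊤) trivial
  let b := (yon S).map (openOverι U A) ≫ a
  have hb : RepWith @Etale b := repWith_yon_comp (openOverι U A) (inferInstanceAs (Etale A.ι)) ha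
  have : CompactSpace ↥(openOver U A).left := isCompact_iff_compactSpace.1 hA.isCompact
  have hbu : Points.ofPt b (⟨u, huA⟩ : A.toScheme) = x := (ofPt_comp _ _ _).trans hu
  have : (⟨u, huA⟩ : A.toScheme) ∈ closure (⋃ v ∈ Points.ofPt b ⁻¹' {Points.mk p}, {v}) := by
    rw [Set.biUnion_of_singleton]
    refine mem_closure_iff.2 fun O hO huO => ?_
    obtain ⟨v, hvO, hv⟩ := h.mem_open (isOpenMap_ofPt_of_etale hb _ hO) ⟨_, huO, hbu⟩
    exact ⟨v, hvO, hv⟩
  rw [(finite_preimage_qcPoint p hq hb).closure_biUnion] at this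
  obtain ⟨v, hv, hvu⟩ := Set.mem_iUnion₂.1 this
  refine ⟨(openOverι U A).left v, ?_, ?_⟩
  · exact (specializes_iff_mem_closure.2 hvu).map (openOverι U A).left.continuous
  · rw [← ofPt_comp]
    exact hv

theorem exists_generization_of_flat {Y : Sp S} (hX : IsAlgSpace X) (hY : IsAlgSpace Y) {f : Y ⟶ X}
    (hf : LocP @Flat f) (p : FieldPt X) (hq : RepWith @QuasiCompact p.toHom) {x : Points X}
    (h : Points.mk p ⤳ x) {y : Points Y} (hy : Points.map f y = x) :
    ∃ y' : Points Y, y' ⤳ y ∧ Points.map f y' = Points.mk p := by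
  obtain ⟨U, V, a, b, m, ha, has, hb, -, w⟩ := exists_chart hY hX f
  obtain ⟨u, rfl⟩ := surjective_ofPt has y
  have : Flat m.left := hf a b m ha hb w
  have hmu : Points.ofPt b (m.left u) = x := by rw [← ofPt_comp, ← w, ← Points.map_ofPt, hy]
  obtain ⟨v, hv, hbv⟩ := exists_generization_over p hq hb h hmu
  obtain ⟨u', hu', rfl⟩ := Flat.generalizingMap m.left hv
  exact ⟨Points.ofPt a u', hu'.map (Points.continuous_ofPt a), by rw [Points.map_ofPt, w, ofPt_comp, hbv]⟩

end Groth.Agent.AlgSpPts
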