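import Groth.Agent.AlgSpLib.Glue
import Groth.Agent.AlgSpLib.DiagMor
import Groth.Agent.AlgSpLib.FibreProduct
import Groth.Agent.FlatDescent.Dom.FlatPreimage
import Groth.Agent.FlatDescent.Dom.Preimage
import Groth.Agent.S3843
import Groth.Prelude.Def_AlgSpSub

/-!
Schematically dense open subspaces on charts.
-/

set_option autoImplicit false
set_option backward.isDefEq.respectTransparency.types false

universe u

open CategoryTheory CategoryTheory.Limits AlgebraicGeometry Opposite AlgSp Topology

namespace Groth.Agent.AlgSpPts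

open Groth.Agent.AlgSpLib

/-- Schematic density descends along flat surjections. -/
theorem schDense_of_preimage {V' V : Scheme.{u}} (g : V' ⟶ V) [Flat g] [Surjective g] (W : V.Opens)
    (h : CInt.IsSchematicallyDense (g ⁻¹ᵁ W)) : CInt.IsSchematicallyDense W := by
  intro O a b hab
  refine TopCat.Presheaf.section_ext V.sheaf _ _ _ fun x hx => ?_
  obtain ⟨y, rfl⟩ := g.surjective x
  have hinj : Function.Injective (g.stalkMap y).hom := by
    algebraize [(g.stalkMap y).hom]
    have : Module.Flat (V.presheaf.stalk (g y)) (V'.presheaf.stalk y) := Flat.stalkMap g y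
    have : IsLocalHom (algebraMap (V.presheaf.stalk (g y)) (V'.presheaf.stalk y)) := g.toLRSHom.prop y
    have : Module.FaithfullyFlat (V.presheaf.stalk (g y)) (V'.presheaf.stalk y) :=
      Module.FaithfullyFlat.of_flat_of_isLocalHom
    exact FaithfulSMul.algebraMap_injective _ _
  apply hinj
  show g.stalkMap y (V.presheaf.germ O (g y) hx a) = g.stalkMap y (V.presheaf.germ O (g y) hx b)
  rw [Scheme.Hom.germ_stalkMap_apply, Scheme.Hom.germ_stalkMap_apply]
  congr 1
  apply h (g ⁻¹ᵁ O)
  have n := g.naturality (homOfLE (inf_le_left : O ⊓ W ≤ O)).op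
  have ea := congrArg (fun m => m.hom a) n
  have eb := congrArg (fun m => m.hom b) n
  simp only [CommRingCat.hom_comp, RingHom.comp_apply] at ea eb
  rw [hab] at ea
  exact ea.symm.trans eb

variable {S : Scheme.{u}}

/-- An open of a chart representing the inverse image of an open subspace. -/
theorem exists_open_of_isPullback {G F : Sp S} {j : G ⟶ F} {V T : Over S} {φ : (yon S).obj V ⟶ F}
    {fst : (yon S).obj T ⟶ G} (t : T ⟶ V) [IsOpenImmersion t.left] (sq : IsPullback fst ((yon S).map t) j φ) :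
    ∃ fst' : (yon S).obj (openOver V t.left.opensRange) ⟶ G,
      IsPullback fst' ((yon S).map (openOverι V t.left.opensRange)) j φ := by
  let e : openOver V t.left.opensRange ≅ T := Over.isoMk t.left.isoOpensRange.symm (by
    show t.left.isoOpensRange.inv ≫ T.hom = t.left.opensRange.ι ≫ V.hom
    rw [← Over.w t, ← Category.assoc, Scheme.Hom.isoOpensRange_inv_comp])
  refine ⟨(yon S).map e.hom ≫ fst, sq.of_iso ((yon S).mapIso e).symm (Iso.refl _) (Iso.refl _) (Iso.refl _)
    (by simp) ?_ (by simp) (by simp)⟩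
  rw [Iso.refl_hom, Category.comp_id]
  show (yon S).map t = (yon S).map e.inv ≫ (yon S).map (openOverι V t.left.opensRange)
  rw [← Functor.map_comp]
  exact congrArg _ (Over.OverMorphism.ext (Scheme.Hom.isoOpensRange_hom_ι t.left).symm)

theorem exists_open {G F : Sp S} {j : G ⟶ F} (hj : RepWith @IsOpenImmersion j) {V : Over S}
    (φ : (yon S).obj V ⟶ F) :
    ∃ (W : V.left.Opens) (fst : (yon S).obj (openOver V W) ⟶ G),
      IsPullback fst ((yon S).map (openOverι V W)) j φ := by
  obtain ⟨T, t, fst, sq⟩ := hj.1 φ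
  have : IsOpenImmersion t.left := hj.2 _ fst t sq
  exact ⟨_, exists_open_of_isPullback t sq⟩

theorem open_unique {G F : Sp S} {j : G ⟶ F} {V : Over S} {φ : (yon S).obj V ⟶ F} {W W' : V.left.Opens}
    {fst : (yon S).obj (openOver V W) ⟶ G} {fst' : (yon S).obj (openOver V W') ⟶ G}
    (h : IsPullback fst ((yon S).map (openOverι V W)) j φ)
    (h' : IsPullback fst' ((yon S).map (openOverι V W')) j φ) : W = W' := by
  have key : ∀ {A B : V.left.Opens} (a : (yon S).obj (openOver V A) ⟶ G) (b : (yon S).obj (openOver V B) ⟶ G),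
      IsPullback a ((yon S).map (openOverι V A)) j φ → IsPullback b ((yon S).map (openOverι V B)) j φ → A ≤ B := by
    intro A B a b ha hb x hx
    obtain ⟨l, hl⟩ := (yon S).map_surjective (hb.lift a ((yon S).map (openOverι V A)) ha.w)
    have e : l ≫ openOverι V B = openOverι V A := (yon S).map_injective (by
      rw [Functor.map_comp, hl, IsPullback.lift_snd])
    have := congrArg (fun m => m.left ⟨x, hx⟩) e
    change (l.left ⟨x, hx⟩).1 = x at this
    rw [← this]
    exact (l.left ⟨x, hx⟩).2
  exact le_antisymm (key _ _ h h') (key _ _ h' h)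

theorem open_comp {G F : Sp S} {j : G ⟶ F} {V V' : Over S} {φ : (yon S).obj V ⟶ F} {W : V.left.Opens}
    {fst : (yon S).obj (openOver V W) ⟶ G} (h : IsPullback fst ((yon S).map (openOverι V W)) j φ) (p : V' ⟶ V) :
    ∃ fst' : (yon S).obj (openOver V' (p.left ⁻¹ᵁ W)) ⟶ G,
      IsPullback fst' ((yon S).map (openOverι V' (p.left ⁻¹ᵁ W))) j ((yon S).map p ≫ φ) := by
  let k : openOver V' (p.left ⁻¹ᵁ W) ⟶ openOver V W := Over.homMk (p.left ∣_ W) (by
    show _ ≫ W.ι ≫ V.hom = (p.left ⁻¹ᵁ W).ι ≫ V'.hom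
    rw [← Over.w p]; exact (reassoc_of% morphismRestrict_ι p.left W) _)
  have hk : IsPullback k (openOverι V' (p.left ⁻¹ᵁ W)) (openOverι V W) p :=
    IsPullback.of_map (Over.forget S) (Over.OverMorphism.ext (morphismRestrict_ι p.left W))
      (isPullback_morphismRestrict p.left W)
  exact ⟨_, (yon_isPullback hk).paste_horiz h⟩

/-- Schematic density holds on every chart. -/
theorem schDense_chart {G F : Sp S} (hF : IsAlgSpace F) {j : G ⟶ F} (hj : IsSchDense j) {V : Over S}
    {φ : (yon S).obj V ⟶ F} (hφ : RepWith @Etale φ) {W : V.left.Opens}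
    {fst : (yon S).obj (openOver V W) ⟶ G} (sq : IsPullback fst ((yon S).map (openOverι V W)) j φ) :
    CInt.IsSchematicallyDense W := by
  obtain ⟨-, V₁, φ₁, W₁, fst₁, hφ₁, hφ₁s, sq₁, hd⟩ := hj
  obtain ⟨R, p₁, p₂, sR⟩ := exists_isPullback (hF.representable_from_yon φ₁) φ
  have : Etale p₂.left := prop_snd sR hφ₁
  have : Surjective p₂.left := prop_snd sR hφ₁s
  have : Etale p₁.left := prop_snd sR.flip hφ
  obtain ⟨a, ha⟩ := open_comp sq₁ p₁
  obtain ⟨b, hb⟩ := open_comp sq p₂
  have e : p₁.left ⁻¹ᵁ W₁ = p₂.left ⁻¹ᵁ W := by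
    rw [sR.w] at ha
    exact open_unique ha hb
  apply schDense_of_preimage p₂.left
  rw [← e]
  exact S3843.result p₁.left W₁ hd

theorem isSchDense_of_chart {G F : Sp S} {j : G ⟶ F} (hj : RepWith @IsOpenImmersion j) {V : Over S}
    {φ : (yon S).obj V ⟶ F} (hφ : RepWith @Etale φ) (hφs : RepWith @Surjective φ)
    (h : ∀ (W : V.left.Opens) (fst : (yon S).obj (openOver V W) ⟶ G),
      IsPullback fst ((yon S).map (openOverι V W)) j φ → CInt.IsSchematicallyDense W) :
    IsSchDense j := by
  obtain ⟨W, fst, sq⟩ := exists_open hj φ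
  exact ⟨hj, V, φ, W, fst, hφ, hφs, sq, h W fst sq⟩

end Groth.Agent.AlgSpPts
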