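import Groth.Agent.AlgSpPts.SchDense
import Groth.Agent.AlgSpPts.Descend
import Groth.Agent.AlgSpPts.Qc
import Groth.Agent.AlgSpLib.AffineDescent
import Groth.Agent.SepLocIso.SchDense
import Groth.Agent.FlatDescent.Dom.FlatPreimage

/-!
Maps into a separated space agreeing on a schematically dense open subspace of a flat base.
-/

set_option autoImplicit false
set_option backward.isDefEq.respectTransparency.types false

universe u

open CategoryTheory CategoryTheory.Limits AlgebraicGeometry Opposite AlgSp Topology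

namespace Groth.Agent.AlgSpPts

open Groth.Agent.AlgSpLib

variable {S : Scheme.{u}}

/-- The open of a chart cut out by a quasi-compact open subspace is retrocompact. -/
theorem quasiCompact_ι_of_isQuasiCompactMor {G F : Sp S} {j : G ⟶ F} (hq : IsQuasiCompactMor j) {V : Over S}
    {φ : (yon S).obj V ⟶ F} {W : V.left.Opens} {fst : (yon S).obj (openOver V W) ⟶ G}
    (sq : IsPullback fst ((yon S).map (openOverι V W)) j φ) : QuasiCompact W.ι := by
  refine quasiCompact_iff_forall_isAffineOpen.2 fun A hA => ?_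
  have : IsAffine (openOver V A).left := hA
  obtain ⟨b, hb⟩ := open_comp sq (openOverι V A)
  have h := hq (IsAlgSpace.yon_obj (openOver V A)) (isQuasiCompactSp_yon _ inferInstance) _ _ _ hb
  have : CompactSpace (Points ((yon S).obj (openOver (openOver V A) (A.ι ⁻¹ᵁ W)))) :=
    compactSpace_points_of_isQuasiCompactSp h
  have hc : CompactSpace ↥((A.ι ⁻¹ᵁ W).toScheme) :=
    (Points.schemeHomeo (openOver (openOver V A) (A.ι ⁻¹ᵁ W))).symm.compactSpace
  rw [W.ι.isOpenEmbedding.toIsEmbedding.isCompact_iff]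
  show IsCompact (W.ι '' (W.ι ⁻¹' (A : Set ↥V.left)))
  rw [Set.image_preimage_eq_range_inter, Scheme.Opens.range_ι]
  have hi : IsCompact (A.ι '' (A.ι ⁻¹' (W : Set ↥V.left))) := by
    refine IsCompact.image ?_ A.ι.continuous
    exact isCompact_iff_compactSpace.2 hc
  rwa [Set.image_preimage_eq_range_inter, Scheme.Opens.range_ι, Set.inter_comm] at hi

/-- Two maps into a separated space agreeing on a schematically dense open of a scheme are equal. -/
theorem eq_of_schDense_yon {Y B : Sp S} {pY : Y ⟶ B} (hY : IsSeparatedMor pY) {U : Over S} {W : U.left.Opens}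
    (hW : CInt.IsSchematicallyDense W) (m₁ m₂ : (yon S).obj U ⟶ Y) (hB : m₁ ≫ pY = m₂ ≫ pY)
    (h : (yon S).map (openOverι U W) ≫ m₁ = (yon S).map (openOverι U W) ≫ m₂) : m₁ = m₂ := by
  obtain ⟨E, e, k, sq⟩ := hY.1 (pullback.lift m₁ m₂ hB)
  have : IsClosedImmersion e.left := hY.2 _ k e sq
  obtain ⟨l, hl⟩ := (yon S).map_surjective (sq.lift ((yon S).map (openOverι U W) ≫ m₁) ((yon S).map (openOverι U W)) (by
    apply pullback.hom_ext <;> simp [pullback.lift_fst, pullback.lift_snd, h]))
  have he : l ≫ e = openOverι U W := (yon S).map_injective (by rw [Functor.map_comp, hl, sq.lift_snd])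
  have hker : e.left.ker = ⊥ := le_bot_iff.mp ((Scheme.Hom.le_ker_comp l.left e.left).trans (by
    rw [← Over.comp_left, he]
    exact (SepLocIso.ker_ι_eq_bot hW).le))
  have : IsIso e.left := IsClosedImmersion.isIso_iff_ker_eq_bot.mpr hker
  have : IsIso ((Over.forget S).map e) := this
  have : IsIso e := isIso_of_reflects_iso e (Over.forget S)
  have hc : (yon S).map e ≫ m₁ = (yon S).map e ≫ m₂ := by
    have w := sq.w
    have a := congrArg (· ≫ pullback.fst pY pY) w
    have b := congrArg (· ≫ pullback.snd pY pY) w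
    simp only [Category.assoc, pullback.lift_fst, pullback.lift_snd, pullback.diagonal_fst,
      pullback.diagonal_snd, Category.comp_id] at a b
    exact a.symm.trans b
  exact (cancel_epi _).1 hc

/-- A surjective flat locally finitely presented morphism of algebraic spaces is an epimorphism. -/
theorem epi_of_flat_lfp {X Z : Sp S} (hX : IsAlgSpace X) (hZ : IsAlgSpace Z) {g : X ⟶ Z}
    (hs : IsSurjectiveMor g) (hf : LocP @Flat g) (hp : LocP @LocallyOfFinitePresentation g) : Epi g := by
  obtain ⟨U, a, ha, has⟩ := hX.atlas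
  obtain ⟨W, V, b, p, q, hb, hbs, hpa, hq₁, hq, w⟩ := exists_surjective_chart hZ hs ha has
  have : Flat q.left := hf _ b q hpa hb w
  have : LocallyOfFinitePresentation q.left := hp _ b q hpa hb w
  have : Sheaf.IsLocallySurjective ((yon S).map q) := S9885.result S _ _ _ ((repWith_yon_map_iff _ q).2 ‹Flat q.left›)
    ((repWith_yon_map_iff _ q).2 ‹LocallyOfFinitePresentation q.left›) ((repWith_yon_map_iff _ q).2 hq)
  have : Epi ((yon S).map q) := inferInstance
  have := effectiveEpi_chart hb hbs
  have : Epi (((yon S).map p ≫ a) ≫ g) := by rw [w]; infer_instance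
  exact epi_of_epi ((yon S).map p ≫ a) g

/-- A map to a separated space constant on the fibres over a dense open of the target of a cover descends. -/
theorem exists_desc_of_schDense {B X Y Z V : Sp S} (hX : IsAlgSpace X) (hZ : IsAlgSpace Z) {pX : X ⟶ B}
    {pY : Y ⟶ B} {pZ : Z ⟶ B} {f : X ⟶ Y} {g : X ⟶ Z} (hf : f ≫ pY = pX) (hg : g ≫ pZ = pX)
    (hY : IsSeparatedMor pY) (hgs : IsSurjectiveMor g) (hgf : LocP @Flat g)
    (hgp : LocP @LocallyOfFinitePresentation g) {v : V ⟶ Z} (hv : IsSchDense v) (hvq : IsQuasiCompactMor v)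
    (φ : V ⟶ Y) (hφ : pullback.fst g v ≫ f = pullback.snd g v ≫ φ) : ∃ h : Z ⟶ Y, g ≫ h = f := by
  have := epi_of_flat_lfp hX hZ hgs hgf hgp
  have := IsRegularEpiCategory.regularEpiOfEpi g
  have : EffectiveEpi g := inferInstance
  suffices key : pullback.fst g g ≫ f = pullback.snd g g ≫ f by
    exact ⟨EffectiveEpi.desc g f fun {T} g₁ g₂ e => by
      rw [← pullback.lift_fst g₁ g₂ e, Category.assoc, key, ← Category.assoc, pullback.lift_snd],
      EffectiveEpi.fac _ _ _⟩
  let sR := IsPullback.of_hasPullback g g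
  have hR := isAlgSpace_of_isPullback sR hX hX hZ
  obtain ⟨U, r, hr, hrs⟩ := hR.atlas
  have := effectiveEpi_chart hr hrs
  refine (cancel_epi r).1 ?_
  obtain ⟨-, Vc, c, W, c', hc, hcs, sqW, hW⟩ := hv
  obtain ⟨U', q, p, sq⟩ := exists_isPullback (hZ.representable_from_yon (r ≫ pullback.fst g g ≫ g)) c
  have hq : Etale q.left := prop_snd sq.flip hc
  have hqs : Surjective q.left := prop_snd sq.flip hcs
  have := effectiveEpi_chart ((repWith_yon_map_iff _ q).2 hq) ((repWith_yon_map_iff _ q).2 hqs)
  refine (cancel_epi ((yon S).map q)).1 ?_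
  have hfl : LocP @Flat (r ≫ pullback.fst g g ≫ g) :=
    locP_comp (IsAlgSpace.yon_obj _) hR hZ (locP_of_repWith (repWith_mono (fun _ _ k hk => by
        have : Etale k := hk
        exact (inferInstance : Flat k)) hr) fun A B C k m hk hm => EtLocal.comp_etale k m hk hm)
      (locP_comp hR hX hZ (locP_baseChange hX hZ hX sR.flip hgf) hgf)
  have : Flat p.left := hfl _ c p ((repWith_yon_map_iff _ q).2 hq) hc sq.w
  have : QuasiCompact W.ι := quasiCompact_ι_of_isQuasiCompactMor hvq sqW
  have hd := Groth.FlatDescent.Dom.isSchematicallyDense_preimage_flat p.left W hW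
  obtain ⟨k, hk⟩ := open_comp sqW p
  apply eq_of_schDense_yon hY hd
  · simp only [Category.assoc, hf, ← hg]
    rw [reassoc_of% sR.w]
  · have e₁ : ((yon S).map (openOverι U' (p.left ⁻¹ᵁ W)) ≫ (yon S).map q ≫ r ≫ pullback.fst g g) ≫ g = k ≫ v := by
      rw [hk.w]
      simp only [Category.assoc, ← sq.w]
    have e₂ : ((yon S).map (openOverι U' (p.left ⁻¹ᵁ W)) ≫ (yon S).map q ≫ r ≫ pullback.snd g g) ≫ g = k ≫ v := by
      rw [← e₁]
      simp only [Category.assoc, ← sR.w]
    have t₁ := congrArg (fun m => pullback.lift _ k e₁ ≫ m) hφ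
    have t₂ := congrArg (fun m => pullback.lift _ k e₂ ≫ m) hφ
    simp only [pullback.lift_fst_assoc, pullback.lift_snd_assoc, Category.assoc] at t₁ t₂
    exact t₁.trans t₂.symm

end Groth.Agent.AlgSpPts
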