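import Mathlib.AlgebraicGeometry.Morphisms.FormallyUnramified
import Mathlib.AlgebraicGeometry.Morphisms.Etale

set_option autoImplicit false
set_option backward.isDefEq.respectTransparency.types false

universe u

open CategoryTheory CategoryTheory.Limits AlgebraicGeometry

namespace Groth.Agent.AlgSpPts


theorem etale_of_unramified {A B C : Scheme.{u}} (k : A ⟶ B) (m : B ⟶ C) [Etale (k ≫ m)]
    [LocallyOfFiniteType m] [FormallyUnramified m] : Etale k := by
  have sq := pullback_lift_diagonal_isPullback k m
  have h₁ : Etale (pullback.lift (𝟙 A) k (Category.id_comp (k ≫ m)) : A ⟶ pullback (k ≫ m) m) :=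
    MorphismProperty.of_isPullback (P := @Etale) sq (inferInstance : Etale (pullback.diagonal m))
  have h₂ : Etale (pullback.snd (k ≫ m) m) := inferInstance
  have := MorphismProperty.comp_mem (W := @Etale) _ _ h₁ h₂
  rwa [pullback.lift_snd] at this

end Groth.Agent.AlgSpPts
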